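import Cfsg.Agent.Lib.Helper2.PMChain8

set_option autoImplicit false
set_option maxRecDepth 100000

/-! # Data for the automorphisms of the presented Harada–Norton group on 1539000 points: the certificate of the search of the centralizer of the element of order 11, and the tables of the candidates -/

namespace Cfsg.Agent.Lib.Helper2.HNOutD

open Cfsg.Agent.Lib.Helper2.PMC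

/-- the centralizer of the element of order 11 -/
def certCp : Cert := Cert.rl [(1, Cert.step [] (Cert.step [] (Cert.step [] (Cert.done [])))),
  (1, Cert.step [] (Cert.step [] (Cert.step [] (Cert.done [0, 0])))),
  (2, Cert.step [0, 0, 3, 1, 2, 1] (Cert.step [0, 2, 0, 2, 2, 0, 3, 3, 1, 3, 3, 0, 3, 1, 3, 1, 2, 1] (Cert.fail))),
  (2, Cert.step [0, 2, 2, 0, 2, 2, 1, 2, 1, 2] (Cert.fail)),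
  (2, Cert.step [0, 2, 4, 2, 0, 3, 1, 2, 4, 2, 1, 3, 3, 3] (Cert.fail)),
  (11, Cert.fail),
  (1, Cert.step [0, 2, 2, 0, 2, 1, 2, 1] (Cert.step [0, 2, 0, 3, 0, 3, 0, 2, 1, 2, 2, 0, 2, 2] (Cert.fail))),
  (2, Cert.step [0, 2, 0, 2, 1, 3, 3, 1, 3] (Cert.fail)),
  (3, Cert.fail),
  (1, Cert.step [0, 2, 2, 0, 2, 1, 2, 1] (Cert.step [0, 2, 0, 3, 0, 3, 0, 2, 1, 2, 2, 0, 2, 2] (Cert.fail))),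
  (5, Cert.fail),
  (1, Cert.step [0, 3, 3, 3, 1] (Cert.step [] (Cert.step [] (Cert.done [0, 2, 2, 2, 4, 2, 4])))),
  (2, Cert.step [0, 0, 2, 2, 1, 3, 1] (Cert.fail)),
  (3, Cert.fail),
  (1, Cert.step [0, 3, 3, 3, 1] (Cert.step [] (Cert.step [] (Cert.done [0, 2, 2, 2, 4, 2, 4, 0, 0])))),
  (2, Cert.fail),
  (1, Cert.step [2, 2, 2, 0, 4, 2, 0, 2, 2, 1, 2, 4, 2, 1] (Cert.fail)),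
  (1, Cert.fail),
  (1, Cert.step [2, 2, 2, 0, 4, 2, 0, 2, 2, 1, 2, 4, 2, 1] (Cert.fail)),
  (3, Cert.fail),
  (1, Cert.step [0, 2, 2, 2, 0, 2, 1, 2, 1, 3] (Cert.fail)),
  (2, Cert.fail),
  (1, Cert.step [0, 2, 2, 2, 0, 2, 1, 2, 1] (Cert.fail)),
  (5, Cert.fail),
  (1, Cert.step [2, 2, 2, 0, 2, 1, 2, 2] (Cert.fail)),
  (1, Cert.fail),
  (1, Cert.step [0, 2, 2, 2, 0, 2, 1, 2, 1, 3] (Cert.fail)),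
  (2, Cert.fail),
  (1, Cert.step [0, 2, 2, 2, 0, 2, 1, 2, 1] (Cert.fail)),
  (1, Cert.fail),
  (1, Cert.step [2, 2, 2, 0, 2, 1, 2, 2] (Cert.fail)),
  (1, Cert.fail),
  (1, Cert.step [0, 2, 4, 2, 0, 3, 1, 2, 4, 2, 2, 1, 2, 2] (Cert.fail)),
  (1, Cert.fail),
  (1, Cert.step [0, 2, 4, 2, 0, 3, 1, 2, 4, 2, 2, 1, 2, 2] (Cert.fail)),
  (3, Cert.fail),
  (1, Cert.step [2, 2, 0, 2, 0, 3, 1, 3, 1, 3] (Cert.fail)),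
  (2, Cert.fail),
  (1, Cert.step [0, 2, 2, 0, 4, 2, 1, 2, 2, 1, 2, 4] (Cert.fail)),
  (5, Cert.fail),
  (1, Cert.step [0, 2, 2, 0, 3, 1, 3, 3, 3, 1] (Cert.fail)),
  (1, Cert.fail),
  (1, Cert.step [2, 2, 0, 2, 0, 3, 1, 3, 1, 3] (Cert.fail)),
  (2, Cert.fail),
  (1, Cert.step [0, 2, 2, 0, 4, 2, 1, 2, 2, 1, 2, 4] (Cert.fail)),
  (1, Cert.fail),
  (1, Cert.step [0, 2, 2, 0, 3, 1, 3, 3, 3, 1] (Cert.fail)),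
  (2, Cert.fail),
  (1, Cert.step [0, 2, 4, 2, 2, 0, 3, 3, 1, 2, 2, 4, 1, 2, 2] (Cert.fail)),
  (1, Cert.fail),
  (1, Cert.step [0, 2, 4, 2, 2, 0, 3, 3, 1, 2, 2, 4, 1, 2, 2] (Cert.fail)),
  (1, Cert.fail),
  (1, Cert.step [0, 0, 2, 1, 1] (Cert.step [0, 2, 0, 2, 1, 2, 2, 0, 2, 1, 3, 3, 1, 2, 2] (Cert.fail))),
  (1, Cert.step [4, 2, 2, 2, 4, 3, 3, 1, 2, 4, 3, 3, 0, 2, 4, 1] (Cert.fail)),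
  (1, Cert.fail),
  (1, Cert.step [0, 0, 2, 1, 1] (Cert.step [0, 2, 0, 2, 1, 2, 2, 0, 2, 1, 3, 3, 1, 2, 2] (Cert.fail))),
  (1, Cert.step [4, 2, 2, 2, 4, 3, 3, 1, 2, 4, 3, 3, 0, 2, 4, 1] (Cert.fail)),
  (2, Cert.step [0, 2, 2, 0, 2, 2, 1, 2, 1] (Cert.fail)),
  (1, Cert.step [0, 2, 0, 2, 1, 3, 3, 1, 2] (Cert.fail)),
  (1, Cert.step [0, 2, 4, 2, 0, 3, 1, 2, 4, 2, 2, 1, 2, 2] (Cert.fail)),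
  (7, Cert.fail),
  (2, Cert.step [0, 3, 0, 2, 2, 2, 1, 3, 1, 3] (Cert.fail)),
  (5, Cert.fail),
  (1, Cert.step [2, 4, 2, 0, 2, 4, 2, 2, 4, 3, 3, 4, 2, 4, 2, 4] (Cert.fail)),
  (3, Cert.fail),
  (1, Cert.step [0, 3, 1, 3] (Cert.fail)),
  (1, Cert.fail),
  (1, Cert.step [0, 2, 0, 2, 1, 3, 3, 1, 2] (Cert.fail)),
  (1, Cert.step [0, 2, 4, 2, 0, 3, 1, 2, 4, 2, 2, 1, 2, 2] (Cert.fail)),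
  (6, Cert.fail),
  (1, Cert.step [2, 4, 2, 0, 2, 4, 2, 2, 4, 3, 3, 4, 2, 4, 2, 4] (Cert.fail)),
  (1, Cert.fail),
  (1, Cert.step [0, 3, 1, 3] (Cert.fail)),
  (2, Cert.fail),
  (1, Cert.step [2, 1, 4, 2, 2, 4, 3, 3, 0, 2, 2, 4, 3, 3, 4, 3] (Cert.fail)),
  (1, Cert.fail),
  (1, Cert.step [2, 1, 4, 2, 2, 4, 3, 3, 0, 2, 2, 4, 3, 3, 4, 3] (Cert.fail)),
  (1, Cert.fail),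
  (1, Cert.step [0, 0, 3, 1, 2, 2, 1] (Cert.step [0, 3, 3, 0, 3, 0, 3, 1, 3, 1, 2, 1] (Cert.step [] (Cert.badAt 847203)))),
  (1, Cert.step [4, 2, 2, 1, 4, 2, 2, 4, 3, 3, 0, 3, 3, 4, 2] (Cert.fail)),
  (1, Cert.fail),
  (1, Cert.step [0, 0, 3, 1, 2, 2, 1] (Cert.step [0, 3, 3, 0, 3, 0, 3, 1, 3, 1, 2, 1] (Cert.step [] (Cert.badAt 847203)))),
  (1, Cert.step [4, 2, 2, 1, 4, 2, 2, 4, 3, 3, 0, 3, 3, 4, 2] (Cert.fail)),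
  (2, Cert.step [0, 2, 2, 0, 2, 1, 3, 1, 3] (Cert.fail)),
  (1, Cert.step [0, 0, 2, 2, 1, 2, 1] (Cert.fail)),
  (1, Cert.step [2, 2, 2, 0, 4, 2, 0, 2, 2, 1, 2, 4, 2, 1] (Cert.fail)),
  (7, Cert.fail),
  (2, Cert.step [0, 2, 2, 2, 0, 2, 1, 3, 3, 1] (Cert.fail)),
  (5, Cert.fail),
  (1, Cert.step [1, 4, 2, 2, 4, 3, 3, 0, 3, 3, 4, 2, 2, 4] (Cert.fail)),
  (3, Cert.fail),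
  (1, Cert.step [0, 3, 0, 2, 1, 3, 3, 1] (Cert.fail)),
  (1, Cert.fail),
  (1, Cert.step [0, 0, 2, 2, 1, 2, 1] (Cert.fail)),
  (1, Cert.step [2, 2, 2, 0, 4, 2, 0, 2, 2, 1, 2, 4, 2, 1] (Cert.fail)),
  (6, Cert.fail),
  (1, Cert.step [1, 4, 2, 2, 4, 3, 3, 0, 3, 3, 4, 2, 2, 4] (Cert.fail)),
  (1, Cert.fail),
  (1, Cert.step [0, 3, 0, 2, 1, 3, 3, 1] (Cert.fail)),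
  (2, Cert.fail),
  (1, Cert.step [4, 2, 2, 2, 4, 3, 3, 1, 2, 4, 3, 3, 0, 2, 4, 1] (Cert.fail)),
  (2, Cert.step [0, 2, 4, 2, 0, 3, 1, 2, 4, 2, 2, 1, 2] (Cert.fail)),
  (3, Cert.fail),
  (1, Cert.step [4, 2, 2, 2, 4, 3, 3, 1, 2, 4, 3, 3, 0, 2, 4, 1] (Cert.fail)),
  (2, Cert.fail),
  (2, Cert.step [2, 0, 2, 0, 3, 3, 1, 2, 1] (Cert.fail)),
  (2, Cert.fail),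
  (1, Cert.step [0, 2, 2, 0, 3, 3, 1, 3, 1, 2] (Cert.fail)),
  (1, Cert.fail),
  (1, Cert.step [0, 0, 2, 2, 1, 3, 1, 3, 3] (Cert.fail)),
  (2, Cert.fail),
  (1, Cert.step [0, 2, 2, 0, 3, 3, 1, 3, 1, 2] (Cert.fail)),
  (1, Cert.fail),
  (1, Cert.step [0, 0, 2, 2, 1, 3, 1, 3, 3] (Cert.fail)),
  (1, Cert.step [2, 0, 3, 0, 2, 2, 1, 3, 1, 3] (Cert.fail)),
  (1, Cert.step [4, 2, 2, 2, 4, 3, 3, 1, 2, 4, 3, 3, 0, 2, 4, 1] (Cert.fail)),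
  (1, Cert.fail),
  (1, Cert.step [2, 0, 3, 0, 2, 2, 1, 3, 1, 3] (Cert.fail)),
  (1, Cert.step [4, 2, 2, 2, 4, 3, 3, 1, 2, 4, 3, 3, 0, 2, 4, 1] (Cert.fail)),
  (1, Cert.fail),
  (1, Cert.step [4, 3, 0, 3, 3, 4, 3, 4, 1, 2, 4] (Cert.fail)),
  (1, Cert.fail),
  (2, Cert.step [2, 2, 0, 3, 0, 3, 3, 3, 1, 1] (Cert.fail)),
  (1, Cert.step [0, 2, 0, 2, 1, 3, 3, 1, 3] (Cert.fail)),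
  (3, Cert.fail),
  (1, Cert.step [4, 2, 0, 2, 2, 4, 2, 4, 0, 3, 4, 3, 1, 2, 1] (Cert.fail)),
  (1, Cert.step [4, 2, 2, 0, 2, 4, 2, 4, 3, 3, 3, 4, 3, 3, 4, 2, 4] (Cert.fail)),
  (1, Cert.step [0, 0, 2, 2, 1, 3, 1] (Cert.fail)),
  (1, Cert.step [0, 2, 2, 0, 2, 1, 3, 3, 3, 1] (Cert.fail)),
  (1, Cert.step [4, 2, 2, 0, 2, 4, 2, 4, 3, 3, 3, 4, 3, 3, 4, 2, 4] (Cert.fail)),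
  (1, Cert.step [0, 0, 2, 2, 1, 3, 1] (Cert.fail)),
  (1, Cert.step [0, 2, 2, 0, 2, 1, 3, 3, 3, 1] (Cert.fail)),
  (2, Cert.step [0, 0, 2, 2, 2, 1, 2, 1, 2] (Cert.fail)),
  (1, Cert.step [3, 3, 0, 4, 3, 3, 0, 2, 2, 1, 3, 3, 4, 1, 3] (Cert.fail)),
  (1, Cert.fail),
  (1, Cert.step [0, 2, 4, 2, 0, 3, 1, 2, 4, 2, 1, 2] (Cert.fail)),
  (1, Cert.step [0, 2, 2, 0, 3, 1, 3, 3, 1] (Cert.fail)),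
  (3, Cert.fail),
  (1, Cert.step [0, 0, 2, 2, 1, 3, 1] (Cert.fail)),
  (2, Cert.step [2, 4, 2, 0, 2, 4, 2, 0, 2, 4, 1, 2, 2, 1, 3, 4] (Cert.fail)),
  (2, Cert.step [0, 3, 4, 3, 3, 1, 4, 2, 1, 2, 1, 3, 4, 3, 4, 3] (Cert.fail)),
  (1, Cert.step [0, 0, 2, 1, 2, 1, 3] (Cert.fail)),
  (2, Cert.fail),
  (1, Cert.step [2, 2, 0, 4, 2, 2, 0, 3, 1, 2, 1, 3, 3, 4, 1, 3, 1] (Cert.fail)),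
  (1, Cert.fail),
  (1, Cert.step [2, 2, 0, 4, 2, 2, 0, 3, 1, 2, 1, 3, 3, 4, 1, 3, 1] (Cert.fail)),
  (1, Cert.fail),
  (2, Cert.step [3, 0, 2, 0, 2, 2, 1, 3, 3, 1] (Cert.fail)),
  (4, Cert.fail),
  (1, Cert.step [0, 3, 0, 3, 3, 1, 3, 1, 2] (Cert.step [] (Cert.step [2, 0, 3, 0, 3, 0, 3, 3, 1, 3, 3, 0, 2, 1, 2, 2, 1, 2, 2, 1] (Cert.badAt 847203)))),
  (4, Cert.fail),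
  (2, Cert.step [2, 1, 4, 2, 2, 4, 3, 3, 0, 2, 2, 4, 3, 3, 4] (Cert.fail)),
  (1, Cert.step [0, 2, 2, 1, 2] (Cert.fail)),
  (1, Cert.fail),
  (1, Cert.step [4, 2, 0, 2, 1, 3, 4, 3, 4, 1, 2, 4, 2, 1] (Cert.fail)),
  (1, Cert.step [4, 3, 3, 4, 3, 0, 3, 3, 3, 1, 3, 4, 3, 3, 4] (Cert.fail)),
  (1, Cert.fail),
  (1, Cert.step [0, 2, 0, 2, 1, 3, 3, 1, 3] (Cert.fail)),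
  (1, Cert.fail),
  (2, Cert.step [3, 3, 0, 4, 3, 3, 0, 2, 2, 1, 3, 3, 4, 1, 3] (Cert.fail)),
  (1, Cert.fail),
  (1, Cert.step [0, 2, 4, 2, 0, 3, 1, 2, 4, 2, 1, 2] (Cert.fail)),
  (1, Cert.step [0, 2, 2, 2, 0, 2, 1, 2, 1, 2] (Cert.fail)),
  (3, Cert.fail),
  (1, Cert.step [0, 3, 0, 3, 3, 1, 3, 1, 2] (Cert.step [] (Cert.step [2, 0, 3, 0, 3, 0, 3, 3, 1, 3, 3, 0, 2, 1, 2, 2, 1, 2, 2, 1] (Cert.badAt 847203)))),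
  (1, Cert.step [0, 2, 2, 1, 2] (Cert.fail)),
  (1, Cert.fail),
  (1, Cert.step [4, 2, 0, 2, 1, 3, 4, 3, 4, 1, 2, 4, 2, 1] (Cert.fail)),
  (1, Cert.fail),
  (1, Cert.step [4, 2, 2, 1, 4, 2, 2, 4, 3, 3, 0, 3, 3, 4, 2] (Cert.fail)),
  (2, Cert.step [2, 2, 2, 0, 4, 2, 0, 2, 2, 1, 2, 4, 1] (Cert.fail)),
  (3, Cert.fail),
  (1, Cert.step [4, 2, 2, 1, 4, 2, 2, 4, 3, 3, 0, 3, 3, 4, 2] (Cert.fail)),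
  (2, Cert.fail),
  (2, Cert.step [0, 3, 0, 4, 2, 2, 2, 2, 1, 2, 2, 1, 3, 3, 4] (Cert.fail)),
  (2, Cert.fail),
  (1, Cert.step [0, 0, 2, 2, 1, 2, 1, 3, 3] (Cert.fail)),
  (1, Cert.fail),
  (1, Cert.step [3, 0, 3, 4, 3, 4, 2, 2, 0, 2, 0, 2, 2, 4, 1, 3, 4] (Cert.fail)),
  (2, Cert.fail),
  (1, Cert.step [0, 0, 2, 2, 1, 2, 1, 3, 3] (Cert.fail)),
  (1, Cert.fail),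
  (1, Cert.step [3, 0, 3, 4, 3, 4, 2, 2, 0, 2, 0, 2, 2, 4, 1, 3, 4] (Cert.fail)),
  (1, Cert.step [2, 0, 2, 0, 3, 3, 1, 2, 1, 2] (Cert.fail)),
  (1, Cert.step [4, 2, 2, 1, 4, 2, 2, 4, 3, 3, 0, 3, 3, 4, 2] (Cert.fail)),
  (1, Cert.fail),
  (1, Cert.step [2, 0, 2, 0, 3, 3, 1, 2, 1, 2] (Cert.fail)),
  (1, Cert.step [4, 2, 2, 1, 4, 2, 2, 4, 3, 3, 0, 3, 3, 4, 2] (Cert.fail)),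
  (1, Cert.fail),
  (1, Cert.step [0, 0, 2, 2, 2, 1, 3, 1, 2] (Cert.fail)),
  (1, Cert.fail),
  (2, Cert.step [0, 2, 4, 2, 0, 3, 1, 2, 4, 2, 2, 1, 3, 3] (Cert.fail)),
  (1, Cert.step [0, 0, 2, 2, 1, 3, 1] (Cert.fail)),
  (3, Cert.fail),
  (1, Cert.step [2, 0, 3, 0, 2, 2, 1, 3, 1, 2] (Cert.fail)),
  (1, Cert.step [4, 2, 0, 2, 1, 3, 4, 3, 4, 1, 2, 4, 2, 1, 3] (Cert.fail)),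
  (1, Cert.step [0, 2, 0, 2, 1, 3, 3, 1, 3] (Cert.fail)),
  (1, Cert.step [0, 0, 2, 2, 1, 3, 3, 3, 1] (Cert.fail)),
  (1, Cert.step [4, 2, 0, 2, 1, 3, 4, 3, 4, 1, 2, 4, 2, 1, 3] (Cert.fail)),
  (1, Cert.step [0, 2, 0, 2, 1, 3, 3, 1, 3] (Cert.fail)),
  (1, Cert.step [0, 0, 2, 2, 1, 3, 3, 3, 1] (Cert.fail)),
  (2, Cert.step [0, 2, 2, 0, 3, 1, 2, 2, 1] (Cert.fail)),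
  (1, Cert.step [2, 0, 3, 0, 3, 3, 1, 2, 1, 3] (Cert.fail)),
  (1, Cert.fail),
  (1, Cert.step [2, 2, 0, 3, 0, 3, 1, 3, 1, 3] (Cert.fail)),
  (1, Cert.step [2, 2, 2, 0, 2, 1, 3, 3, 3] (Cert.fail)),
  (3, Cert.fail),
  (1, Cert.step [0, 2, 0, 2, 1, 3, 3, 1, 3] (Cert.fail)),
  (2, Cert.step [2, 1, 4, 2, 2, 4, 3, 3, 0, 2, 2, 4, 3, 3, 4, 2] (Cert.fail)),
  (2, Cert.step [0, 3, 4, 3, 3, 1, 4, 2, 1, 2, 1, 3, 4, 3, 4, 3] (Cert.fail)),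
  (1, Cert.step [3, 0, 2, 2, 0, 2, 1, 3, 1] (Cert.fail)),
  (2, Cert.fail),
  (1, Cert.step [2, 2, 0, 4, 3, 3, 0, 2, 2, 1, 3, 3, 4, 1, 3] (Cert.fail)),
  (1, Cert.fail),
  (1, Cert.step [2, 2, 0, 4, 3, 3, 0, 2, 2, 1, 3, 3, 4, 1, 3] (Cert.fail)),
  (1, Cert.fail),
  (2, Cert.step [0, 2, 2, 1, 3, 3] (Cert.fail)),
  (4, Cert.fail),
  (1, Cert.step [2, 2, 0, 3, 3, 0, 3, 1, 3, 1] (Cert.step [0, 2, 2, 0, 2, 0, 2, 0, 2, 2, 2, 0, 3, 1, 2] (Cert.fail))),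
  (4, Cert.fail),
  (2, Cert.step [3, 1, 4, 3, 3, 4, 2, 2, 0, 2, 2, 4, 3, 3, 4] (Cert.fail)),
  (1, Cert.step [0, 2, 2, 2, 1, 3] (Cert.fail)),
  (1, Cert.fail),
  (1, Cert.step [4, 2, 2, 0, 3, 3, 0, 3, 3, 3, 3, 4, 1, 2, 1, 2] (Cert.fail)),
  (1, Cert.step [0, 0, 2, 2, 2, 1, 3, 1, 2] (Cert.fail)),
  (1, Cert.fail),
  (1, Cert.step [0, 0, 2, 2, 1, 3, 1] (Cert.fail)),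
  (1, Cert.fail),
  (1, Cert.step [2, 0, 3, 0, 2, 2, 1, 3, 1, 2] (Cert.fail)),
  (1, Cert.step [2, 0, 3, 0, 3, 3, 1, 2, 1, 3] (Cert.fail)),
  (1, Cert.fail),
  (1, Cert.step [2, 2, 0, 3, 0, 3, 1, 3, 1, 3] (Cert.fail)),
  (1, Cert.step [2, 2, 2, 0, 2, 1, 3, 3, 3] (Cert.fail)),
  (3, Cert.fail),
  (1, Cert.step [2, 2, 0, 3, 3, 0, 3, 1, 3, 1] (Cert.step [0, 2, 2, 0, 2, 0, 2, 0, 2, 2, 2, 0, 3, 1, 2] (Cert.fail))),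
  (1, Cert.step [0, 2, 2, 2, 1, 3] (Cert.fail)),
  (1, Cert.fail),
  (1, Cert.step [4, 2, 2, 0, 3, 3, 0, 3, 3, 3, 3, 4, 1, 2, 1, 2] (Cert.fail)),
  (1, Cert.step [0, 2, 2, 2, 0, 2, 1, 2, 1, 2] (Cert.fail)),
  (1, Cert.step [2, 2, 0, 3, 0, 3, 1, 2, 1] (Cert.fail)),
  (2, Cert.step [4, 3, 0, 4, 2, 4, 2, 2, 1, 2, 4, 2] (Cert.fail)),
  (3, Cert.fail),
  (1, Cert.step [0, 2, 2, 1, 3] (Cert.fail)),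
  (1, Cert.step [0, 2, 2, 2, 0, 2, 1, 2, 1, 2] (Cert.fail)),
  (1, Cert.step [2, 2, 0, 3, 0, 3, 1, 2, 1] (Cert.fail)),
  (1, Cert.fail),
  (1, Cert.step [0, 2, 2, 1, 3] (Cert.fail)),
  (1, Cert.fail),
  (1, Cert.step [4, 2, 0, 2, 2, 4, 2, 4, 0, 3, 4, 3, 1, 2, 1] (Cert.step [2, 4, 3, 3, 0, 4, 2, 2, 0, 2, 2, 4, 2, 2, 4, 3] (Cert.fail))),
  (1, Cert.step [2, 2, 2, 0, 4, 2, 0, 2, 2, 1, 2, 4, 1] (Cert.fail)),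
  (1, Cert.fail),
  (1, Cert.step [4, 2, 0, 2, 2, 4, 2, 4, 0, 3, 4, 3, 1, 2, 1] (Cert.step [2, 4, 3, 3, 0, 4, 2, 2, 0, 2, 2, 4, 2, 2, 4, 3] (Cert.fail))),
  (1, Cert.step [2, 2, 2, 0, 4, 2, 0, 2, 2, 1, 2, 4, 1] (Cert.fail)),
  (2, Cert.step [0, 0, 2, 2, 2, 1, 3, 1, 3, 3] (Cert.fail)),
  (1, Cert.fail),
  (1, Cert.step [0, 0, 2, 1, 3, 1, 3, 3] (Cert.fail)),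
  (1, Cert.step [0, 0, 3, 1, 2, 1] (Cert.step [] (Cert.step [] (Cert.done [0, 2, 2, 2, 4, 2, 4, 0, 2, 2, 2, 4, 2, 4, 0, 2, 2, 2, 4, 2, 4, 0, 2, 2, 2, 4, 2, 4, 0, 2, 2, 2, 4, 2, 4, 0, 2, 2, 2, 4, 2, 4, 0, 2, 2, 2, 4, 2, 4, 0, 2, 2, 2, 4, 2, 4, 0, 2, 2, 2, 4, 2, 4, 0, 2, 2, 2, 4, 2, 4])))),
  (1, Cert.step [2, 4, 2, 2, 0, 2, 1, 4, 2, 4, 2, 4, 2, 4, 1, 2, 2, 4] (Cert.fail)),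
  (1, Cert.fail),
  (2, Cert.step [3, 0, 3, 3, 1, 3, 3, 3] (Cert.fail)),
  (1, Cert.fail),
  (1, Cert.step [4, 2, 0, 2, 4, 2, 0, 3, 3, 4, 3, 3, 3, 4, 2, 1] (Cert.fail)),
  (1, Cert.fail),
  (1, Cert.step [0, 0, 2, 1, 3, 1, 3, 3] (Cert.fail)),
  (1, Cert.step [0, 0, 3, 1, 2, 1] (Cert.step [] (Cert.step [] (Cert.done [0, 2, 2, 2, 4, 2, 4, 0, 2, 2, 2, 4, 2, 4, 0, 2, 2, 2, 4, 2, 4, 0, 2, 2, 2, 4, 2, 4, 0, 2, 2, 2, 4, 2, 4, 0, 2, 2, 2, 4, 2, 4, 0, 2, 2, 2, 4, 2, 4, 0, 2, 2, 2, 4, 2, 4, 0, 2, 2, 2, 4, 2, 4, 0, 2, 2, 2, 4, 2, 4, 0, 0])))),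
  (1, Cert.step [2, 4, 2, 2, 0, 2, 1, 4, 2, 4, 2, 4, 2, 4, 1, 2, 2, 4] (Cert.fail)),
  (2, Cert.fail),
  (1, Cert.step [4, 2, 0, 2, 4, 2, 0, 3, 3, 4, 3, 3, 3, 4, 2, 1] (Cert.fail)),
  (2, Cert.fail),
  (1, Cert.step [2, 2, 0, 2, 0, 3, 1, 2, 1, 2] (Cert.fail)),
  (2, Cert.step [4, 3, 0, 3, 3, 0, 3, 4, 1, 3, 3, 1] (Cert.fail)),
  (1, Cert.fail),
  (1, Cert.step [0, 3, 1, 3, 3] (Cert.fail)),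
  (1, Cert.step [0, 2, 4, 2, 0, 3, 1, 2, 4, 2, 1, 2] (Cert.fail)),
  (1, Cert.step [2, 2, 0, 2, 0, 3, 1, 2, 1, 2] (Cert.fail)),
  (1, Cert.fail),
  (1, Cert.step [0, 3, 1, 3, 3] (Cert.fail)),
  (1, Cert.step [0, 2, 4, 2, 0, 3, 1, 2, 4, 2, 1, 2] (Cert.fail)),
  (2, Cert.fail),
  (1, Cert.step [0, 2, 4, 2, 0, 3, 1, 2, 4, 2, 1, 3, 3, 3] (Cert.fail)),
  (2, Cert.step [2, 4, 2, 2, 0, 2, 1, 4, 2, 4, 2, 4, 2, 4, 1, 2, 2, 4] (Cert.fail)),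
  (1, Cert.step [0, 3, 3, 3, 1, 2] (Cert.fail)),
  (1, Cert.fail),
  (1, Cert.step [3, 0, 4, 3, 1, 4, 3, 3, 4, 2, 2, 1, 3, 4, 3, 4, 3, 4] (Cert.fail)),
  (1, Cert.step [0, 0, 2, 2, 1, 3, 1, 2] (Cert.fail)),
  (1, Cert.fail),
  (1, Cert.step [3, 0, 4, 3, 1, 4, 3, 3, 4, 2, 2, 1, 3, 4, 3, 4, 3, 4] (Cert.fail)),
  (1, Cert.step [0, 0, 2, 2, 1, 3, 1, 2] (Cert.fail)),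
  (1, Cert.step [0, 2, 0, 3, 1, 2, 2, 1] (Cert.fail)),
  (1, Cert.step [4, 2, 2, 0, 3, 3, 0, 3, 3, 3, 3, 4, 1, 2, 1, 3] (Cert.fail)),
  (1, Cert.fail),
  (1, Cert.step [3, 0, 2, 2, 1, 2] (Cert.fail)),
  (1, Cert.fail),
  (2, Cert.step [4, 2, 2, 1, 4, 2, 2, 4, 3, 3, 0, 3, 3, 4, 2] (Cert.fail)),
  (2, Cert.fail),
  (1, Cert.step [0, 2, 0, 3, 1, 3, 1] (Cert.fail)),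
  (3, Cert.fail),
  (1, Cert.step [0, 2, 0, 3, 1, 3, 1] (Cert.fail)),
  (1, Cert.fail),
  (1, Cert.step [2, 2, 4, 2, 2, 1, 2, 2, 4, 2, 2, 4, 0, 2, 2, 4] (Cert.fail)),
  (1, Cert.fail),
  (1, Cert.step [2, 2, 4, 2, 2, 1, 2, 2, 4, 2, 2, 4, 0, 2, 2, 4] (Cert.fail)),
  (3, Cert.fail),
  (1, Cert.step [0, 0, 3, 1, 2, 2, 1] (Cert.fail)),
  (2, Cert.fail),
  (2, Cert.step [2, 2, 0, 2, 0, 3, 1, 3, 1, 2] (Cert.fail)),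
  (2, Cert.fail),
  (1, Cert.step [3, 0, 2, 0, 3, 1, 3, 3, 1, 2] (Cert.fail)),
  (2, Cert.fail),
  (1, Cert.step [0, 0, 3, 1, 2, 1] (Cert.fail)),
  (2, Cert.fail),
  (1, Cert.step [0, 3, 1, 3] (Cert.fail)),
  (4, Cert.fail),
  (1, Cert.step [0, 0, 3, 1, 3, 1] (Cert.fail)),
  (1, Cert.fail),
  (1, Cert.step [4, 2, 2, 4, 3, 3, 1, 2, 2, 4, 3, 3, 4, 3, 3, 0] (Cert.fail)),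
  (1, Cert.step [4, 2, 2, 1, 4, 2, 2, 4, 3, 3, 0, 3, 3, 4, 2] (Cert.step [3, 0, 3, 0, 3, 3, 0, 3, 3, 1, 3, 1, 2, 2, 1] (Cert.step [3, 0, 2, 1, 2, 0, 2, 1, 2, 2] (Cert.done [0, 2, 2, 2, 4, 2, 4, 0, 2, 2, 2, 4, 2, 4, 0, 2, 2, 2, 4, 2, 4, 0, 2, 2, 2, 4, 2, 4, 0, 2, 2, 2, 4, 2, 4, 0, 2, 2, 2, 4, 2, 4, 0, 2, 2, 2, 4, 2, 4])))),
  (1, Cert.fail),
  (1, Cert.step [4, 2, 2, 4, 3, 3, 1, 2, 2, 4, 3, 3, 4, 3, 3, 0] (Cert.fail)),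
  (1, Cert.step [4, 2, 2, 1, 4, 2, 2, 4, 3, 3, 0, 3, 3, 4, 2] (Cert.step [3, 0, 3, 0, 3, 3, 0, 3, 3, 1, 3, 1, 2, 2, 1] (Cert.step [3, 0, 2, 1, 2, 0, 2, 1, 2, 2] (Cert.done [0, 2, 2, 2, 4, 2, 4, 0, 2, 2, 2, 4, 2, 4, 0, 2, 2, 2, 4, 2, 4, 0, 2, 2, 2, 4, 2, 4, 0, 2, 2, 2, 4, 2, 4, 0, 2, 2, 2, 4, 2, 4, 0, 2, 2, 2, 4, 2, 4, 0, 0])))),
  (3, Cert.fail),
  (1, Cert.step [3, 0, 2, 0, 2, 2, 1, 3, 3, 1] (Cert.step [0, 3, 3, 0, 3, 0, 3, 1, 3, 3, 1, 2, 2, 1, 3] (Cert.step [2, 0, 3, 0, 3, 0, 3, 3, 1, 3, 3, 0, 2, 1, 2, 2, 1, 2, 2, 1] (Cert.badAt 847203)))),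
  (1, Cert.fail),
  (1, Cert.step [3, 0, 2, 0, 2, 2, 1, 3, 3, 1] (Cert.step [0, 3, 3, 0, 3, 0, 3, 1, 3, 3, 1, 2, 2, 1, 3] (Cert.step [2, 0, 3, 0, 3, 0, 3, 3, 1, 3, 3, 0, 2, 1, 2, 2, 1, 2, 2, 1] (Cert.badAt 847203)))),
  (1, Cert.step [0, 0, 2, 2, 2, 1, 3, 1, 3] (Cert.fail)),
  (1, Cert.step [0, 0, 2, 1, 3, 1, 3, 3] (Cert.fail)),
  (8, Cert.fail),
  (1, Cert.step [0, 2, 1] (Cert.fail)),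
  (1, Cert.step [0, 3, 1, 3] (Cert.fail)),
  (1, Cert.step [0, 2, 1] (Cert.fail)),
  (1, Cert.step [0, 3, 1, 3] (Cert.fail)),
  (1, Cert.step [4, 3, 0, 3, 4, 3, 0, 3, 4, 1, 3, 3, 1, 2, 4] (Cert.fail)),
  (1, Cert.step [0, 0, 2, 1, 3, 1, 3, 3] (Cert.fail)),
  (1, Cert.step [2, 1, 4, 2, 2, 4, 3, 3, 0, 2, 2, 4, 3, 3, 4, 2] (Cert.fail)),
  (2, Cert.step [0, 2, 2, 1, 3] (Cert.fail)),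
  (1, Cert.step [2, 2, 0, 4, 2, 0, 2, 2, 1, 2, 4, 2, 1] (Cert.fail)),
  (1, Cert.fail),
  (1, Cert.step [0, 2, 0, 3, 1, 2, 2, 1] (Cert.fail)),
  (1, Cert.step [4, 2, 2, 0, 3, 3, 0, 3, 3, 3, 3, 4, 1, 2, 1, 3] (Cert.fail)),
  (2, Cert.fail),
  (1, Cert.step [0, 0, 3, 1, 2, 2, 1] (Cert.fail)),
  (4, Cert.fail),
  (1, Cert.step [0, 0, 3, 1, 2, 1] (Cert.fail)),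
  (1, Cert.step [0, 0, 2, 2, 2, 1, 3, 1, 3, 3] (Cert.fail)),
  (2, Cert.fail),
  (1, Cert.step [4, 3, 0, 3, 4, 3, 0, 3, 4, 1, 3, 3, 1, 2, 4] (Cert.fail)),
  (1, Cert.step [0, 0, 2, 1, 3, 1, 3, 3] (Cert.fail)),
  (1, Cert.step [2, 2, 0, 4, 2, 0, 2, 2, 1, 2, 4, 2, 1] (Cert.fail)),
  (1, Cert.fail),
  (1, Cert.step [4, 2, 0, 3, 3, 4, 2, 0, 3, 3, 4, 3, 3, 3, 4, 1] (Cert.fail)),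
  (1, Cert.step [2, 2, 0, 4, 2, 2, 0, 3, 3, 1, 2, 2, 4, 3, 1] (Cert.fail)),
  (2, Cert.step [0, 0, 2, 2, 2, 1, 3, 3, 1, 2] (Cert.fail)),
  (3, Cert.fail),
  (1, Cert.step [0, 0, 2, 2, 2, 1, 2, 1, 3] (Cert.fail)),
  (1, Cert.step [4, 2, 0, 3, 3, 4, 2, 0, 3, 3, 4, 3, 3, 3, 4, 1] (Cert.fail)),
  (1, Cert.step [2, 2, 0, 4, 2, 2, 0, 3, 3, 1, 2, 2, 4, 3, 1] (Cert.fail)),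
  (1, Cert.fail),
  (1, Cert.step [0, 0, 2, 2, 2, 1, 2, 1, 3] (Cert.fail)),
  (1, Cert.fail),
  (1, Cert.step [2, 0, 3, 0, 2, 2, 1, 3, 1, 2] (Cert.step [3, 3, 1, 3, 3, 0, 3, 1, 2, 1, 2, 1, 3, 1] (Cert.step [3, 0, 2, 1, 2, 0, 2, 1, 2, 2] (Cert.badAt 847203)))),
  (1, Cert.step [0, 2, 4, 2, 0, 3, 1, 2, 4, 2, 2, 1, 2] (Cert.fail)),
  (1, Cert.fail),
  (1, Cert.step [2, 0, 3, 0, 2, 2, 1, 3, 1, 2] (Cert.step [3, 3, 1, 3, 3, 0, 3, 1, 2, 1, 2, 1, 3, 1] (Cert.step [3, 0, 2, 1, 2, 0, 2, 1, 2, 2] (Cert.badAt 847203)))),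
  (1, Cert.step [0, 2, 4, 2, 0, 3, 1, 2, 4, 2, 2, 1, 2] (Cert.fail)),
  (2, Cert.step [4, 3, 0, 3, 3, 0, 3, 4, 1, 3, 3, 1] (Cert.fail)),
  (1, Cert.fail),
  (1, Cert.step [2, 0, 2, 0, 2, 1, 3, 1, 2] (Cert.fail)),
  (1, Cert.step [] (Cert.step [0, 2, 0, 2, 2, 0, 3, 3, 1, 3, 3, 0, 3, 1, 3, 1, 2, 1] (Cert.fail))),
  (2, Cert.step [0, 0, 2, 2, 2, 1, 3, 3, 3, 1] (Cert.fail)),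
  (1, Cert.fail),
  (1, Cert.step [4, 2, 2, 1, 4, 2, 2, 4, 3, 3, 0, 3, 3, 4] (Cert.fail)),
  (1, Cert.fail),
  (1, Cert.step [2, 0, 2, 0, 2, 1, 3, 1, 2] (Cert.fail)),
  (1, Cert.step [] (Cert.step [0, 2, 0, 2, 2, 0, 3, 3, 1, 3, 3, 0, 3, 1, 3, 1, 2, 1] (Cert.fail))),
  (1, Cert.fail),
  (1, Cert.step [4, 2, 2, 1, 4, 2, 2, 4, 3, 3, 0, 3, 3, 4] (Cert.fail)),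
  (2, Cert.fail),
  (1, Cert.step [2, 2, 0, 2, 0, 3, 3, 3, 1, 1] (Cert.fail)),
  (2, Cert.step [0, 0, 2, 2, 2, 1, 3, 1, 3, 3] (Cert.fail)),
  (1, Cert.fail),
  (1, Cert.step [0, 3, 0, 2, 1, 3, 3, 3, 1] (Cert.fail)),
  (1, Cert.step [2, 2, 0, 3, 0, 3, 1, 3, 1, 3] (Cert.fail)),
  (1, Cert.step [2, 2, 0, 2, 0, 3, 3, 3, 1, 1] (Cert.fail)),
  (1, Cert.fail),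
  (1, Cert.step [0, 3, 0, 2, 1, 3, 3, 3, 1] (Cert.fail)),
  (1, Cert.step [2, 2, 0, 3, 0, 3, 1, 3, 1, 3] (Cert.fail)),
  (1, Cert.step [0, 2, 2, 0, 2, 2, 1, 2, 1, 2] (Cert.fail)),
  (1, Cert.step [0, 2, 2, 0, 2, 1, 2, 2, 1] (Cert.fail)),
  (1, Cert.fail),
  (1, Cert.step [0, 3, 4, 3, 3, 1, 4, 2, 1, 2, 1, 3, 4, 3, 4] (Cert.fail)),
  (1, Cert.step [2, 2, 0, 3, 3, 1, 3, 3] (Cert.fail)),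
  (1, Cert.fail),
  (1, Cert.step [0, 3, 4, 3, 3, 1, 4, 2, 1, 2, 1, 3, 4, 3, 4] (Cert.fail)),
  (1, Cert.step [2, 2, 0, 3, 3, 1, 3, 3] (Cert.fail)),
  (1, Cert.step [3, 3, 0, 2, 1, 2, 2] (Cert.fail)),
  (1, Cert.step [2, 0, 2, 0, 3, 3, 1, 2, 1, 3] (Cert.fail)),
  (1, Cert.fail),
  (1, Cert.step [0, 0, 2, 1, 2, 1] (Cert.fail)),
  (1, Cert.fail),
  (2, Cert.step [4, 2, 2, 2, 4, 3, 3, 1, 2, 4, 3, 3, 0, 2, 4, 1] (Cert.fail)),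
  (2, Cert.fail),
  (1, Cert.step [0, 2, 0, 3, 1, 3, 1] (Cert.fail)),
  (3, Cert.fail),
  (1, Cert.step [0, 2, 0, 3, 1, 3, 1] (Cert.fail)),
  (1, Cert.fail),
  (1, Cert.step [2, 2, 0, 3, 0, 3, 3, 1, 3, 1] (Cert.fail)),
  (1, Cert.fail),
  (1, Cert.step [2, 2, 0, 3, 0, 3, 3, 1, 3, 1] (Cert.fail)),
  (3, Cert.fail),
  (1, Cert.step [0, 0, 2, 1, 1] (Cert.fail)),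
  (2, Cert.fail),
  (2, Cert.step [2, 2, 0, 2, 2, 0, 2, 1, 2, 1] (Cert.fail)),
  (2, Cert.fail),
  (1, Cert.step [0, 3, 0, 3, 3, 1, 2, 1] (Cert.fail)),
  (2, Cert.fail),
  (1, Cert.step [] (Cert.fail)),
  (2, Cert.fail),
  (1, Cert.step [0, 3, 0, 2, 1, 3, 3, 1] (Cert.fail)),
  (4, Cert.fail),
  (1, Cert.step [0, 0, 3, 3, 1, 1] (Cert.fail)),
  (1, Cert.fail),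
  (1, Cert.step [2, 0, 4, 2, 0, 4, 3, 4, 3, 3, 1, 3, 4, 3, 1] (Cert.fail)),
  (1, Cert.step [4, 2, 2, 2, 4, 3, 3, 1, 2, 4, 3, 3, 0, 2, 4, 1] (Cert.step [3, 0, 3, 0, 2, 2, 2, 1, 2, 2, 0, 2, 1, 2, 1, 2, 2] (Cert.fail))),
  (1, Cert.fail),
  (1, Cert.step [2, 0, 4, 2, 0, 4, 3, 4, 3, 3, 1, 3, 4, 3, 1] (Cert.fail)),
  (1, Cert.step [4, 2, 2, 2, 4, 3, 3, 1, 2, 4, 3, 3, 0, 2, 4, 1] (Cert.step [3, 0, 3, 0, 2, 2, 2, 1, 2, 2, 0, 2, 1, 2, 1, 2, 2] (Cert.fail))),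
  (3, Cert.fail),
  (1, Cert.step [0, 2, 2, 1, 3, 3] (Cert.step [3, 0, 3, 0, 2, 2, 2, 1, 2, 2, 0, 2, 1, 2, 1, 2, 2] (Cert.fail))),
  (1, Cert.fail),
  (1, Cert.step [0, 2, 2, 1, 3, 3] (Cert.step [3, 0, 3, 0, 2, 2, 2, 1, 2, 2, 0, 2, 1, 2, 1, 2, 2] (Cert.fail))),
  (1, Cert.step [2, 0, 3, 0, 2, 2, 1, 2, 1, 2] (Cert.fail)),
  (1, Cert.step [2, 0, 2, 0, 2, 1, 3, 1, 2] (Cert.fail)),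
  (8, Cert.fail),
  (1, Cert.step [0, 0, 3, 3, 1, 3, 1] (Cert.fail)),
  (1, Cert.step [0, 3, 0, 2, 1, 3, 3, 1] (Cert.fail)),
  (1, Cert.step [0, 0, 3, 3, 1, 3, 1] (Cert.fail)),
  (1, Cert.step [0, 3, 0, 2, 1, 3, 3, 1] (Cert.fail)),
  (1, Cert.step [2, 0, 2, 0, 2, 1, 3, 3, 1, 2] (Cert.fail)),
  (1, Cert.step [2, 0, 2, 0, 2, 1, 3, 1, 2] (Cert.fail)),
  (1, Cert.step [2, 4, 2, 0, 2, 4, 2, 0, 2, 4, 1, 2, 2, 1, 3, 4] (Cert.fail)),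
  (2, Cert.step [0, 0, 2, 2, 2, 1, 2, 1, 3] (Cert.fail)),
  (1, Cert.step [2, 4, 2, 4, 3, 3, 1, 2, 0, 3, 3, 3, 4, 2, 2, 4] (Cert.fail)),
  (1, Cert.fail),
  (1, Cert.step [3, 3, 0, 2, 1, 2, 2] (Cert.fail)),
  (1, Cert.step [2, 0, 2, 0, 3, 3, 1, 2, 1, 3] (Cert.fail)),
  (2, Cert.fail),
  (1, Cert.step [0, 0, 2, 1, 1] (Cert.fail)),
  (4, Cert.fail),
  (1, Cert.step [] (Cert.fail)),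
  (1, Cert.step [2, 0, 3, 0, 2, 2, 1, 2, 1, 2] (Cert.fail)),
  (2, Cert.fail),
  (1, Cert.step [2, 0, 2, 0, 2, 1, 3, 3, 1, 2] (Cert.fail)),
  (1, Cert.step [2, 0, 2, 0, 2, 1, 3, 1, 2] (Cert.fail)),
  (1, Cert.step [2, 4, 2, 4, 3, 3, 1, 2, 0, 3, 3, 3, 4, 2, 2, 4] (Cert.fail)),
  (2, Cert.fail),
  (1, Cert.step [2, 1, 4, 2, 2, 4, 3, 3, 0, 2, 2, 4, 3, 3, 4] (Cert.step [3, 0, 3, 0, 3, 3, 3, 1, 2, 1, 2] (Cert.fail))),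
  (1, Cert.step [0, 3, 1, 3] (Cert.fail)),
  (1, Cert.fail),
  (1, Cert.step [2, 1, 4, 2, 2, 4, 3, 3, 0, 2, 2, 4, 3, 3, 4] (Cert.step [3, 0, 3, 0, 3, 3, 3, 1, 2, 1, 2] (Cert.fail))),
  (1, Cert.step [0, 3, 1, 3] (Cert.fail)),
  (4, Cert.fail),
  (1, Cert.step [3, 1, 4, 3, 3, 4, 2, 2, 0, 2, 2, 4, 3, 3, 4] (Cert.fail)),
  (2, Cert.fail),
  (1, Cert.step [3, 1, 4, 3, 3, 4, 2, 2, 0, 2, 2, 4, 3, 3, 4] (Cert.fail)),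
  (2, Cert.step [0, 2, 2, 0, 2, 1, 2, 2, 1] (Cert.fail)),
  (1, Cert.fail),
  (2, Cert.step [4, 3, 0, 3, 3, 0, 3, 4, 1, 3, 3, 1] (Cert.fail)),
  (1, Cert.step [4, 2, 2, 1, 4, 2, 2, 4, 3, 3, 0, 3, 3, 4, 3] (Cert.fail)),
  (1, Cert.fail),
  (1, Cert.step [0, 0, 3, 1, 1] (Cert.fail)),
  (1, Cert.fail),
  (1, Cert.step [4, 2, 2, 1, 4, 2, 2, 4, 3, 3, 0, 3, 3, 4, 3] (Cert.fail)),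
  (1, Cert.fail),
  (1, Cert.step [0, 0, 3, 1, 1] (Cert.fail)),
  (2, Cert.fail),
  (2, Cert.step [0, 2, 2, 0, 2, 1, 2, 2, 1] (Cert.fail)),
  (1, Cert.fail),
  (1, Cert.step [4, 3, 0, 3, 4, 3, 0, 3, 4, 1, 3, 3, 1, 2, 4] (Cert.step [2, 0, 2, 2, 1, 3, 3, 0, 3, 3, 1, 3] (Cert.step [0, 3, 3, 0, 3, 3, 0, 3, 1, 2, 2, 0, 2, 2, 1, 2, 1, 2, 1, 3] (Cert.done [0, 2, 2, 2, 4, 2, 4, 0, 2, 2, 2, 4, 2, 4, 0, 2, 2, 2, 4, 2, 4, 0, 2, 2, 2, 4, 2, 4, 0, 2, 2, 2, 4, 2, 4])))),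
  (1, Cert.step [0, 2, 2, 1, 2] (Cert.fail)),
  (1, Cert.step [0, 2, 2, 0, 3, 1, 2, 2, 1] (Cert.fail)),
  (1, Cert.step [0, 0, 2, 2, 2, 1, 3, 3, 3, 1] (Cert.fail)),
  (1, Cert.fail),
  (1, Cert.step [2, 4, 2, 0, 2, 4, 2, 0, 2, 4, 1, 2, 1, 2, 4, 2] (Cert.fail)),
  (2, Cert.fail),
  (1, Cert.step [2, 4, 2, 0, 2, 4, 2, 0, 2, 4, 1, 2, 1, 2, 4, 2] (Cert.fail)),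
  (1, Cert.fail),
  (1, Cert.step [2, 0, 3, 0, 2, 2, 1, 2, 1, 2] (Cert.fail)),
  (1, Cert.step [4, 2, 2, 1, 4, 2, 2, 4, 3, 3, 0, 3, 3, 4, 2] (Cert.fail)),
  (1, Cert.fail),
  (1, Cert.step [4, 3, 0, 3, 4, 3, 0, 3, 4, 1, 3, 3, 1, 2, 4] (Cert.step [2, 0, 2, 2, 1, 3, 3, 0, 3, 3, 1, 3] (Cert.step [0, 3, 3, 0, 3, 3, 0, 3, 1, 2, 2, 0, 2, 2, 1, 2, 1, 2, 1, 3] (Cert.done [0, 2, 2, 2, 4, 2, 4, 0, 2, 2, 2, 4, 2, 4, 0, 2, 2, 2, 4, 2, 4, 0, 2, 2, 2, 4, 2, 4, 0, 2, 2, 2, 4, 2, 4, 0, 0])))),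
  (1, Cert.step [0, 2, 2, 1, 2] (Cert.fail)),
  (1, Cert.step [0, 2, 2, 0, 3, 1, 2, 2, 1] (Cert.fail)),
  (1, Cert.step [0, 0, 2, 2, 2, 1, 3, 3, 3, 1] (Cert.fail)),
  (1, Cert.step [2, 0, 3, 0, 2, 2, 1, 2, 1, 2] (Cert.fail)),
  (1, Cert.step [4, 2, 2, 1, 4, 2, 2, 4, 3, 3, 0, 3, 3, 4, 2] (Cert.fail)),
  (1, Cert.fail),
  (1, Cert.step [2, 2, 0, 4, 2, 2, 0, 3, 3, 1, 2, 2, 4, 1, 2] (Cert.step [0, 2, 0, 3, 0, 3, 3, 1, 2, 2, 1, 2, 2, 1] (Cert.step [1, 3, 4, 3, 4, 2, 4, 2, 4, 3, 4, 3, 0, 2, 4, 1, 2] (Cert.badAt 847203)))),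
  (2, Cert.fail),
  (1, Cert.step [2, 2, 0, 4, 2, 2, 0, 3, 3, 1, 2, 2, 4, 1, 2] (Cert.step [0, 2, 0, 3, 0, 3, 3, 1, 2, 2, 1, 2, 2, 1] (Cert.step [1, 3, 4, 3, 4, 2, 4, 2, 4, 3, 4, 3, 0, 2, 4, 1, 2] (Cert.badAt 847203)))),
  (3, Cert.fail),
  (1, Cert.step [0, 3, 0, 2, 1, 2, 2, 1, 3] (Cert.step [0, 2, 2, 0, 2, 0, 2, 0, 2, 2, 2, 0, 3, 1, 2] (Cert.fail))),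
  (2, Cert.fail),
  (1, Cert.step [0, 3, 0, 2, 1, 2, 2, 1, 3] (Cert.step [0, 2, 2, 0, 2, 0, 2, 0, 2, 2, 2, 0, 3, 1, 2] (Cert.fail))),
  (1, Cert.fail),
  (1, Cert.step [0, 2, 2, 4, 2, 1, 2, 4, 3, 3, 3, 4, 3, 3, 3, 4, 1] (Cert.fail)),
  (2, Cert.fail),
  (1, Cert.step [0, 2, 2, 0, 3, 1, 3, 1, 2] (Cert.fail)),
  (4, Cert.fail),
  (1, Cert.step [0, 2, 2, 4, 2, 1, 2, 4, 3, 3, 3, 4, 3, 3, 3, 4, 1] (Cert.fail)),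
  (1, Cert.step [0, 2, 2, 0, 3, 1, 3, 1, 2] (Cert.fail)),
  (1, Cert.fail),
  (2, Cert.step [0, 0, 3, 1, 3, 3, 1, 3] (Cert.fail)),
  (1, Cert.step [3, 0, 2, 2, 0, 2, 2, 1, 1] (Cert.fail)),
  (2, Cert.step [0, 3, 0, 3, 3, 1, 2, 1] (Cert.fail)),
  (1, Cert.step [2, 2, 0, 3, 0, 2, 1, 2, 1, 2] (Cert.fail)),
  (3, Cert.fail),
  (2, Cert.step [4, 3, 0, 3, 3, 0, 3, 4, 1, 3, 3, 1] (Cert.fail)),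
  (1, Cert.fail),
  (1, Cert.step [0, 0, 3, 3, 3, 1, 1] (Cert.step [0, 2, 0, 2, 2, 0, 3, 3, 1, 3, 3, 0, 3, 1, 3, 1, 2, 1] (Cert.fail))),
  (1, Cert.step [0, 2, 0, 2, 1, 3, 1, 3, 3] (Cert.fail)),
  (2, Cert.fail),
  (1, Cert.step [0, 0, 3, 3, 3, 1, 1] (Cert.step [0, 2, 0, 2, 2, 0, 3, 3, 1, 3, 3, 0, 3, 1, 3, 1, 2, 1] (Cert.fail))),
  (1, Cert.step [0, 2, 0, 2, 1, 3, 1, 3, 3] (Cert.fail)),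
  (1, Cert.fail),
  (1, Cert.step [2, 2, 0, 3, 0, 2, 2, 1, 3, 1] (Cert.fail)),
  (1, Cert.step [2, 4, 2, 2, 0, 3, 1, 2, 1, 3, 3, 4, 1, 2, 2] (Cert.fail)),
  (5, Cert.fail),
  (2, Cert.step [0, 0, 2, 2, 2, 1, 2, 1, 2] (Cert.fail)),
  (1, Cert.fail),
  (1, Cert.step [0, 0, 2, 1, 3, 1] (Cert.fail)),
  (4, Cert.fail),
  (1, Cert.step [0, 0, 2, 1, 3, 1] (Cert.fail)),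
  (1, Cert.fail),
  (1, Cert.step [2, 0, 3, 0, 3, 3, 3, 1, 1] (Cert.step [0, 3, 3, 0, 3, 3, 0, 3, 1, 2, 1, 2, 1, 3] (Cert.step [2, 0, 3, 0, 3, 0, 3, 3, 1, 3, 3, 0, 2, 1, 2, 2, 1, 2, 2, 1] (Cert.done [0, 2, 2, 2, 4, 2, 4, 0, 2, 2, 2, 4, 2, 4, 0, 2, 2, 2, 4, 2, 4, 0, 2, 2, 2, 4, 2, 4, 0, 2, 2, 2, 4, 2, 4, 0, 2, 2, 2, 4, 2, 4, 0, 2, 2, 2, 4, 2, 4, 0, 2, 2, 2, 4, 2, 4])))),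
  (1, Cert.step [2, 0, 3, 0, 3, 3, 3, 1, 1] (Cert.step [0, 3, 3, 0, 3, 3, 0, 3, 1, 2, 1, 2, 1, 3] (Cert.step [2, 0, 3, 0, 3, 0, 3, 3, 1, 3, 3, 0, 2, 1, 2, 2, 1, 2, 2, 1] (Cert.done [0, 2, 2, 2, 4, 2, 4, 0, 2, 2, 2, 4, 2, 4, 0, 2, 2, 2, 4, 2, 4, 0, 2, 2, 2, 4, 2, 4, 0, 2, 2, 2, 4, 2, 4, 0, 2, 2, 2, 4, 2, 4, 0, 2, 2, 2, 4, 2, 4, 0, 2, 2, 2, 4, 2, 4, 0, 0])))),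
  (1, Cert.step [0, 3, 0, 2, 2, 2, 1, 2, 1] (Cert.fail)),
  (1, Cert.fail),
  (1, Cert.step [0, 3, 0, 2, 2, 2, 1, 2, 1] (Cert.fail)),
  (1, Cert.fail),
  (1, Cert.step [2, 2, 0, 3, 4, 3, 0, 2, 1, 3, 4, 1, 3] (Cert.fail)),
  (1, Cert.fail),
  (1, Cert.step [2, 2, 0, 3, 4, 3, 0, 2, 1, 3, 4, 1, 3] (Cert.fail)),
  (5, Cert.fail),
  (1, Cert.step [3, 3, 4, 3, 0, 2, 0, 3, 4, 3, 1, 3, 1] (Cert.fail)),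
  (1, Cert.step [0, 2, 2, 0, 2, 1, 3, 3, 1] (Cert.fail)),
  (2, Cert.step [0, 3, 3, 0, 3, 1, 2, 1, 2] (Cert.fail)),
  (2, Cert.step [3, 0, 2, 2, 1, 2] (Cert.fail)),
  (1, Cert.step [2, 2, 0, 4, 2, 0, 2, 2, 1, 2, 4, 2, 1] (Cert.fail)),
  (3, Cert.fail),
  (2, Cert.step [0, 2, 2, 0, 2, 2, 1, 2, 1] (Cert.step [0, 2, 0, 3, 0, 3, 3, 1, 2, 2, 1, 2, 2, 1] (Cert.step [1, 3, 4, 3, 4, 2, 4, 2, 4, 3, 4, 3, 0, 2, 4, 1, 2] (Cert.badAt 847203)))),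
  (2, Cert.fail),
  (1, Cert.step [0, 0, 3, 1, 3, 3, 1, 2] (Cert.fail)),
  (2, Cert.step [0, 3, 0, 3, 3, 1, 3, 1] (Cert.step [] (Cert.step [2, 0, 3, 0, 3, 0, 3, 3, 1, 3, 3, 0, 2, 1, 2, 2, 1, 2, 2, 1] (Cert.badAt 847203)))),
  (1, Cert.step [0, 2, 2, 0, 2, 1, 3, 1, 3] (Cert.fail)),
  (6, Cert.fail),
  (1, Cert.step [3, 1, 4, 2, 2, 4, 3, 3, 3, 3, 4, 2, 2, 4, 0, 3] (Cert.fail)),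
  (1, Cert.fail),
  (1, Cert.step [3, 1, 4, 2, 2, 4, 3, 3, 3, 3, 4, 2, 2, 4, 0, 3] (Cert.fail)),
  (1, Cert.fail),
  (1, Cert.step [3, 0, 3, 3, 1, 3, 3, 3] (Cert.fail)),
  (2, Cert.step [4, 2, 2, 4, 3, 3, 1, 2, 2, 4, 3, 3, 4, 3, 3, 0] (Cert.fail)),
  (2, Cert.step [2, 0, 2, 0, 3, 1, 3, 1, 3, 3] (Cert.fail)),
  (5, Cert.fail),
  (2, Cert.step [0, 3, 0, 3, 3, 1, 2, 1, 2] (Cert.fail)),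
  (3, Cert.fail),
  (1, Cert.step [0, 2, 2, 0, 4, 2, 1, 2, 2, 1, 2, 4] (Cert.fail)),
  (5, Cert.fail),
  (1, Cert.step [2, 2, 4, 3, 3, 4, 3, 0, 3, 3, 3, 1, 3, 4, 3, 3, 4, 2] (Cert.fail)),
  (1, Cert.step [3, 0, 2, 4, 2, 2, 0, 3, 0, 3, 1, 2, 2, 4, 2, 2] (Cert.fail)),
  (1, Cert.fail),
  (1, Cert.step [2, 0, 3, 0, 3, 3, 1, 3, 1] (Cert.fail)),
  (1, Cert.step [0, 0, 2, 1, 3, 1, 2] (Cert.fail)),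
  (1, Cert.step [2, 0, 3, 0, 3, 3, 1, 3, 1] (Cert.fail)),
  (5, Cert.fail),
  (1, Cert.step [2, 2, 0, 4, 2, 2, 0, 3, 1, 2, 1, 3, 3, 4, 1, 3, 1] (Cert.fail)),
  (2, Cert.step [2, 4, 2, 0, 2, 4, 2, 0, 2, 4, 1, 2, 1, 2, 4, 2] (Cert.fail)),
  (1, Cert.step [0, 0, 3, 3, 1, 1] (Cert.fail)),
  (1, Cert.step [3, 0, 2, 2, 0, 2, 1, 3, 1] (Cert.fail)),
  (2, Cert.fail),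
  (1, Cert.step [0, 3, 3, 0, 3, 1, 2, 2, 1, 3] (Cert.fail)),
  (1, Cert.fail),
  (1, Cert.step [2, 2, 0, 3, 0, 2, 2, 1, 3, 1] (Cert.fail)),
  (3, Cert.fail),
  (1, Cert.step [2, 2, 2, 0, 2, 1, 3, 3, 3] (Cert.fail)),
  (2, Cert.fail),
  (1, Cert.step [0, 2, 2, 2, 0, 2, 1, 2, 1, 2] (Cert.fail)),
  (1, Cert.step [0, 3, 0, 3, 3, 1, 2, 1, 3] (Cert.fail)),
  (1, Cert.step [0, 0, 3, 3, 1, 1] (Cert.fail)),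
  (1, Cert.step [0, 3, 3, 0, 3, 1, 2, 2, 1, 3] (Cert.fail)),
  (1, Cert.fail),
  (1, Cert.step [3, 1, 4, 3, 3, 4, 2, 2, 0, 2, 2, 4, 3, 3, 4] (Cert.step [2, 0, 2, 2, 2, 1, 2, 2, 2, 0, 3, 1, 3] (Cert.step [3, 0, 2, 1, 2, 0, 2, 1, 2, 2] (Cert.done [0, 2, 2, 2, 4, 2, 4, 0, 2, 2, 2, 4, 2, 4, 0, 2, 2, 2, 4, 2, 4, 0, 2, 2, 2, 4, 2, 4, 0, 2, 2, 2, 4, 2, 4, 0, 2, 2, 2, 4, 2, 4, 0, 2, 2, 2, 4, 2, 4, 0, 2, 2, 2, 4, 2, 4, 0, 2, 2, 2, 4, 2, 4, 0, 0])))),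
  (1, Cert.step [0, 3, 0, 2, 1, 3, 3, 1] (Cert.fail)),
  (1, Cert.fail),
  (1, Cert.step [3, 1, 4, 3, 3, 4, 2, 2, 0, 2, 2, 4, 3, 3, 4] (Cert.step [2, 0, 2, 2, 2, 1, 2, 2, 2, 0, 3, 1, 3] (Cert.step [3, 0, 2, 1, 2, 0, 2, 1, 2, 2] (Cert.done [0, 2, 2, 2, 4, 2, 4, 0, 2, 2, 2, 4, 2, 4, 0, 2, 2, 2, 4, 2, 4, 0, 2, 2, 2, 4, 2, 4, 0, 2, 2, 2, 4, 2, 4, 0, 2, 2, 2, 4, 2, 4, 0, 2, 2, 2, 4, 2, 4, 0, 2, 2, 2, 4, 2, 4, 0, 2, 2, 2, 4, 2, 4])))),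
  (1, Cert.step [0, 3, 0, 2, 1, 3, 3, 1] (Cert.fail)),
  (3, Cert.fail),
  (1, Cert.step [2, 1, 4, 2, 2, 4, 3, 3, 0, 2, 2, 4, 3, 3, 4] (Cert.fail)),
  (1, Cert.fail),
  (1, Cert.step [2, 1, 4, 2, 2, 4, 3, 3, 0, 2, 2, 4, 3, 3, 4] (Cert.fail)),
  (2, Cert.step [0, 3, 3, 3, 1, 2] (Cert.fail)),
  (1, Cert.fail),
  (2, Cert.step [0, 0, 2, 2, 2, 1, 3, 1, 3, 3] (Cert.fail)),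
  (1, Cert.step [4, 2, 0, 2, 4, 2, 0, 3, 3, 4, 3, 3, 3, 4, 1] (Cert.fail)),
  (1, Cert.fail),
  (1, Cert.step [0, 0, 3, 1, 1] (Cert.fail)),
  (1, Cert.fail),
  (1, Cert.step [4, 2, 0, 2, 4, 2, 0, 3, 3, 4, 3, 3, 3, 4, 1] (Cert.fail)),
  (1, Cert.fail),
  (1, Cert.step [0, 0, 3, 1, 1] (Cert.fail)),
  (2, Cert.fail),
  (2, Cert.step [0, 3, 3, 3, 1, 2] (Cert.fail)),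
  (1, Cert.fail),
  (1, Cert.step [2, 0, 2, 0, 2, 1, 3, 3, 1, 2] (Cert.step [0, 3, 3, 0, 3, 0, 3, 1, 3, 3, 1, 2, 2, 1, 3] (Cert.fail))),
  (1, Cert.step [0, 2, 2, 2, 1, 3] (Cert.fail)),
  (1, Cert.fail),
  (1, Cert.step [1, 2, 4, 2, 2, 4, 3, 3, 3, 3, 4, 2, 2, 4, 2, 0] (Cert.fail)),
  (2, Cert.fail),
  (1, Cert.step [1, 2, 4, 2, 2, 4, 3, 3, 3, 3, 4, 2, 2, 4, 2, 0] (Cert.fail)),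
  (1, Cert.fail),
  (1, Cert.step [0, 0, 2, 2, 2, 1, 3, 1, 3] (Cert.fail)),
  (1, Cert.step [4, 2, 2, 2, 4, 3, 3, 1, 2, 4, 3, 3, 0, 2, 4, 1] (Cert.fail)),
  (1, Cert.fail),
  (1, Cert.step [2, 0, 2, 0, 2, 1, 3, 3, 1, 2] (Cert.step [0, 3, 3, 0, 3, 0, 3, 1, 3, 3, 1, 2, 2, 1, 3] (Cert.fail))),
  (1, Cert.step [0, 2, 2, 2, 1, 3] (Cert.fail)),
  (1, Cert.step [0, 0, 2, 2, 2, 1, 3, 1, 3] (Cert.fail)),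
  (1, Cert.step [4, 2, 2, 2, 4, 3, 3, 1, 2, 4, 3, 3, 0, 2, 4, 1] (Cert.fail)),
  (1, Cert.fail),
  (1, Cert.step [4, 2, 0, 4, 2, 0, 3, 1, 3, 3, 3, 4, 2, 2, 4, 2, 0] (Cert.step [0, 3, 3, 0, 3, 3, 0, 3, 1, 2, 1, 2, 1, 3] (Cert.fail))),
  (2, Cert.fail),
  (1, Cert.step [4, 2, 0, 4, 2, 0, 3, 1, 3, 3, 3, 4, 2, 2, 4, 2, 0] (Cert.step [0, 3, 3, 0, 3, 3, 0, 3, 1, 2, 1, 2, 1, 3] (Cert.fail))),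
  (3, Cert.fail),
  (1, Cert.step [0, 3, 0, 2, 2, 2, 1, 3, 1] (Cert.step [0, 3, 0, 3, 0, 2, 2, 0, 3] (Cert.step [0, 3, 1, 2, 2, 1, 3, 1, 2, 2, 1, 3, 1, 2, 2] (Cert.badAt 847203)))),
  (2, Cert.fail),
  (1, Cert.step [0, 3, 0, 2, 2, 2, 1, 3, 1] (Cert.step [0, 3, 0, 3, 0, 2, 2, 0, 3] (Cert.step [0, 3, 1, 2, 2, 1, 3, 1, 2, 2, 1, 3, 1, 2, 2] (Cert.badAt 847203)))),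
  (1, Cert.fail),
  (1, Cert.step [2, 4, 2, 2, 0, 3, 1, 2, 1, 3, 3, 4, 1, 2, 2] (Cert.fail)),
  (2, Cert.fail),
  (1, Cert.step [1, 4, 2, 2, 4, 3, 3, 0, 3, 3, 4, 2, 2, 4, 3] (Cert.fail)),
  (4, Cert.fail),
  (1, Cert.step [2, 4, 2, 2, 0, 3, 1, 2, 1, 3, 3, 4, 1, 2, 2] (Cert.fail)),
  (1, Cert.step [1, 4, 2, 2, 4, 3, 3, 0, 3, 3, 4, 2, 2, 4, 3] (Cert.fail)),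
  (1, Cert.fail),
  (1, Cert.step [0, 0, 2, 1, 2, 2, 1] (Cert.fail)),
  (1, Cert.step [2, 2, 0, 3, 3, 0, 3, 1, 2, 1] (Cert.fail)),
  (3, Cert.fail),
  (2, Cert.step [0, 0, 2, 2, 2, 1, 3, 1, 3, 3] (Cert.fail)),
  (1, Cert.fail),
  (1, Cert.step [0, 0, 3, 1, 3, 3, 1] (Cert.step [] (Cert.step [] (Cert.badAt 847203)))),
  (1, Cert.step [0, 0, 2, 2, 2, 1, 3, 3, 1] (Cert.fail)),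
  (2, Cert.fail),
  (1, Cert.step [0, 0, 3, 1, 3, 3, 1] (Cert.step [] (Cert.step [] (Cert.badAt 847203)))),
  (1, Cert.step [0, 0, 2, 2, 2, 1, 3, 3, 1] (Cert.fail)),
  (1, Cert.fail),
  (1, Cert.step [3, 0, 2, 4, 2, 2, 0, 3, 0, 3, 1, 2, 2, 4, 2] (Cert.fail)),
  (1, Cert.step [0, 2, 2, 4, 2, 1, 2, 4, 3, 3, 3, 4, 3, 3, 3, 4, 1] (Cert.fail)),
  (5, Cert.fail),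
  (2, Cert.step [0, 2, 2, 0, 3, 1, 2, 2, 1] (Cert.fail)),
  (1, Cert.fail),
  (1, Cert.step [0, 0, 3, 1, 2, 2, 1, 3] (Cert.fail)),
  (4, Cert.fail),
  (1, Cert.step [0, 0, 3, 1, 2, 2, 1, 3] (Cert.fail)),
  (1, Cert.fail),
  (2, Cert.step [0, 0, 2, 1, 2, 2, 1, 3] (Cert.step [0, 2, 0, 3, 0, 2, 2, 2, 1, 2, 1, 2, 1, 3] (Cert.fail))),
  (1, Cert.step [0, 3, 3, 0, 3, 1, 2, 1, 2] (Cert.fail)),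
  (1, Cert.fail),
  (1, Cert.step [0, 3, 3, 0, 3, 1, 2, 1, 2] (Cert.fail)),
  (1, Cert.fail),
  (1, Cert.step [2, 2, 0, 4, 2, 0, 2, 2, 1, 2, 4, 1, 3] (Cert.fail)),
  (1, Cert.fail),
  (1, Cert.step [2, 2, 0, 4, 2, 0, 2, 2, 1, 2, 4, 1, 3] (Cert.fail)),
  (5, Cert.fail),
  (1, Cert.step [0, 2, 2, 0, 3, 1, 3, 1, 3] (Cert.fail)),
  (1, Cert.step [0, 2, 2, 0, 2, 2, 1, 3, 1, 3] (Cert.fail)),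
  (2, Cert.step [0, 0, 2, 1, 2, 1] (Cert.fail)),
  (1, Cert.step [2, 4, 2, 4, 3, 3, 1, 2, 0, 3, 3, 3, 4, 2, 2, 4] (Cert.fail)),
  (3, Cert.fail),
  (2, Cert.step [0, 2, 2, 0, 2, 1, 3, 1, 3] (Cert.step [3, 0, 3, 0, 3, 3, 0, 3, 3, 1, 3, 1, 2, 2, 1] (Cert.fail))),
  (2, Cert.fail),
  (1, Cert.step [0, 0, 2, 2, 2, 1, 2, 1] (Cert.fail)),
  (2, Cert.step [0, 3, 3, 0, 3, 1, 2, 2, 1, 3] (Cert.step [0, 2, 0, 2, 2, 0, 3, 3, 1, 3, 1, 2, 2, 1] (Cert.fail))),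
  (1, Cert.step [0, 2, 2, 0, 2, 2, 1, 2, 1] (Cert.fail)),
  (8, Cert.fail),
  (1, Cert.step [0, 0, 2, 2, 2, 1, 3, 3, 3, 1] (Cert.fail)),
  (2, Cert.step [2, 0, 4, 2, 0, 4, 3, 4, 3, 3, 1, 3, 4, 3, 1] (Cert.fail)),
  (2, Cert.step [2, 2, 0, 4, 3, 3, 0, 2, 2, 1, 3, 3, 4, 1] (Cert.fail)),
  (5, Cert.fail),
  (2, Cert.step [2, 4, 2, 2, 4, 3, 1, 2, 2, 0, 2, 2, 4, 3, 4, 3, 3] (Cert.fail)),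
  (3, Cert.fail),
  (1, Cert.step [0, 2, 2, 2, 0, 2, 1, 2, 1] (Cert.fail)),
  (5, Cert.fail),
  (1, Cert.step [4, 2, 2, 0, 3, 1, 3, 1, 2, 2, 4, 2, 1, 3] (Cert.fail)),
  (1, Cert.step [2, 0, 2, 0, 3, 1, 2, 1, 2] (Cert.fail)),
  (1, Cert.fail),
  (1, Cert.step [2, 0, 2, 0, 2, 1, 3, 1] (Cert.fail)),
  (1, Cert.step [0, 0, 3, 3, 1, 2, 1, 2] (Cert.fail)),
  (1, Cert.step [2, 0, 2, 0, 2, 1, 3, 1] (Cert.fail)),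
  (5, Cert.fail),
  (1, Cert.step [2, 2, 0, 4, 3, 3, 0, 2, 2, 1, 3, 3, 4, 1, 3] (Cert.fail)),
  (2, Cert.step [1, 2, 4, 2, 2, 4, 3, 3, 3, 3, 4, 2, 2, 4, 2, 0] (Cert.fail)),
  (1, Cert.step [0, 0, 3, 1, 3, 1] (Cert.fail)),
  (1, Cert.step [0, 0, 2, 1, 2, 1, 3] (Cert.fail)),
  (1, Cert.step [0, 3, 0, 3, 3, 1, 3, 1] (Cert.fail)),
  (1, Cert.fail),
  (1, Cert.step [3, 0, 2, 4, 2, 2, 0, 3, 0, 3, 1, 2, 2, 4, 2] (Cert.fail)),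
  (3, Cert.fail),
  (1, Cert.step [0, 2, 2, 0, 2, 2, 1, 3, 1, 3] (Cert.fail)),
  (2, Cert.fail),
  (1, Cert.step [2, 0, 2, 0, 3, 1, 2, 1, 2] (Cert.fail)),
  (1, Cert.step [2, 2, 0, 4, 3, 3, 0, 2, 2, 1, 3, 3, 4, 1, 3] (Cert.fail)),
  (1, Cert.step [0, 0, 3, 1, 3, 1] (Cert.fail)),
  (1, Cert.step [0, 3, 0, 3, 3, 1, 3, 1] (Cert.fail)),
  (2, Cert.step [2, 4, 2, 2, 4, 3, 1, 2, 2, 0, 2, 2, 4, 3, 4, 3, 3] (Cert.fail)),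
  (1, Cert.step [4, 2, 4, 2, 4, 2, 0, 3, 3, 4, 2, 2, 4, 0, 2, 4, 1] (Cert.fail)),
  (1, Cert.step [0, 2, 2, 0, 2, 1, 2, 2, 1] (Cert.fail)),
  (1, Cert.step [2, 2, 0, 3, 0, 3, 1, 3, 1, 2] (Cert.step [0, 3, 3, 0, 3, 3, 0, 2, 2, 1, 2, 1, 3, 1] (Cert.step [0, 3, 1, 2, 2, 1, 3, 1, 2, 2, 1, 3, 1, 2, 2] (Cert.badAt 847203)))),
  (1, Cert.step [4, 2, 4, 2, 4, 2, 0, 3, 3, 4, 2, 2, 4, 0, 2, 4, 1] (Cert.fail)),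
  (1, Cert.step [0, 2, 2, 0, 2, 1, 2, 2, 1] (Cert.fail)),
  (1, Cert.step [2, 2, 0, 3, 0, 3, 1, 3, 1, 2] (Cert.step [0, 3, 3, 0, 3, 3, 0, 2, 2, 1, 2, 1, 3, 1] (Cert.step [0, 3, 1, 2, 2, 1, 3, 1, 2, 2, 1, 3, 1, 2, 2] (Cert.badAt 847203)))),
  (2, Cert.step [0, 0, 2, 2, 1, 3, 1] (Cert.fail)),
  (1, Cert.step [2, 0, 3, 0, 2, 2, 1, 3, 1, 2] (Cert.fail)),
  (2, Cert.step [0, 2, 2, 1, 3] (Cert.fail)),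
  (1, Cert.fail),
  (1, Cert.step [2, 0, 3, 0, 2, 2, 1, 3, 1, 2] (Cert.fail)),
  (3, Cert.fail),
  (2, Cert.step [2, 0, 3, 0, 3, 3, 1, 2, 1, 3] (Cert.fail)),
  (1, Cert.step [0, 2, 4, 2, 2, 0, 3, 3, 1, 2, 2, 4, 1, 3, 3] (Cert.fail)),
  (2, Cert.step [0, 0, 2, 1, 3, 1, 3, 3] (Cert.fail)),
  (1, Cert.step [4, 2, 2, 1, 4, 2, 2, 4, 3, 3, 0, 3, 3, 4] (Cert.fail)),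
  (1, Cert.step [0, 3, 0, 2, 1, 3, 3, 3, 1] (Cert.fail)),
  (1, Cert.step [0, 2, 4, 2, 2, 0, 3, 3, 1, 2, 2, 4, 1, 3, 3] (Cert.fail)),
  (1, Cert.step [4, 2, 2, 1, 4, 2, 2, 4, 3, 3, 0, 3, 3, 4] (Cert.fail)),
  (1, Cert.step [0, 3, 0, 2, 1, 3, 3, 3, 1] (Cert.fail)),
  (2, Cert.step [2, 0, 3, 0, 3, 3, 1, 3, 1] (Cert.fail)),
  (2, Cert.step [2, 0, 2, 2, 0, 3, 1, 2, 1, 2] (Cert.fail)),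
  (2, Cert.fail),
  (1, Cert.step [2, 2, 0, 3, 3, 0, 3, 1, 2, 1] (Cert.fail)),
  (1, Cert.step [0, 0, 2, 2, 1, 2, 1, 3, 3] (Cert.fail)),
  (3, Cert.fail),
  (2, Cert.step [4, 3, 0, 3, 3, 0, 3, 4, 1, 3, 3, 1] (Cert.fail)),
  (6, Cert.fail),
  (1, Cert.step [2, 2, 0, 3, 3, 0, 3, 1, 2, 1] (Cert.fail)),
  (1, Cert.step [0, 0, 2, 2, 1, 2, 1, 3, 3] (Cert.fail)),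
  (1, Cert.fail),
  (2, Cert.step [0, 0, 2, 2, 2, 1, 2, 1, 3, 3] (Cert.fail)),
  (1, Cert.step [0, 3, 0, 4, 2, 2, 2, 2, 1, 2, 2, 1, 3, 3, 4] (Cert.fail)),
  (1, Cert.step [0, 3, 3, 1] (Cert.fail)),
  (1, Cert.step [0, 2, 2, 0, 2, 1, 3, 3, 1] (Cert.step [2, 4, 3, 3, 0, 4, 2, 2, 0, 2, 2, 4, 2, 2, 4, 3] (Cert.step [4, 3, 3, 1, 4, 2, 4, 2, 4, 2, 2, 4, 3, 3, 4, 2, 1, 2, 1] (Cert.done [0, 2, 2, 2, 4, 2, 4, 0, 2, 2, 2, 4, 2, 4, 0, 2, 2, 2, 4, 2, 4, 0, 2, 2, 2, 4, 2, 4, 0, 0])))),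
  (1, Cert.fail),
  (1, Cert.step [0, 3, 0, 4, 2, 2, 2, 2, 1, 2, 2, 1, 3, 3, 4] (Cert.fail)),
  (1, Cert.step [0, 3, 3, 1] (Cert.fail)),
  (1, Cert.step [0, 2, 2, 0, 2, 1, 3, 3, 1] (Cert.step [2, 4, 3, 3, 0, 4, 2, 2, 0, 2, 2, 4, 2, 2, 4, 3] (Cert.step [4, 3, 3, 1, 4, 2, 4, 2, 4, 2, 2, 4, 3, 3, 4, 2, 1, 2, 1] (Cert.done [0, 2, 2, 2, 4, 2, 4, 0, 2, 2, 2, 4, 2, 4, 0, 2, 2, 2, 4, 2, 4, 0, 2, 2, 2, 4, 2, 4])))),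
  (1, Cert.fail),
  (1, Cert.step [0, 2, 2, 0, 2, 2, 1, 3, 1] (Cert.step [3, 0, 3, 0, 3, 3, 0, 3, 3, 1, 3, 1, 2, 2, 1] (Cert.fail))),
  (1, Cert.step [0, 2, 2, 0, 3, 3, 1, 2, 1, 3] (Cert.fail)),
  (1, Cert.step [2, 0, 3, 4, 3, 3, 0, 2, 0, 2, 1, 3, 3, 4, 3] (Cert.fail)),
  (1, Cert.fail),
  (1, Cert.step [0, 2, 2, 0, 3, 3, 1, 2, 1, 3] (Cert.fail)),
  (1, Cert.step [2, 0, 3, 4, 3, 3, 0, 2, 0, 2, 1, 3, 3, 4, 3] (Cert.fail)),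
  (3, Cert.fail),
  (1, Cert.step [2, 4, 2, 0, 3, 0, 3, 3, 3, 1, 3, 3, 1, 2, 2, 4] (Cert.fail)),
  (1, Cert.fail),
  (1, Cert.step [2, 4, 2, 0, 3, 0, 3, 3, 3, 1, 3, 3, 1, 2, 2, 4] (Cert.fail)),
  (6, Cert.fail),
  (1, Cert.step [0, 2, 2, 0, 2, 2, 1, 3, 1] (Cert.step [3, 0, 3, 0, 3, 3, 0, 3, 3, 1, 3, 1, 2, 2, 1] (Cert.fail))),
  (5, Cert.fail),
  (2, Cert.step [4, 2, 2, 4, 3, 3, 1, 2, 2, 4, 3, 3, 4, 3, 3, 0] (Cert.fail)),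
  (2, Cert.fail),
  (1, Cert.step [2, 2, 0, 4, 2, 2, 0, 3, 1, 2, 1, 3, 3, 4, 1, 3, 1] (Cert.fail)),
  (1, Cert.fail),
  (2, Cert.step [2, 4, 2, 0, 2, 4, 2, 0, 2, 4, 1, 3, 3, 1, 2, 4] (Cert.fail)),
  (3, Cert.fail),
  (1, Cert.step [0, 3, 3, 0, 3, 1, 2, 2, 1, 3] (Cert.fail)),
  (1, Cert.step [2, 4, 2, 2, 4, 3, 1, 2, 2, 0, 2, 2, 4, 3, 4] (Cert.fail)),
  (1, Cert.step [0, 0, 3, 1, 2, 2, 1] (Cert.fail)),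
  (1, Cert.fail),
  (1, Cert.step [0, 3, 3, 0, 3, 1, 2, 2, 1, 3] (Cert.fail)),
  (1, Cert.step [2, 4, 2, 2, 4, 3, 1, 2, 2, 0, 2, 2, 4, 3, 4] (Cert.fail)),
  (1, Cert.step [0, 0, 3, 1, 2, 2, 1] (Cert.fail)),
  (3, Cert.fail),
  (1, Cert.step [2, 0, 3, 4, 2, 2, 0, 3, 3, 1, 2, 2, 4, 1, 2] (Cert.fail)),
  (2, Cert.fail),
  (1, Cert.step [4, 2, 2, 0, 3, 3, 0, 3, 3, 3, 3, 4, 1, 2, 1, 2] (Cert.step [0, 2, 0, 3, 0, 3, 3, 1, 2, 2, 1, 2, 2, 1] (Cert.step [3, 0, 2, 1, 2, 0, 2, 1, 2, 2] (Cert.done [0, 2, 2, 2, 4, 2, 4, 0, 2, 2, 2, 4, 2, 4, 0, 2, 2, 2, 4, 2, 4, 0, 2, 2, 2, 4, 2, 4, 0, 2, 2, 2, 4, 2, 4, 0, 2, 2, 2, 4, 2, 4, 0, 0])))),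
  (1, Cert.step [4, 2, 2, 0, 3, 3, 0, 3, 3, 3, 3, 4, 1, 2, 1, 2] (Cert.step [0, 2, 0, 3, 0, 3, 3, 1, 2, 2, 1, 2, 2, 1] (Cert.step [3, 0, 2, 1, 2, 0, 2, 1, 2, 2] (Cert.done [0, 2, 2, 2, 4, 2, 4, 0, 2, 2, 2, 4, 2, 4, 0, 2, 2, 2, 4, 2, 4, 0, 2, 2, 2, 4, 2, 4, 0, 2, 2, 2, 4, 2, 4, 0, 2, 2, 2, 4, 2, 4])))),
  (5, Cert.fail),
  (1, Cert.step [0, 2, 2, 0, 3, 1, 2, 1, 2] (Cert.fail)),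
  (1, Cert.fail),
  (1, Cert.step [0, 2, 2, 0, 3, 1, 2, 1, 2] (Cert.fail)),
  (3, Cert.fail),
  (1, Cert.step [0, 2, 2, 0, 2, 1, 3, 3, 1, 3] (Cert.fail)),
  (1, Cert.fail),
  (1, Cert.step [0, 2, 2, 0, 2, 1, 3, 3, 1, 3] (Cert.fail)),
  (2, Cert.fail),
  (1, Cert.step [0, 0, 3, 1, 1] (Cert.fail)),
  (1, Cert.fail),
  (1, Cert.step [0, 0, 2, 1, 3, 1, 3] (Cert.step [2, 0, 2, 2, 2, 1, 2, 2, 2, 0, 3, 1, 3] (Cert.step [0, 2, 4, 2, 2, 2, 4, 3, 3, 3, 4, 1, 2, 1, 2, 4, 2] (Cert.done [0, 2, 2, 2, 4, 2, 4, 0, 2, 2, 2, 4, 2, 4])))),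
  (1, Cert.step [0, 0, 2, 1, 3, 1, 3] (Cert.step [2, 0, 2, 2, 2, 1, 2, 2, 2, 0, 3, 1, 3] (Cert.step [0, 2, 4, 2, 2, 2, 4, 3, 3, 3, 4, 1, 2, 1, 2, 4, 2] (Cert.done [0, 2, 2, 2, 4, 2, 4, 0, 2, 2, 2, 4, 2, 4, 0, 0])))),
  (2, Cert.fail),
  (1, Cert.step [3, 0, 3, 3, 4, 3, 1, 3, 1, 3, 1, 3, 4] (Cert.fail)),
  (1, Cert.fail),
  (1, Cert.step [2, 0, 2, 0, 3, 3, 1, 2, 1, 3] (Cert.fail)),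
  (1, Cert.step [2, 2, 0, 3, 0, 3, 1, 2, 1] (Cert.fail)),
  (1, Cert.step [0, 0, 3, 1, 3, 1] (Cert.fail)),
  (1, Cert.step [2, 2, 0, 3, 0, 3, 1, 2, 1] (Cert.fail)),
  (1, Cert.step [0, 0, 3, 1, 3, 1] (Cert.fail)),
  (4, Cert.fail),
  (1, Cert.step [2, 2, 0, 4, 3, 3, 0, 2, 2, 1, 3, 3, 4, 1, 3] (Cert.fail)),
  (2, Cert.fail),
  (1, Cert.step [2, 2, 0, 2, 2, 0, 2, 1, 2, 1] (Cert.fail)),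
  (1, Cert.fail),
  (1, Cert.step [2, 2, 0, 2, 2, 0, 2, 1, 2, 1] (Cert.fail)),
  (1, Cert.fail),
  (2, Cert.step [0, 2, 2, 0, 2, 1, 2, 2, 1] (Cert.fail)),
  (2, Cert.step [0, 2, 2, 0, 2, 1, 2, 2, 1] (Cert.step [0, 2, 0, 3, 0, 3, 0, 2, 1, 2, 2, 0, 2, 2] (Cert.fail))),
  (1, Cert.step [2, 0, 3, 4, 2, 2, 0, 3, 0, 3, 1, 2, 2, 4, 2] (Cert.fail)),
  (7, Cert.fail),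
  (2, Cert.step [3, 0, 2, 2, 2, 0, 3, 1, 3, 1] (Cert.fail)),
  (7, Cert.fail),
  (1, Cert.step [0, 0, 3, 1, 3, 3, 1] (Cert.fail)),
  (1, Cert.step [2, 2, 0, 3, 0, 2, 2, 1, 3, 1] (Cert.fail)),
  (2, Cert.fail),
  (2, Cert.step [4, 3, 0, 3, 3, 4, 3, 4, 1, 2, 4] (Cert.fail)),
  (3, Cert.fail),
  (1, Cert.step [3, 3, 0, 4, 3, 3, 0, 2, 2, 1, 3, 3, 4, 1] (Cert.fail)),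
  (1, Cert.fail),
  (1, Cert.step [0, 2, 2, 0, 2, 1, 3, 3, 3, 1] (Cert.fail)),
  (1, Cert.step [0, 2, 2, 4, 2, 1, 2, 4, 3, 3, 3, 4, 3, 3, 3, 4, 1] (Cert.fail)),
  (2, Cert.fail),
  (1, Cert.step [3, 0, 4, 3, 1, 4, 3, 3, 4, 2, 2, 1, 3, 4, 3, 4, 3, 4, 3] (Cert.fail)),
  (1, Cert.step [2, 4, 2, 2, 4, 3, 1, 2, 2, 0, 2, 2, 4, 3, 4, 3] (Cert.step [3, 0, 3, 0, 2, 2, 2, 1, 2, 2, 0, 2, 1, 2, 1, 2, 2] (Cert.fail))),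
  (1, Cert.step [3, 0, 4, 3, 1, 4, 3, 3, 4, 2, 2, 1, 3, 4, 3, 4, 3, 4, 3] (Cert.fail)),
  (1, Cert.step [2, 4, 2, 2, 4, 3, 1, 2, 2, 0, 2, 2, 4, 3, 4, 3] (Cert.step [3, 0, 3, 0, 2, 2, 2, 1, 2, 2, 0, 2, 1, 2, 1, 2, 2] (Cert.fail))),
  (2, Cert.step [0, 0, 2, 2, 2, 1, 2, 1, 3] (Cert.fail)),
  (4, Cert.fail),
  (2, Cert.step [2, 0, 2, 0, 2, 1, 3, 1, 2] (Cert.fail)),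
  (1, Cert.step [4, 2, 0, 2, 4, 2, 0, 3, 3, 4, 3, 3, 3, 4, 2, 1] (Cert.fail)),
  (1, Cert.step [0, 3, 1, 3, 3] (Cert.fail)),
  (1, Cert.step [4, 2, 0, 2, 4, 2, 0, 3, 3, 4, 3, 3, 3, 4, 2, 1] (Cert.fail)),
  (1, Cert.step [0, 3, 1, 3, 3] (Cert.fail)),
  (2, Cert.step [2, 0, 2, 0, 2, 1, 3, 1] (Cert.fail)),
  (2, Cert.step [2, 0, 3, 0, 3, 3, 1, 2, 1] (Cert.fail)),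
  (5, Cert.fail),
  (2, Cert.step [0, 0, 2, 2, 2, 1, 3, 1, 3, 3] (Cert.fail)),
  (7, Cert.fail),
  (1, Cert.step [0, 0, 3, 1, 2, 1, 3, 3] (Cert.fail)),
  (1, Cert.step [0, 2, 2, 0, 2, 2, 1, 3, 1, 3] (Cert.step [0, 3, 3, 0, 3, 3, 0, 2, 2, 1, 2, 1, 3, 1] (Cert.fail))),
  (1, Cert.step [0, 0, 3, 1, 2, 1, 3, 3] (Cert.fail)),
  (1, Cert.step [0, 2, 2, 0, 2, 2, 1, 3, 1, 3] (Cert.step [0, 3, 3, 0, 3, 3, 0, 2, 2, 1, 2, 1, 3, 1] (Cert.fail))),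
  (1, Cert.step [0, 2, 2, 0, 2, 1, 3, 1] (Cert.step [3, 0, 3, 0, 2, 2, 2, 1, 2, 2, 0, 2, 1, 2, 1, 2, 2] (Cert.step [1, 3, 4, 3, 4, 2, 4, 2, 4, 3, 4, 3, 0, 2, 4, 1, 2] (Cert.done [0, 2, 2, 2, 4, 2, 4, 0, 2, 2, 2, 4, 2, 4, 0, 2, 2, 2, 4, 2, 4])))),
  (2, Cert.step [2, 0, 4, 2, 0, 3, 1, 2, 4, 3, 3, 1, 2, 2] (Cert.fail)),
  (2, Cert.fail),
  (1, Cert.step [2, 2, 2, 0, 4, 3, 0, 3, 3, 1, 3, 4, 1] (Cert.fail)),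
  (1, Cert.fail),
  (1, Cert.step [2, 2, 2, 0, 4, 3, 0, 3, 3, 1, 3, 4, 1] (Cert.fail)),
  (4, Cert.fail),
  (1, Cert.step [0, 2, 2, 0, 2, 1, 3, 1] (Cert.step [3, 0, 3, 0, 2, 2, 2, 1, 2, 2, 0, 2, 1, 2, 1, 2, 2] (Cert.step [1, 3, 4, 3, 4, 2, 4, 2, 4, 3, 4, 3, 0, 2, 4, 1, 2] (Cert.done [0, 2, 2, 2, 4, 2, 4, 0, 2, 2, 2, 4, 2, 4, 0, 2, 2, 2, 4, 2, 4, 0, 0])))),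
  (5, Cert.fail),
  (1, Cert.step [2, 2, 0, 4, 3, 3, 0, 2, 2, 1, 3, 3, 4, 1, 3] (Cert.fail)),
  (1, Cert.fail),
  (1, Cert.step [0, 3, 0, 3, 3, 1, 2, 1, 3, 3] (Cert.fail)),
  (1, Cert.step [0, 0, 2, 1, 1] (Cert.fail)),
  (1, Cert.step [0, 3, 0, 3, 3, 1, 2, 1, 3, 3] (Cert.fail)),
  (1, Cert.step [0, 0, 2, 1, 1] (Cert.fail)),
  (1, Cert.step [0, 4, 3, 0, 3, 3, 4, 3, 4, 1, 2, 4, 3, 3, 1] (Cert.fail)),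
  (2, Cert.step [4, 2, 0, 2, 1, 3, 4, 3, 4, 1, 2, 4, 2, 1] (Cert.step [0, 3, 3, 0, 3, 0, 3, 1, 3, 1, 2, 1] (Cert.fail))),
  (5, Cert.fail),
  (1, Cert.step [0, 0, 2, 2, 2, 1, 2, 2, 1] (Cert.fail)),
  (1, Cert.fail),
  (1, Cert.step [0, 0, 2, 2, 2, 1, 2, 2, 1] (Cert.fail)),
  (6, Cert.fail),
  (1, Cert.step [0, 0, 3, 1, 1] (Cert.fail)),
  (3, Cert.fail),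
  (1, Cert.step [2, 2, 0, 3, 0, 3, 1, 3, 1] (Cert.fail)),
  (1, Cert.step [4, 2, 2, 0, 3, 3, 0, 3, 3, 3, 3, 4, 1, 2, 1, 3] (Cert.fail)),
  (2, Cert.step [0, 0, 3, 3, 1, 1] (Cert.fail)),
  (4, Cert.fail),
  (1, Cert.step [2, 2, 0, 4, 2, 2, 0, 3, 1, 2, 1, 3, 3, 4, 1, 3, 1] (Cert.fail)),
  (2, Cert.step [2, 2, 0, 2, 0, 3, 1, 3, 1, 2] (Cert.fail)),
  (1, Cert.step [2, 0, 3, 4, 3, 3, 0, 2, 0, 2, 1, 3, 3, 4] (Cert.fail)),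
  (6, Cert.fail),
  (2, Cert.step [0, 0, 2, 2, 1, 3, 1, 3] (Cert.fail)),
  (4, Cert.fail),
  (1, Cert.step [0, 0, 3, 3, 3, 1, 1] (Cert.fail)),
  (1, Cert.step [3, 0, 2, 4, 2, 2, 0, 3, 0, 3, 1, 2, 2, 4, 2] (Cert.fail)),
  (3, Cert.fail),
  (1, Cert.step [0, 0, 3, 1, 1] (Cert.fail)),
  (1, Cert.fail),
  (1, Cert.step [4, 2, 2, 0, 3, 3, 0, 3, 3, 3, 3, 4, 1, 2, 1, 3] (Cert.fail)),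
  (1, Cert.step [3, 0, 2, 4, 2, 2, 0, 3, 0, 3, 1, 2, 2, 4, 2] (Cert.fail)),
  (2, Cert.fail),
  (2, Cert.step [0, 2, 2, 1, 3, 3] (Cert.step [0, 2, 0, 3, 0, 3, 0, 2, 1, 2, 2, 0, 2, 2] (Cert.step [0, 2, 4, 2, 2, 2, 4, 3, 3, 3, 4, 1, 2, 1, 2, 4, 2] (Cert.badAt 847203)))),
  (2, Cert.fail),
  (2, Cert.step [0, 2, 2, 0, 3, 1, 2, 2, 1] (Cert.fail)),
  (1, Cert.step [0, 0, 2, 2, 1, 3, 3, 1] (Cert.step [2, 0, 2, 2, 2, 1, 2, 2, 2, 0, 3, 1, 3] (Cert.fail))),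
  (2, Cert.fail),
  (1, Cert.step [0, 0, 2, 2, 1, 3, 3, 1] (Cert.step [2, 0, 2, 2, 2, 1, 2, 2, 2, 0, 3, 1, 3] (Cert.fail))),
  (2, Cert.step [2, 2, 0, 2, 2, 1, 2, 2] (Cert.fail)),
  (2, Cert.step [0, 0, 2, 2, 2, 1, 2, 2, 1] (Cert.fail)),
  (1, Cert.step [3, 3, 0, 4, 3, 3, 0, 2, 2, 1, 3, 3, 4, 1] (Cert.fail)),
  (2, Cert.step [2, 0, 3, 0, 3, 1, 3, 1, 2] (Cert.fail)),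
  (3, Cert.fail),
  (1, Cert.step [3, 3, 0, 4, 3, 3, 0, 2, 2, 1, 3, 3, 4, 1] (Cert.fail)),
  (3, Cert.fail),
  (2, Cert.step [2, 2, 0, 4, 2, 2, 0, 3, 3, 1, 2, 2, 4, 1, 2] (Cert.fail)),
  (6, Cert.fail),
  (2, Cert.step [2, 2, 0, 4, 2, 2, 0, 3, 3, 1, 2, 2, 4, 3, 1] (Cert.fail)),
  (2, Cert.fail),
  (2, Cert.step [0, 3, 0, 2, 2, 2, 1, 3, 1] (Cert.fail)),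
  (2, Cert.fail),
  (2, Cert.step [0, 0, 2, 2, 2, 1, 3, 1, 3] (Cert.fail)),
  (2, Cert.step [2, 0, 4, 2, 0, 3, 1, 2, 4, 3, 3, 1, 2, 2] (Cert.fail)),
  (2, Cert.step [2, 2, 0, 3, 0, 3, 1, 2, 1] (Cert.fail)),
  (2, Cert.step [2, 0, 3, 4, 3, 3, 0, 2, 0, 2, 1, 3, 3, 4, 3] (Cert.fail))]

/-- the candidates for the image of the third generator, but one -/
def tab1a : List (List ℕ × ℕ × ℕ × ℕ) := [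
  ([], 0, 0, 1),
  ([0, 0], 0, 0, 1),
  ([0, 2, 0, 3, 3, 1, 2, 0, 3, 3, 3, 1, 3, 3, 1, 3, 3, 0, 3, 3, 0, 3, 1, 2, 1, 4, 2, 4, 2, 0, 4], 0, 2, 1),
  ([0, 2, 0, 3, 3, 1, 2, 0, 3, 3, 3, 1, 3, 3, 1, 3, 3, 0, 3, 3, 0, 3, 1, 2, 1, 4, 2, 4, 2, 1, 4], 0, 0, 1),
  ([2, 0, 2, 0, 2, 0, 4, 3, 3, 4, 2, 2, 0, 2, 2, 4, 3, 3, 4, 2, 0, 3, 0, 3, 1, 3, 1, 2, 4, 2, 2, 2, 4, 3, 0], 0, 0, 1),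
  ([2, 0, 2, 0, 2, 0, 4, 3, 3, 4, 2, 2, 0, 2, 2, 4, 3, 3, 4, 2, 0, 3, 0, 3, 1, 3, 1, 2, 4, 2, 2, 2, 4, 3, 1], 0, 0, 1),
  ([3, 3, 0, 2, 2, 0, 3, 0, 3, 3, 1, 2, 2, 0, 3, 3, 1, 3, 1, 2, 2, 1, 3, 0, 2, 0, 3, 4, 3, 3, 4, 3, 3, 4, 3, 3, 4, 1, 2, 2, 1, 4, 3, 0, 3, 3, 4, 3, 4, 1, 2, 4, 2, 0, 4, 3, 0, 4, 3, 3, 4], 0, 0, 1),
  ([3, 3, 0, 2, 2, 0, 3, 0, 3, 3, 1, 2, 2, 0, 3, 3, 1, 3, 1, 2, 2, 1, 3, 0, 2, 0, 3, 4, 3, 3, 4, 3, 3, 4, 3, 3, 4, 1, 2, 2, 1, 4, 3, 0, 3, 3, 4, 3, 4, 1, 2, 4, 2, 0, 4, 3, 1, 4, 3, 3, 4], 0, 4, 1),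
  ([2, 2, 0, 2, 2, 0, 2, 0, 3, 0, 3, 1, 2, 2, 1, 2, 1, 3, 3, 1, 3, 0, 0, 3, 1, 3, 3, 1, 2, 4, 2, 2, 0, 2, 2, 0, 4], 0, 0, 1),
  ([2, 2, 0, 2, 2, 0, 2, 0, 3, 0, 3, 1, 2, 2, 1, 2, 1, 3, 3, 1, 3, 0, 0, 3, 1, 3, 3, 1, 2, 4, 2, 2, 0, 2, 2, 1, 4], 0, 0, 1),
  ([2, 2, 2, 0, 2, 0, 2, 0, 2, 2, 0, 2, 0, 3, 1, 2, 0, 3, 3, 1, 3, 3, 4, 2, 4, 2, 2, 2, 0, 2], 0, 0, 1),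
  ([2, 2, 2, 0, 2, 0, 2, 0, 2, 2, 0, 2, 0, 3, 1, 2, 0, 3, 3, 1, 3, 3, 4, 2, 4, 2, 2, 2, 1, 2], 0, 0, 1),
  ([0, 2, 0, 2, 2, 0, 3, 3, 0, 3, 1, 2, 1, 3, 3, 1, 2, 1, 2, 2, 2, 4, 3, 0, 4, 2, 4, 2, 2, 4, 3, 3, 0, 3], 0, 0, 1),
  ([0, 2, 0, 2, 2, 0, 3, 3, 0, 3, 1, 2, 1, 3, 3, 1, 2, 1, 2, 2, 2, 4, 3, 0, 4, 2, 4, 2, 2, 4, 3, 3, 1, 3], 0, 0, 1),
  ([0, 3, 0, 3, 0, 2, 1, 3, 3, 0, 3, 3, 3, 1, 3, 1, 2, 2, 2, 0, 2, 2, 1, 2, 2, 4, 2, 2, 0, 2, 4, 3, 4], 0, 3, 1),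
  ([0, 3, 0, 3, 0, 2, 1, 3, 3, 0, 3, 3, 3, 1, 3, 1, 2, 2, 2, 0, 2, 2, 1, 2, 2, 4, 2, 2, 1, 2, 4, 3, 4], 0, 0, 1),
  ([3, 3, 0, 2, 2, 0, 3, 0, 3, 3, 1, 2, 2, 0, 3, 3, 1, 3, 1, 2, 2, 1, 3, 0, 3, 0, 3, 0, 2, 2, 2, 0, 2, 0, 3, 1, 3, 0, 4, 2, 0, 3, 1, 2, 4, 2, 2, 1, 2, 2, 4, 3, 3, 4, 2, 4, 2, 2, 0], 0, 4, 1),
  ([3, 3, 0, 2, 2, 0, 3, 0, 3, 3, 1, 2, 2, 0, 3, 3, 1, 3, 1, 2, 2, 1, 3, 0, 3, 0, 3, 0, 2, 2, 2, 0, 2, 0, 3, 1, 3, 0, 4, 2, 0, 3, 1, 2, 4, 2, 2, 1, 2, 2, 4, 3, 3, 4, 2, 4, 2, 2, 1], 0, 0, 1),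
  ([2, 2, 0, 2, 2, 0, 2, 1, 2, 0, 2, 2, 1, 3, 3, 1, 2, 2, 0, 2, 0, 3, 1, 2, 2, 4, 2, 0, 4, 2, 2, 0, 4, 2], 0, 4, 1),
  ([2, 2, 0, 2, 2, 0, 2, 1, 2, 0, 2, 2, 1, 3, 3, 1, 2, 2, 0, 2, 0, 3, 1, 2, 2, 4, 2, 0, 4, 2, 2, 1, 4, 2], 0, 0, 1),
  ([3, 3, 0, 2, 2, 0, 3, 0, 3, 3, 1, 2, 2, 0, 3, 3, 1, 3, 1, 2, 2, 1, 3, 3, 0, 2, 0, 2, 2, 0, 3, 1, 2, 2, 0, 3, 1, 3, 1, 3, 1, 2, 0, 4, 3, 3, 0, 2, 0, 2, 1, 3, 3, 4, 3, 3, 0, 4, 2, 2, 5, 4, 2, 2, 0, 2, 2, 5, 4, 3, 4, 5, 4, 3, 6], 0, 0, 0),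
  ([3, 3, 0, 2, 2, 0, 3, 0, 3, 3, 1, 2, 2, 0, 3, 3, 1, 3, 1, 2, 2, 1, 3, 3, 0, 2, 0, 2, 2, 0, 3, 1, 2, 2, 0, 3, 1, 3, 1, 3, 1, 2, 0, 4, 3, 3, 0, 2, 0, 2, 1, 3, 3, 4, 3, 3, 1, 4, 2, 2, 5, 4, 2, 2, 0, 2, 2, 5, 4, 3, 4, 5, 4, 3, 6], 0, 0, 1),
  ([3, 3, 0, 2, 0, 3, 3, 3, 1, 3, 1, 2, 2, 0, 0, 3, 1, 2, 1, 3, 4, 2, 2, 0, 4, 3, 5, 4, 2, 2, 0, 2, 2, 5, 4, 3, 4, 5, 4, 3, 6], 1, 0, 0),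
  ([3, 3, 0, 2, 0, 3, 3, 3, 1, 3, 1, 2, 2, 0, 0, 3, 1, 2, 1, 3, 4, 2, 2, 1, 4, 3, 5, 4, 2, 2, 0, 2, 2, 5, 4, 3, 4, 5, 4, 3, 6], 0, 0, 0),
  ([3, 3, 0, 2, 2, 0, 3, 0, 3, 3, 1, 2, 2, 0, 3, 3, 1, 3, 1, 2, 2, 1, 3, 0, 2, 0, 3, 4, 3, 3, 4, 3, 3, 4, 3, 3, 4, 1, 2, 2, 2, 0, 3, 3, 1, 2, 4, 2, 2, 0, 2, 0, 5, 4, 2, 2, 0, 2, 2, 5, 4, 3, 4, 5, 4, 3, 6], 0, 0, 0),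
  ([3, 3, 0, 2, 2, 0, 3, 0, 3, 3, 1, 2, 2, 0, 3, 3, 1, 3, 1, 2, 2, 1, 3, 0, 2, 0, 3, 4, 3, 3, 4, 3, 3, 4, 3, 3, 4, 1, 2, 2, 2, 0, 3, 3, 1, 2, 4, 2, 2, 0, 2, 1, 5, 4, 2, 2, 0, 2, 2, 5, 4, 3, 4, 5, 4, 3, 6], 0, 0, 1),
  ([1, 4, 2, 2, 4, 2, 2, 4, 2, 2, 4, 1, 3, 1, 2, 2, 2, 2, 0, 2, 1, 3, 3, 1, 4, 2, 0, 4, 2, 0, 4, 5, 4, 2, 2, 0, 2, 2, 5, 4, 3, 4, 5, 4, 3, 6], 0, 0, 1),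
  ([1, 4, 2, 2, 4, 2, 2, 4, 2, 2, 4, 1, 3, 1, 2, 2, 2, 2, 0, 2, 1, 3, 3, 1, 4, 2, 0, 4, 2, 1, 4, 5, 4, 2, 2, 0, 2, 2, 5, 4, 3, 4, 5, 4, 3, 6], 0, 0, 0),
  ([3, 3, 0, 2, 2, 0, 3, 0, 3, 3, 1, 2, 2, 0, 3, 3, 1, 3, 1, 2, 2, 1, 3, 0, 2, 0, 2, 2, 0, 3, 0, 3, 1, 2, 1, 2, 1, 2, 2, 1, 2, 4, 2, 4, 3, 3, 1, 2, 0, 2, 4, 3, 3, 4, 3, 3, 4, 2, 0, 4, 2, 2, 0, 5, 4, 2, 2, 0, 2, 2, 5, 4, 3, 4, 5, 4, 3, 6], 0, 1, 0),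
  ([3, 3, 0, 2, 2, 0, 3, 0, 3, 3, 1, 2, 2, 0, 3, 3, 1, 3, 1, 2, 2, 1, 3, 0, 2, 0, 2, 2, 0, 3, 0, 3, 1, 2, 1, 2, 1, 2, 2, 1, 2, 4, 2, 4, 3, 3, 1, 2, 0, 2, 4, 3, 3, 4, 3, 3, 4, 2, 0, 4, 2, 2, 1, 5, 4, 2, 2, 0, 2, 2, 5, 4, 3, 4, 5, 4, 3, 6], 0, 0, 0),
  ([2, 0, 2, 1, 3, 1, 3, 3, 3, 1, 2, 1, 2, 1, 3, 3, 4, 3, 3, 0, 2, 1, 3, 1, 2, 2, 4, 1, 2, 0, 4, 3, 3, 0, 4, 3, 4, 3, 5, 4, 2, 2, 0, 2, 2, 5, 4, 3, 4, 5, 4, 3, 6], 0, 0, 0),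
  ([2, 0, 2, 1, 3, 1, 3, 3, 3, 1, 2, 1, 2, 1, 3, 3, 4, 3, 3, 0, 2, 1, 3, 1, 2, 2, 4, 1, 2, 0, 4, 3, 3, 1, 4, 3, 4, 3, 5, 4, 2, 2, 0, 2, 2, 5, 4, 3, 4, 5, 4, 3, 6], 0, 0, 1),
  ([3, 3, 0, 2, 2, 0, 3, 0, 3, 3, 1, 2, 2, 0, 3, 3, 1, 3, 1, 2, 2, 1, 3, 3, 0, 2, 1, 2, 1, 2, 2, 1, 3, 3, 1, 3, 3, 1, 2, 0, 0, 2, 1, 2, 1, 3, 4, 2, 0, 4, 2, 4, 2, 4, 2, 5, 4, 2, 2, 0, 2, 2, 5, 4, 3, 4, 5, 4, 3, 6], 0, 0, 0),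
  ([3, 3, 0, 2, 2, 0, 3, 0, 3, 3, 1, 2, 2, 0, 3, 3, 1, 3, 1, 2, 2, 1, 3, 3, 0, 2, 1, 2, 1, 2, 2, 1, 3, 3, 1, 3, 3, 1, 2, 0, 0, 2, 1, 2, 1, 3, 4, 2, 1, 4, 2, 4, 2, 4, 2, 5, 4, 2, 2, 0, 2, 2, 5, 4, 3, 4, 5, 4, 3, 6], 0, 1, 0),
  ([2, 0, 2, 0, 3, 0, 3, 0, 2, 0, 2, 0, 3, 1, 3, 1, 3, 0, 0, 3, 3, 1, 3, 1, 4, 3, 0, 4, 3, 3, 4, 2, 4, 5, 4, 2, 2, 0, 2, 2, 5, 4, 3, 4, 5, 4, 3, 6], 0, 0, 0),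
  ([2, 0, 2, 0, 3, 0, 3, 0, 2, 0, 2, 0, 3, 1, 3, 1, 3, 0, 0, 3, 3, 1, 3, 1, 4, 3, 1, 4, 3, 3, 4, 2, 4, 5, 4, 2, 2, 0, 2, 2, 5, 4, 3, 4, 5, 4, 3, 6], 0, 1, 0),
  ([2, 0, 2, 0, 3, 0, 3, 0, 2, 0, 2, 0, 3, 1, 3, 1, 3, 0, 2, 0, 2, 1, 2, 4, 2, 2, 2, 0, 3, 4, 3, 3, 5, 4, 2, 2, 0, 2, 2, 5, 4, 3, 4, 5, 4, 3, 6], 0, 0, 0),
  ([2, 0, 2, 0, 3, 0, 3, 0, 2, 0, 2, 0, 3, 1, 3, 1, 3, 0, 2, 0, 2, 1, 2, 4, 2, 2, 2, 1, 3, 4, 3, 3, 5, 4, 2, 2, 0, 2, 2, 5, 4, 3, 4, 5, 4, 3, 6], 0, 1, 0),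
  ([3, 3, 0, 2, 2, 0, 3, 0, 3, 3, 1, 2, 2, 0, 3, 3, 1, 3, 1, 2, 2, 1, 2, 0, 3, 0, 2, 2, 0, 2, 0, 3, 1, 2, 2, 1, 3, 1, 3, 1, 3, 0, 3, 0, 3, 1, 3, 1, 2, 4, 2, 0, 4, 2, 2, 0, 3, 0, 4, 5, 4, 2, 2, 0, 2, 2, 5, 4, 3, 4, 5, 4, 3, 6], 0, 0, 0),
  ([3, 3, 0, 2, 2, 0, 3, 0, 3, 3, 1, 2, 2, 0, 3, 3, 1, 3, 1, 2, 2, 1, 2, 0, 3, 0, 2, 2, 0, 2, 0, 3, 1, 2, 2, 1, 3, 1, 3, 1, 3, 0, 3, 0, 3, 1, 3, 1, 2, 4, 2, 0, 4, 2, 2, 0, 3, 1, 4, 5, 4, 2, 2, 0, 2, 2, 5, 4, 3, 4, 5, 4, 3, 6], 0, 0, 1),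
  ([3, 3, 0, 2, 2, 0, 3, 0, 3, 3, 1, 2, 2, 0, 3, 3, 1, 3, 1, 2, 2, 1, 3, 3, 0, 2, 0, 2, 2, 0, 3, 1, 2, 2, 0, 3, 1, 3, 1, 3, 1, 2, 0, 4, 3, 3, 0, 2, 0, 2, 1, 3, 3, 4, 3, 3, 0, 4, 2, 2, 5, 4, 2, 2, 1, 2, 2, 6, 4, 3, 4, 6, 4, 3, 5], 0, 0, 1),
  ([3, 3, 0, 2, 2, 0, 3, 0, 3, 3, 1, 2, 2, 0, 3, 3, 1, 3, 1, 2, 2, 1, 3, 3, 0, 2, 0, 2, 2, 0, 3, 1, 2, 2, 0, 3, 1, 3, 1, 3, 1, 2, 0, 4, 3, 3, 0, 2, 0, 2, 1, 3, 3, 4, 3, 3, 1, 4, 2, 2, 5, 4, 2, 2, 1, 2, 2, 6, 4, 3, 4, 6, 4, 3, 5], 0, 0, 0),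
  ([3, 3, 0, 2, 0, 3, 3, 3, 1, 3, 1, 2, 2, 0, 0, 3, 1, 2, 1, 3, 4, 2, 2, 0, 4, 3, 5, 4, 2, 2, 1, 2, 2, 6, 4, 3, 4, 6, 4, 3, 5], 0, 0, 0),
  ([3, 3, 0, 2, 2, 0, 3, 0, 3, 3, 1, 2, 2, 0, 3, 3, 1, 3, 1, 2, 2, 1, 3, 0, 2, 0, 3, 4, 3, 3, 4, 3, 3, 4, 3, 3, 4, 1, 2, 2, 2, 0, 3, 3, 1, 2, 4, 2, 2, 0, 2, 0, 5, 4, 2, 2, 1, 2, 2, 6, 4, 3, 4, 6, 4, 3, 5], 0, 0, 1),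
  ([3, 3, 0, 2, 2, 0, 3, 0, 3, 3, 1, 2, 2, 0, 3, 3, 1, 3, 1, 2, 2, 1, 3, 0, 2, 0, 3, 4, 3, 3, 4, 3, 3, 4, 3, 3, 4, 1, 2, 2, 2, 0, 3, 3, 1, 2, 4, 2, 2, 0, 2, 1, 5, 4, 2, 2, 1, 2, 2, 6, 4, 3, 4, 6, 4, 3, 5], 0, 0, 0),
  ([1, 4, 2, 2, 4, 2, 2, 4, 2, 2, 4, 1, 3, 1, 2, 2, 2, 2, 0, 2, 1, 3, 3, 1, 4, 2, 0, 4, 2, 0, 4, 5, 4, 2, 2, 1, 2, 2, 6, 4, 3, 4, 6, 4, 3, 5], 0, 0, 0),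
  ([1, 4, 2, 2, 4, 2, 2, 4, 2, 2, 4, 1, 3, 1, 2, 2, 2, 2, 0, 2, 1, 3, 3, 1, 4, 2, 0, 4, 2, 1, 4, 5, 4, 2, 2, 1, 2, 2, 6, 4, 3, 4, 6, 4, 3, 5], 0, 0, 1),
  ([3, 3, 0, 2, 2, 0, 3, 0, 3, 3, 1, 2, 2, 0, 3, 3, 1, 3, 1, 2, 2, 1, 3, 0, 2, 0, 2, 2, 0, 3, 0, 3, 1, 2, 1, 2, 1, 2, 2, 1, 2, 4, 2, 4, 3, 3, 1, 2, 0, 2, 4, 3, 3, 4, 3, 3, 4, 2, 0, 4, 2, 2, 0, 5, 4, 2, 2, 1, 2, 2, 6, 4, 3, 4, 6, 4, 3, 5], 0, 0, 0),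
  ([3, 3, 0, 2, 2, 0, 3, 0, 3, 3, 1, 2, 2, 0, 3, 3, 1, 3, 1, 2, 2, 1, 3, 0, 2, 0, 2, 2, 0, 3, 0, 3, 1, 2, 1, 2, 1, 2, 2, 1, 2, 4, 2, 4, 3, 3, 1, 2, 0, 2, 4, 3, 3, 4, 3, 3, 4, 2, 0, 4, 2, 2, 1, 5, 4, 2, 2, 1, 2, 2, 6, 4, 3, 4, 6, 4, 3, 5], 0, 1, 0),
  ([2, 0, 2, 1, 3, 1, 3, 3, 3, 1, 2, 1, 2, 1, 3, 3, 4, 3, 3, 0, 2, 1, 3, 1, 2, 2, 4, 1, 2, 0, 4, 3, 3, 0, 4, 3, 4, 3, 5, 4, 2, 2, 1, 2, 2, 6, 4, 3, 4, 6, 4, 3, 5], 0, 0, 1),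
  ([2, 0, 2, 1, 3, 1, 3, 3, 3, 1, 2, 1, 2, 1, 3, 3, 4, 3, 3, 0, 2, 1, 3, 1, 2, 2, 4, 1, 2, 0, 4, 3, 3, 1, 4, 3, 4, 3, 5, 4, 2, 2, 1, 2, 2, 6, 4, 3, 4, 6, 4, 3, 5], 0, 0, 0),
  ([3, 3, 0, 2, 2, 0, 3, 0, 3, 3, 1, 2, 2, 0, 3, 3, 1, 3, 1, 2, 2, 1, 3, 3, 0, 2, 1, 2, 1, 2, 2, 1, 3, 3, 1, 3, 3, 1, 2, 0, 0, 2, 1, 2, 1, 3, 4, 2, 0, 4, 2, 4, 2, 4, 2, 5, 4, 2, 2, 1, 2, 2, 6, 4, 3, 4, 6, 4, 3, 5], 0, 1, 0),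
  ([3, 3, 0, 2, 2, 0, 3, 0, 3, 3, 1, 2, 2, 0, 3, 3, 1, 3, 1, 2, 2, 1, 3, 3, 0, 2, 1, 2, 1, 2, 2, 1, 3, 3, 1, 3, 3, 1, 2, 0, 0, 2, 1, 2, 1, 3, 4, 2, 1, 4, 2, 4, 2, 4, 2, 5, 4, 2, 2, 1, 2, 2, 6, 4, 3, 4, 6, 4, 3, 5], 0, 0, 0),
  ([2, 0, 2, 0, 3, 0, 3, 0, 2, 0, 2, 0, 3, 1, 3, 1, 3, 0, 0, 3, 3, 1, 3, 1, 4, 3, 0, 4, 3, 3, 4, 2, 4, 5, 4, 2, 2, 1, 2, 2, 6, 4, 3, 4, 6, 4, 3, 5], 0, 1, 0),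
  ([2, 0, 2, 0, 3, 0, 3, 0, 2, 0, 2, 0, 3, 1, 3, 1, 3, 0, 0, 3, 3, 1, 3, 1, 4, 3, 1, 4, 3, 3, 4, 2, 4, 5, 4, 2, 2, 1, 2, 2, 6, 4, 3, 4, 6, 4, 3, 5], 0, 0, 0),
  ([2, 0, 2, 0, 3, 0, 3, 0, 2, 0, 2, 0, 3, 1, 3, 1, 3, 0, 2, 0, 2, 1, 2, 4, 2, 2, 2, 0, 3, 4, 3, 3, 5, 4, 2, 2, 1, 2, 2, 6, 4, 3, 4, 6, 4, 3, 5], 0, 1, 0),
  ([2, 0, 2, 0, 3, 0, 3, 0, 2, 0, 2, 0, 3, 1, 3, 1, 3, 0, 2, 0, 2, 1, 2, 4, 2, 2, 2, 1, 3, 4, 3, 3, 5, 4, 2, 2, 1, 2, 2, 6, 4, 3, 4, 6, 4, 3, 5], 0, 0, 0),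
  ([3, 3, 0, 2, 2, 0, 3, 0, 3, 3, 1, 2, 2, 0, 3, 3, 1, 3, 1, 2, 2, 1, 2, 0, 3, 0, 2, 2, 0, 2, 0, 3, 1, 2, 2, 1, 3, 1, 3, 1, 3, 0, 3, 0, 3, 1, 3, 1, 2, 4, 2, 0, 4, 2, 2, 0, 3, 0, 4, 5, 4, 2, 2, 1, 2, 2, 6, 4, 3, 4, 6, 4, 3, 5], 0, 0, 1),
  ([3, 3, 0, 2, 2, 0, 3, 0, 3, 3, 1, 2, 2, 0, 3, 3, 1, 3, 1, 2, 2, 1, 2, 0, 3, 0, 2, 2, 0, 2, 0, 3, 1, 2, 2, 1, 3, 1, 3, 1, 3, 0, 3, 0, 3, 1, 3, 1, 2, 4, 2, 0, 4, 2, 2, 0, 3, 1, 4, 5, 4, 2, 2, 1, 2, 2, 6, 4, 3, 4, 6, 4, 3, 5], 0, 0, 0),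
  ([3, 3, 0, 2, 2, 0, 3, 0, 3, 3, 1, 2, 2, 0, 3, 3, 1, 3, 1, 2, 2, 2, 0, 2, 1, 3, 1, 3, 1, 3, 3, 1, 2, 2, 1, 2, 2, 1, 3, 4, 3, 4, 3, 5, 4, 2, 4, 2, 2, 5, 4, 3, 4, 2, 2, 2, 6, 4, 3], 0, 0, 1),
  ([3, 3, 0, 2, 2, 0, 3, 0, 3, 3, 1, 2, 2, 0, 3, 3, 1, 3, 1, 2, 2, 2, 0, 2, 1, 3, 1, 3, 1, 3, 3, 1, 2, 2, 1, 2, 2, 1, 3, 0, 0, 4, 3, 4, 3, 5, 4, 2, 4, 2, 2, 5, 4, 3, 4, 2, 2, 2, 6, 4, 3], 0, 0, 0),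
  ([2, 0, 2, 2, 1, 3, 1, 3, 1, 3, 1, 3, 3, 3, 1, 3, 0, 3, 3, 0, 3, 1, 2, 1, 3, 4, 2, 2, 4, 3, 5, 4, 2, 4, 2, 2, 5, 4, 3, 4, 2, 2, 2, 6, 4, 3], 0, 0, 1),
  ([2, 0, 2, 2, 1, 3, 1, 3, 1, 3, 1, 3, 3, 3, 1, 3, 0, 3, 3, 0, 3, 1, 2, 1, 3, 0, 0, 4, 2, 2, 4, 3, 5, 4, 2, 4, 2, 2, 5, 4, 3, 4, 2, 2, 2, 6, 4, 3], 0, 0, 0),
  ([3, 0, 2, 4, 3, 3, 4, 3, 3, 4, 3, 3, 4, 2, 1, 2, 2, 0, 0, 2, 1, 3, 1, 3, 0, 4, 3, 3, 4, 2, 0, 5, 4, 2, 4, 2, 2, 5, 4, 3, 4, 2, 2, 2, 6, 4, 3], 0, 0, 1),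
  ([3, 0, 2, 4, 3, 3, 4, 3, 3, 4, 3, 3, 4, 2, 1, 2, 2, 0, 0, 2, 1, 3, 1, 3, 0, 4, 3, 3, 4, 2, 1, 5, 4, 2, 4, 2, 2, 5, 4, 3, 4, 2, 2, 2, 6, 4, 3], 0, 0, 0),
  ([2, 0, 3, 3, 0, 3, 0, 3, 1, 3, 3, 1, 2, 2, 1, 3, 3, 3, 3, 0, 2, 2, 0, 3, 3, 3, 1, 1, 4, 2, 0, 2, 4, 2, 4, 5, 4, 2, 4, 2, 2, 5, 4, 3, 4, 2, 2, 2, 6, 4, 3], 0, 0, 0),
  ([2, 0, 3, 3, 0, 3, 0, 3, 1, 3, 3, 1, 2, 2, 1, 3, 3, 3, 3, 0, 2, 2, 0, 3, 3, 3, 1, 1, 4, 2, 1, 2, 4, 2, 4, 5, 4, 2, 4, 2, 2, 5, 4, 3, 4, 2, 2, 2, 6, 4, 3], 0, 1, 0),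
  ([3, 3, 0, 2, 2, 0, 3, 0, 3, 3, 1, 2, 2, 0, 3, 3, 1, 3, 1, 2, 2, 1, 2, 0, 2, 2, 2, 0, 3, 3, 1, 3, 0, 2, 2, 1, 3, 1, 3, 3, 0, 2, 2, 1, 2, 4, 2, 2, 0, 2, 0, 3, 5, 4, 2, 4, 2, 2, 5, 4, 3, 4, 2, 2, 2, 6, 4, 3], 0, 0, 0),
  ([3, 3, 0, 2, 2, 0, 3, 0, 3, 3, 1, 2, 2, 0, 3, 3, 1, 3, 1, 2, 2, 1, 2, 0, 2, 2, 2, 0, 3, 3, 1, 3, 0, 2, 2, 1, 3, 1, 3, 3, 0, 2, 2, 1, 2, 4, 2, 2, 0, 2, 1, 3, 5, 4, 2, 4, 2, 2, 5, 4, 3, 4, 2, 2, 2, 6, 4, 3], 0, 1, 0),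
  ([2, 2, 0, 3, 0, 2, 2, 0, 2, 0, 3, 1, 2, 2, 1, 3, 1, 3, 1, 3, 3, 0, 3, 0, 3, 1, 2, 2, 1, 4, 3, 0, 4, 3, 3, 4, 5, 4, 2, 4, 2, 2, 5, 4, 3, 4, 2, 2, 2, 6, 4, 3], 0, 1, 0),
  ([2, 2, 0, 3, 0, 2, 2, 0, 2, 0, 3, 1, 2, 2, 1, 3, 1, 3, 1, 3, 3, 0, 3, 0, 3, 1, 2, 2, 1, 4, 3, 1, 4, 3, 3, 4, 5, 4, 2, 4, 2, 2, 5, 4, 3, 4, 2, 2, 2, 6, 4, 3], 0, 0, 0),
  ([3, 3, 0, 2, 2, 0, 3, 0, 3, 3, 1, 2, 2, 0, 3, 3, 1, 3, 1, 2, 2, 1, 2, 0, 2, 2, 2, 0, 3, 3, 1, 3, 0, 2, 2, 1, 3, 1, 3, 3, 0, 2, 2, 1, 2, 0, 4, 2, 4, 3, 3, 4, 3, 0, 5, 4, 2, 4, 2, 2, 5, 4, 3, 4, 2, 2, 2, 6, 4, 3], 0, 0, 0),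
  ([3, 3, 0, 2, 2, 0, 3, 0, 3, 3, 1, 2, 2, 0, 3, 3, 1, 3, 1, 2, 2, 1, 2, 0, 2, 2, 2, 0, 3, 3, 1, 3, 0, 2, 2, 1, 3, 1, 3, 3, 0, 2, 2, 1, 2, 0, 4, 2, 4, 3, 3, 4, 3, 1, 5, 4, 2, 4, 2, 2, 5, 4, 3, 4, 2, 2, 2, 6, 4, 3], 0, 1, 0),
  ([2, 0, 2, 2, 2, 0, 3, 0, 2, 2, 0, 3, 0, 3, 3, 3, 1, 3, 3, 0, 2, 2, 0, 3, 3, 1, 2, 1, 3, 4, 2, 2, 0, 2, 0, 4, 3, 3, 5, 4, 2, 4, 2, 2, 5, 4, 3, 4, 2, 2, 2, 6, 4, 3], 0, 0, 0),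
  ([2, 0, 2, 2, 2, 0, 3, 0, 2, 2, 0, 3, 0, 3, 3, 3, 1, 3, 3, 0, 2, 2, 0, 3, 3, 1, 2, 1, 3, 4, 2, 2, 0, 2, 1, 4, 3, 3, 5, 4, 2, 4, 2, 2, 5, 4, 3, 4, 2, 2, 2, 6, 4, 3], 0, 0, 1),
  ([0, 2, 2, 0, 2, 2, 0, 3, 3, 0, 2, 1, 2, 2, 1, 3, 1, 3, 1, 3, 0, 3, 0, 2, 2, 1, 2, 2, 4, 2, 4, 2, 4, 2, 2, 0, 4, 5, 4, 2, 4, 2, 2, 5, 4, 3, 4, 2, 2, 2, 6, 4, 3], 0, 0, 0),
  ([0, 2, 2, 0, 2, 2, 0, 3, 3, 0, 2, 1, 2, 2, 1, 3, 1, 3, 1, 3, 0, 3, 0, 2, 2, 1, 2, 2, 4, 2, 4, 2, 4, 2, 2, 1, 4, 5, 4, 2, 4, 2, 2, 5, 4, 3, 4, 2, 2, 2, 6, 4, 3], 0, 0, 1),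
  ([2, 0, 2, 0, 2, 2, 2, 0, 3, 0, 3, 3, 1, 2, 2, 1, 2, 1, 2, 2, 1, 3, 3, 0, 4, 2, 4, 3, 3, 4, 3, 0, 2, 5, 4, 2, 4, 2, 2, 5, 4, 3, 4, 2, 2, 2, 6, 4, 3], 0, 2, 0),
  ([2, 0, 2, 0, 2, 2, 2, 0, 3, 0, 3, 3, 1, 2, 2, 1, 2, 1, 2, 2, 1, 3, 3, 0, 4, 2, 4, 3, 3, 4, 3, 1, 2, 5, 4, 2, 4, 2, 2, 5, 4, 3, 4, 2, 2, 2, 6, 4, 3], 0, 0, 0),
  ([2, 0, 2, 2, 2, 0, 3, 0, 2, 2, 0, 3, 0, 3, 3, 3, 1, 3, 3, 0, 2, 0, 3, 3, 1, 3, 3, 3, 1, 4, 3, 4, 2, 5, 4, 3, 3, 0, 3, 4, 3, 6, 4, 2, 5, 4, 2, 4, 6], 0, 0, 0),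
  ([2, 0, 2, 2, 2, 0, 3, 0, 2, 2, 0, 3, 0, 3, 3, 3, 1, 3, 3, 0, 2, 0, 3, 3, 1, 3, 3, 3, 0, 4, 3, 4, 2, 5, 4, 3, 3, 0, 3, 4, 3, 6, 4, 2, 5, 4, 2, 4, 6], 0, 1, 0),
  ([3, 3, 0, 2, 2, 0, 3, 0, 3, 3, 1, 2, 2, 0, 3, 3, 1, 3, 1, 2, 2, 1, 2, 2, 0, 2, 0, 2, 2, 1, 2, 1, 3, 1, 3, 1, 3, 1, 2, 2, 1, 3, 0, 3, 0, 2, 1, 3, 3, 1, 3, 4, 2, 4, 2, 0, 4, 5, 4, 3, 3, 0, 3, 4, 3, 6, 4, 2, 5, 4, 2, 4, 6], 0, 0, 1),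
  ([3, 3, 0, 2, 2, 0, 3, 0, 3, 3, 1, 2, 2, 0, 3, 3, 1, 3, 1, 2, 2, 1, 2, 2, 0, 2, 0, 2, 2, 1, 2, 1, 3, 1, 3, 1, 3, 1, 2, 2, 1, 3, 0, 3, 0, 2, 1, 3, 3, 1, 3, 4, 2, 4, 2, 1, 4, 5, 4, 3, 3, 0, 3, 4, 3, 6, 4, 2, 5, 4, 2, 4, 6], 0, 0, 0),
  ([3, 3, 0, 2, 2, 0, 3, 0, 3, 3, 1, 2, 2, 0, 3, 3, 1, 3, 1, 2, 2, 1, 3, 3, 0, 3, 0, 3, 0, 2, 0, 2, 0, 3, 3, 1, 3, 1, 3, 1, 2, 1, 2, 1, 3, 0, 2, 2, 0, 2, 2, 1, 1, 4, 3, 4, 3, 0, 3, 5, 4, 3, 3, 0, 3, 4, 3, 6, 4, 2, 5, 4, 2, 4, 6], 0, 0, 0),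
  ([3, 3, 0, 2, 2, 0, 3, 0, 3, 3, 1, 2, 2, 0, 3, 3, 1, 3, 1, 2, 2, 1, 3, 3, 0, 3, 0, 3, 0, 2, 0, 2, 0, 3, 3, 1, 3, 1, 3, 1, 2, 1, 2, 1, 3, 0, 2, 2, 0, 2, 2, 1, 1, 4, 3, 4, 3, 1, 3, 5, 4, 3, 3, 0, 3, 4, 3, 6, 4, 2, 5, 4, 2, 4, 6], 0, 2, 0),
  ([0, 4, 3, 3, 4, 2, 4, 2, 0, 4, 2, 4, 3, 3, 3, 4, 0, 2, 0, 3, 3, 1, 3, 1, 3, 3, 0, 4, 3, 4, 2, 2, 2, 4, 5, 4, 3, 3, 0, 3, 4, 3, 6, 4, 2, 5, 4, 2, 4, 6], 0, 0, 0),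
  ([0, 4, 3, 3, 4, 2, 4, 2, 0, 4, 2, 4, 3, 3, 3, 4, 0, 2, 0, 3, 3, 1, 3, 1, 3, 3, 1, 4, 3, 4, 2, 2, 2, 4, 5, 4, 3, 3, 0, 3, 4, 3, 6, 4, 2, 5, 4, 2, 4, 6], 0, 0, 1),
  ([3, 3, 0, 2, 2, 0, 3, 0, 3, 3, 1, 2, 2, 0, 3, 3, 1, 3, 1, 2, 2, 1, 3, 0, 4, 3, 4, 3, 0, 4, 2, 4, 3, 3, 4, 3, 3, 3, 4, 0, 3, 0, 3, 0, 2, 1, 3, 3, 1, 4, 3, 4, 2, 2, 4, 2, 2, 5, 4, 3, 3, 0, 3, 4, 3, 6, 4, 2, 5, 4, 2, 4, 6], 0, 0, 1),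
  ([3, 3, 0, 2, 2, 0, 3, 0, 3, 3, 1, 2, 2, 0, 3, 3, 1, 3, 1, 2, 2, 1, 3, 0, 3, 3, 0, 2, 0, 4, 3, 3, 4, 3, 3, 4, 3, 3, 4, 0, 3, 0, 2, 0, 2, 1, 3, 1, 3, 3, 4, 3, 4, 3, 1, 4, 3, 3, 5, 4, 3, 3, 0, 3, 4, 3, 6, 4, 2, 5, 4, 2, 4, 6], 0, 0, 0),
  ([3, 0, 3, 3, 0, 2, 2, 0, 2, 2, 1, 2, 2, 0, 3, 1, 3, 1, 3, 1, 3, 0, 3, 0, 2, 1, 2, 1, 3, 3, 0, 4, 2, 4, 2, 2, 0, 4, 3, 5, 4, 3, 3, 0, 3, 4, 3, 6, 4, 2, 5, 4, 2, 4, 6], 0, 0, 0),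
  ([3, 0, 3, 3, 0, 2, 2, 0, 2, 2, 1, 2, 2, 0, 3, 1, 3, 1, 3, 1, 3, 0, 3, 0, 2, 1, 2, 1, 3, 3, 0, 4, 2, 4, 2, 2, 1, 4, 3, 5, 4, 3, 3, 0, 3, 4, 3, 6, 4, 2, 5, 4, 2, 4, 6], 0, 0, 1),
  ([3, 3, 0, 2, 2, 0, 3, 0, 3, 3, 1, 2, 2, 0, 3, 3, 1, 3, 1, 2, 2, 2, 1, 3, 1, 3, 3, 3, 1, 2, 1, 2, 2, 0, 2, 1, 3, 1, 3, 4, 2, 0, 4, 2, 2, 0, 3, 4, 5, 4, 3, 3, 0, 3, 4, 3, 6, 4, 2, 5, 4, 2, 4, 6], 0, 0, 0),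
  ([3, 3, 0, 2, 2, 0, 3, 0, 3, 3, 1, 2, 2, 0, 3, 3, 1, 3, 1, 2, 2, 2, 1, 3, 1, 3, 3, 3, 1, 2, 1, 2, 2, 0, 2, 1, 3, 1, 3, 4, 2, 0, 4, 2, 2, 1, 3, 4, 5, 4, 3, 3, 0, 3, 4, 3, 6, 4, 2, 5, 4, 2, 4, 6], 0, 0, 1),
  ([2, 2, 2, 0, 4, 3, 3, 4, 3, 3, 4, 3, 3, 4, 2, 2, 1, 2, 0, 3, 0, 3, 1, 2, 1, 3, 4, 2, 2, 0, 2, 0, 2, 0, 4, 5, 4, 3, 3, 0, 3, 4, 3, 6, 4, 2, 5, 4, 2, 4, 6], 0, 0, 0),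
  ([2, 2, 2, 0, 4, 3, 3, 4, 3, 3, 4, 3, 3, 4, 2, 2, 1, 2, 0, 3, 0, 3, 1, 2, 1, 3, 4, 2, 2, 0, 2, 0, 2, 1, 4, 5, 4, 3, 3, 0, 3, 4, 3, 6, 4, 2, 5, 4, 2, 4, 6], 0, 1, 0),
  ([0, 2, 0, 3, 3, 1, 3, 3, 0, 2, 2, 1, 3, 1, 3, 3, 3, 0, 0, 2, 2, 1, 2, 1, 3, 3, 4, 2, 4, 2, 2, 4, 2, 0, 4, 5, 4, 3, 3, 0, 3, 4, 3, 6, 4, 2, 5, 4, 2, 4, 6], 0, 1, 0),
  ([0, 2, 0, 3, 3, 1, 3, 3, 0, 2, 2, 1, 3, 1, 3, 3, 3, 0, 0, 2, 2, 1, 2, 1, 3, 3, 4, 2, 4, 2, 2, 4, 2, 1, 4, 5, 4, 3, 3, 0, 3, 4, 3, 6, 4, 2, 5, 4, 2, 4, 6], 0, 0, 0),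
  ([3, 3, 0, 2, 2, 0, 3, 0, 3, 3, 1, 2, 2, 0, 3, 3, 1, 3, 1, 2, 2, 2, 1, 2, 2, 0, 2, 1, 3, 3, 0, 3, 0, 2, 2, 1, 4, 2, 4, 2, 4, 2, 4, 3, 3, 0, 5, 4, 3, 3, 0, 3, 4, 3, 6, 4, 2, 5, 4, 2, 4, 6], 0, 0, 0),
  ([3, 3, 0, 2, 2, 0, 3, 0, 3, 3, 1, 2, 2, 0, 3, 3, 1, 3, 1, 2, 2, 2, 1, 2, 2, 0, 2, 1, 3, 3, 0, 3, 0, 2, 2, 1, 4, 2, 4, 2, 4, 2, 4, 3, 3, 1, 5, 4, 3, 3, 0, 3, 4, 3, 6, 4, 2, 5, 4, 2, 4, 6], 0, 1, 0)]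

/-- the last candidate for the image of the third generator -/
def tab1b : List (List ℕ × ℕ × ℕ × ℕ) := [
  ([3, 3, 0, 2, 0, 3, 3, 3, 1, 3, 1, 2, 2, 0, 0, 3, 1, 2, 1, 3, 4, 2, 2, 1, 4, 3, 5, 4, 2, 2, 1, 2, 2, 6, 4, 3, 4, 6, 4, 3, 5], 1, 0, 0)]

end Cfsg.Agent.Lib.Helper2.HNOutD
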