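import Cfsg.Agent.Lib.Helper2.PMChain8

set_option autoImplicit false
set_option maxRecDepth 100000

/-! # Data for the automorphisms of the presented Harada–Norton group on 1539000 points: the certificate of the search of the centralizer of the element of order 10, part 5 -/

namespace Cfsg.Agent.Lib.Helper2.HNOutD

open Cfsg.Agent.Lib.Helper2.PMC

/-- the elements of the centralizer of the element of order 10 mapping the point 0 to its fixed point 1139658 -/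
def certH4 : Cert := Cert.rl [(4, Cert.fail),
  (2, Cert.step [2, 2, 0, 2, 0, 2, 1, 3, 1, 2] (Cert.fail)),
  (2, Cert.step [2, 0, 3, 4, 3, 0, 2, 2, 0, 2, 1, 2, 4] (Cert.fail)),
  (1, Cert.step [0, 2, 2, 0, 2, 1, 3, 3, 1] (Cert.fail)),
  (1, Cert.step [0, 0, 2, 2, 2, 1, 3, 3, 1, 2] (Cert.fail)),
  (1, Cert.step [0, 2, 2, 0, 2, 1, 3, 3, 1] (Cert.fail)),
  (1, Cert.step [0, 0, 2, 2, 2, 1, 3, 3, 1, 2] (Cert.fail)),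
  (1, Cert.step [0, 2, 2, 1, 3] (Cert.fail)),
  (1, Cert.step [0, 3, 4, 3, 0, 4, 2, 4, 2, 2, 1, 2, 4, 1] (Cert.fail)),
  (1, Cert.step [0, 2, 2, 1, 3] (Cert.fail)),
  (1, Cert.step [0, 3, 4, 3, 0, 4, 2, 4, 2, 2, 1, 2, 4, 1] (Cert.fail)),
  (2, Cert.step [0, 2, 0, 2, 2, 1, 3, 1, 2] (Cert.step [2, 0, 2, 2, 0, 2, 0, 2, 0, 3, 0, 3, 3, 0, 2, 2, 1, 2, 1] (Cert.fail))),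
  (1, Cert.step [2, 0, 3, 0, 3, 1, 2, 1, 2] (Cert.fail)),
  (1, Cert.fail),
  (2, Cert.step [3, 0, 3, 3, 1, 2, 2] (Cert.fail)),
  (1, Cert.step [2, 0, 3, 0, 2, 2, 1, 2, 1] (Cert.fail)),
  (1, Cert.step [3, 0, 2, 2, 0, 3, 1, 3, 1] (Cert.fail)),
  (1, Cert.step [2, 0, 3, 0, 3, 1, 2, 1, 2] (Cert.fail)),
  (1, Cert.fail),
  (1, Cert.step [2, 0, 3, 0, 2, 2, 1, 2, 1] (Cert.fail)),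
  (1, Cert.step [3, 0, 2, 2, 0, 3, 1, 3, 1] (Cert.fail)),
  (2, Cert.step [2, 0, 3, 0, 2, 2, 1, 2, 1] (Cert.step [0, 4, 3, 4, 3, 0, 4, 2, 4, 3, 3, 4, 3, 3, 3, 4, 0] (Cert.fail))),
  (1, Cert.step [0, 3, 4, 3, 3, 1, 4, 2, 1, 2, 1, 3, 4, 3, 4] (Cert.fail)),
  (1, Cert.fail),
  (2, Cert.step [3, 0, 2, 2, 2, 1, 3, 3, 3] (Cert.fail)),
  (1, Cert.step [0, 2, 0, 2, 2, 1, 3, 1, 2] (Cert.fail)),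
  (1, Cert.step [3, 0, 2, 0, 2, 1, 3, 1, 3] (Cert.fail)),
  (1, Cert.step [0, 3, 4, 3, 3, 1, 4, 2, 1, 2, 1, 3, 4, 3, 4] (Cert.fail)),
  (1, Cert.fail),
  (1, Cert.step [0, 2, 0, 2, 2, 1, 3, 1, 2] (Cert.fail)),
  (1, Cert.step [3, 0, 2, 0, 2, 1, 3, 1, 3] (Cert.fail)),
  (1, Cert.step [0, 0, 3, 1, 2, 1, 3, 3] (Cert.fail)),
  (1, Cert.step [0, 0, 2, 2, 1, 2, 2, 1, 3] (Cert.fail)),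
  (1, Cert.step [0, 0, 3, 1, 2, 1, 3, 3] (Cert.fail)),
  (1, Cert.step [0, 0, 2, 2, 1, 2, 2, 1, 3] (Cert.fail)),
  (2, Cert.step [3, 0, 3, 0, 3, 1, 2, 1] (Cert.fail)),
  (1, Cert.step [0, 3, 3, 0, 3, 3, 1, 3, 1, 3] (Cert.fail)),
  (1, Cert.step [0, 2, 0, 2, 2, 1, 2, 1, 3, 3] (Cert.step [3, 3, 0, 2, 2, 0, 3, 1, 3, 3, 3, 0, 2, 1, 2, 2, 1] (Cert.fail))),
  (1, Cert.fail),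
  (1, Cert.step [0, 2, 0, 2, 1, 3, 3, 3, 1] (Cert.fail)),
  (2, Cert.step [0, 0, 2, 2, 1, 2, 2, 1, 3] (Cert.step [2, 2, 0, 2, 0, 3, 3, 0, 3, 3, 0, 2, 1, 3, 1, 3, 1, 3, 1] (Cert.fail))),
  (2, Cert.fail),
  (1, Cert.step [0, 2, 0, 3, 3, 1, 3, 1, 3, 3] (Cert.fail)),
  (1, Cert.step [0, 2, 0, 3, 3, 1, 3, 3, 3, 1] (Cert.step [2, 0, 2, 2, 2, 0, 3, 0, 2, 2, 0, 3, 0, 3, 3, 3, 1, 3, 3] (Cert.step [] (Cert.done [2, 0, 2, 2, 2, 0, 3, 0, 2, 2, 0, 3, 0, 3, 3, 3, 1, 3, 3, 0, 2, 0, 3, 3, 1, 3, 3, 3, 1, 4, 3, 4, 2, 5, 4, 3, 3, 0, 3, 4, 3, 6, 4, 2, 5, 4, 2, 4, 6])))),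
  (1, Cert.step [0, 3, 0, 2, 1, 2, 1, 3, 3, 3] (Cert.step [2, 0, 2, 0, 2, 1, 3, 1, 3, 1, 2, 1, 2, 1, 3, 1, 3] (Cert.fail))),
  (1, Cert.step [0, 3, 3, 0, 3, 3, 1, 3, 1, 3] (Cert.fail)),
  (1, Cert.step [0, 2, 0, 2, 2, 1, 2, 1, 3, 3] (Cert.step [3, 3, 0, 2, 2, 0, 3, 1, 3, 3, 3, 0, 2, 1, 2, 2, 1] (Cert.fail))),
  (1, Cert.fail),
  (1, Cert.step [0, 2, 0, 2, 1, 3, 3, 3, 1] (Cert.fail)),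
  (1, Cert.step [0, 2, 0, 3, 3, 1, 3, 1, 3, 3] (Cert.fail)),
  (1, Cert.step [0, 2, 0, 3, 3, 1, 3, 3, 3, 1] (Cert.step [2, 0, 2, 2, 2, 0, 3, 0, 2, 2, 0, 3, 0, 3, 3, 3, 1, 3, 3] (Cert.step [] (Cert.done [2, 0, 2, 2, 2, 0, 3, 0, 2, 2, 0, 3, 0, 3, 3, 3, 1, 3, 3, 0, 2, 0, 3, 3, 1, 3, 3, 3, 0, 4, 3, 4, 2, 5, 4, 3, 3, 0, 3, 4, 3, 6, 4, 2, 5, 4, 2, 4, 6])))),
  (1, Cert.step [0, 3, 0, 2, 1, 2, 1, 3, 3, 3] (Cert.step [2, 0, 2, 0, 2, 1, 3, 1, 3, 1, 2, 1, 2, 1, 3, 1, 3] (Cert.fail))),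
  (1, Cert.step [0, 0, 3, 1, 3, 1] (Cert.fail)),
  (1, Cert.step [2, 0, 3, 0, 3, 3, 1, 3, 1, 2] (Cert.fail)),
  (1, Cert.step [0, 0, 3, 1, 3, 1] (Cert.fail)),
  (1, Cert.step [2, 0, 3, 0, 3, 3, 1, 3, 1, 2] (Cert.fail)),
  (2, Cert.step [0, 3, 0, 3, 3, 1, 2, 2, 1, 3] (Cert.fail)),
  (1, Cert.step [0, 0, 2, 2, 1, 3, 3, 1] (Cert.fail)),
  (1, Cert.step [2, 0, 3, 0, 3, 3, 1, 3, 3, 1] (Cert.step [4, 2, 2, 4, 3, 3, 1, 3, 3, 4, 2, 2, 4, 1, 3, 1, 3, 1, 3] (Cert.fail))),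
  (1, Cert.fail),
  (1, Cert.step [0, 0, 3, 3, 1, 2, 2, 1] (Cert.fail)),
  (2, Cert.step [2, 0, 3, 0, 3, 3, 1, 3, 1, 2] (Cert.step [0, 3, 0, 3, 0, 2, 2, 2, 0, 2, 0, 3, 1, 3] (Cert.fail))),
  (2, Cert.fail),
  (1, Cert.step [0, 2, 0, 2, 1, 3, 1, 3] (Cert.fail)),
  (1, Cert.step [0, 0, 2, 2, 2, 1, 3, 1, 3] (Cert.step [0, 4, 3, 3, 4, 2, 2, 1, 4, 2, 4, 2, 0, 2, 2, 4, 2, 2, 4] (Cert.fail))),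
  (1, Cert.step [0, 0, 2, 1, 3, 3, 3, 1] (Cert.step [0, 2, 0, 2, 2, 0, 3, 0, 3, 1, 2, 1, 2, 1, 2, 2, 1, 2] (Cert.fail))),
  (1, Cert.step [0, 0, 2, 2, 1, 3, 3, 1] (Cert.fail)),
  (1, Cert.step [2, 0, 3, 0, 3, 3, 1, 3, 3, 1] (Cert.step [4, 2, 2, 4, 3, 3, 1, 3, 3, 4, 2, 2, 4, 1, 3, 1, 3, 1, 3] (Cert.fail))),
  (1, Cert.fail),
  (1, Cert.step [0, 0, 3, 3, 1, 2, 2, 1] (Cert.fail)),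
  (1, Cert.step [0, 2, 0, 2, 1, 3, 1, 3] (Cert.fail)),
  (1, Cert.step [0, 0, 2, 2, 2, 1, 3, 1, 3] (Cert.step [0, 4, 3, 3, 4, 2, 2, 1, 4, 2, 4, 2, 0, 2, 2, 4, 2, 2, 4] (Cert.fail))),
  (1, Cert.step [0, 0, 2, 1, 3, 3, 3, 1] (Cert.step [0, 2, 0, 2, 2, 0, 3, 0, 3, 1, 2, 1, 2, 1, 2, 2, 1, 2] (Cert.fail))),
  (1, Cert.step [4, 2, 0, 2, 2, 4, 2, 4, 0, 3, 4, 1, 3, 1, 3] (Cert.step [2, 0, 2, 0, 2, 0, 3, 3, 0, 3, 1, 2, 2, 1, 3, 3, 1, 3, 3, 1] (Cert.fail))),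
  (1, Cert.fail),
  (1, Cert.step [4, 2, 0, 2, 2, 4, 2, 4, 0, 3, 4, 1, 3, 1, 3] (Cert.step [2, 0, 2, 0, 2, 0, 3, 3, 0, 3, 1, 2, 2, 1, 3, 3, 1, 3, 3, 1] (Cert.fail))),
  (2, Cert.fail),
  (1, Cert.step [2, 0, 2, 2, 0, 2, 1, 3, 3, 1] (Cert.fail)),
  (1, Cert.step [3, 3, 4, 3, 3, 0, 2, 1, 3, 1, 2, 2, 4, 1, 2] (Cert.step [2, 2, 2, 4, 3, 3, 1, 2, 1, 2, 4, 1, 2, 2, 4, 2, 2, 4, 1] (Cert.fail))),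
  (1, Cert.fail),
  (1, Cert.step [2, 0, 2, 2, 0, 2, 1, 3, 3, 1] (Cert.fail)),
  (1, Cert.step [3, 3, 4, 3, 3, 0, 2, 1, 3, 1, 2, 2, 4, 1, 2] (Cert.step [2, 2, 2, 4, 3, 3, 1, 2, 1, 2, 4, 1, 2, 2, 4, 2, 2, 4, 1] (Cert.fail))),
  (2, Cert.step [0, 3, 0, 2, 1, 2, 1, 2] (Cert.fail)),
  (1, Cert.step [4, 3, 0, 4, 2, 4, 2, 2, 1, 2, 4] (Cert.fail)),
  (1, Cert.step [1, 3, 4, 2, 2, 4, 3, 3, 0, 2, 2, 4, 3, 3, 4, 3] (Cert.fail)),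
  (1, Cert.step [2, 0, 3, 0, 2, 2, 1, 3, 3, 1] (Cert.step [0, 2, 0, 2, 0, 2, 2, 0, 2, 2, 2, 1, 3, 3, 1, 2, 1, 3, 1, 3] (Cert.fail))),
  (2, Cert.step [3, 0, 2, 0, 2, 1, 3, 3, 3, 1] (Cert.fail)),
  (1, Cert.fail),
  (1, Cert.step [0, 2, 0, 3, 3, 1, 2, 1, 3] (Cert.fail)),
  (1, Cert.step [0, 3, 3, 0, 2, 2, 1, 2, 1, 3] (Cert.fail)),
  (1, Cert.fail),
  (2, Cert.step [0, 2, 2, 0, 2, 2, 1, 1] (Cert.fail)),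
  (1, Cert.fail),
  (1, Cert.step [2, 2, 0, 3, 3, 1, 2, 2] (Cert.fail)),
  (1, Cert.fail),
  (1, Cert.step [2, 2, 0, 3, 3, 1, 2, 2] (Cert.fail)),
  (1, Cert.fail),
  (1, Cert.step [0, 2, 2, 4, 2, 2, 0, 3, 0, 3, 1, 2, 2, 4] (Cert.fail)),
  (1, Cert.step [0, 3, 0, 3, 3, 1, 2, 2, 1] (Cert.fail)),
  (2, Cert.step [3, 0, 3, 0, 3, 1, 3, 3, 1, 3] (Cert.fail)),
  (1, Cert.step [2, 2, 4, 2, 2, 4, 3, 1, 3, 0, 2, 2, 4, 3, 4, 3] (Cert.fail)),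
  (1, Cert.fail),
  (1, Cert.step [4, 3, 0, 4, 2, 4, 2, 2, 1, 2, 4] (Cert.fail)),
  (1, Cert.step [1, 3, 4, 2, 2, 4, 3, 3, 0, 2, 2, 4, 3, 3, 4, 3] (Cert.fail)),
  (1, Cert.step [2, 0, 3, 0, 2, 2, 1, 3, 3, 1] (Cert.step [0, 2, 0, 2, 0, 2, 2, 0, 2, 2, 2, 1, 3, 3, 1, 2, 1, 3, 1, 3] (Cert.fail))),
  (1, Cert.fail),
  (1, Cert.step [0, 2, 0, 3, 3, 1, 2, 1, 3] (Cert.fail)),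
  (1, Cert.step [0, 3, 3, 0, 2, 2, 1, 2, 1, 3] (Cert.fail)),
  (2, Cert.fail),
  (1, Cert.step [0, 2, 2, 4, 2, 2, 0, 3, 0, 3, 1, 2, 2, 4] (Cert.fail)),
  (1, Cert.step [0, 3, 0, 3, 3, 1, 2, 2, 1] (Cert.fail)),
  (1, Cert.step [2, 2, 4, 2, 2, 4, 3, 1, 3, 0, 2, 2, 4, 3, 4, 3] (Cert.fail)),
  (1, Cert.fail),
  (1, Cert.step [2, 0, 2, 4, 2, 2, 0, 3, 3, 1, 2, 2, 4, 1, 2, 2] (Cert.step [2, 0, 2, 1, 3, 1, 3, 3, 3, 1, 2, 1, 2, 1] (Cert.fail))),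
  (1, Cert.fail),
  (1, Cert.step [2, 0, 2, 4, 2, 2, 0, 3, 3, 1, 2, 2, 4, 1, 2, 2] (Cert.step [2, 0, 2, 1, 3, 1, 3, 3, 3, 1, 2, 1, 2, 1] (Cert.fail))),
  (2, Cert.fail),
  (1, Cert.step [3, 0, 4, 2, 2, 0, 3, 3, 1, 2, 2, 4, 2, 1, 2] (Cert.fail)),
  (1, Cert.step [0, 3, 3, 4, 3, 3, 0, 2, 2, 1, 3, 3, 4, 1, 3] (Cert.step [3, 0, 3, 0, 3, 0, 2, 0, 2, 0, 3, 3, 1, 3, 1, 3, 1, 2, 1, 2, 1, 3] (Cert.fail))),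
  (1, Cert.fail),
  (1, Cert.step [3, 0, 4, 2, 2, 0, 3, 3, 1, 2, 2, 4, 2, 1, 2] (Cert.fail)),
  (1, Cert.step [0, 3, 3, 4, 3, 3, 0, 2, 2, 1, 3, 3, 4, 1, 3] (Cert.step [3, 0, 3, 0, 3, 0, 2, 0, 2, 0, 3, 3, 1, 3, 1, 3, 1, 2, 1, 2, 1, 3] (Cert.fail))),
  (2, Cert.step [0, 0, 2, 1, 2, 1] (Cert.fail)),
  (1, Cert.step [0, 0, 2, 2, 1, 2, 1] (Cert.fail)),
  (1, Cert.step [2, 2, 0, 2, 0, 2, 1, 3, 1] (Cert.fail)),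
  (1, Cert.step [0, 2, 0, 2, 2, 1, 3, 1, 3, 3] (Cert.step [0, 3, 0, 3, 0, 3, 3, 0, 2, 2, 1, 2, 1, 3, 3, 3, 1, 3, 1, 3] (Cert.fail))),
  (2, Cert.step [3, 0, 2, 2, 0, 3, 3, 3, 1, 1] (Cert.fail)),
  (1, Cert.fail),
  (1, Cert.step [2, 0, 4, 3, 3, 0, 2, 2, 1, 3, 3, 4, 1] (Cert.fail)),
  (1, Cert.step [2, 0, 2, 0, 2, 1, 3, 3, 1] (Cert.fail)),
  (1, Cert.fail),
  (2, Cert.step [0, 2, 2, 0, 2, 1, 2, 1] (Cert.fail)),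
  (1, Cert.fail),
  (1, Cert.step [3, 3, 4, 2, 4, 3, 3, 1, 2, 0, 3, 3, 3, 4, 2, 2, 4] (Cert.fail)),
  (1, Cert.fail),
  (1, Cert.step [3, 3, 4, 2, 4, 3, 3, 1, 2, 0, 3, 3, 3, 4, 2, 2, 4] (Cert.fail)),
  (1, Cert.fail),
  (1, Cert.step [2, 0, 2, 0, 2, 1, 3, 3, 3, 1] (Cert.fail)),
  (1, Cert.step [3, 0, 3, 0, 3, 1, 2, 2, 1] (Cert.fail)),
  (2, Cert.step [0, 2, 2, 2, 0, 2, 1, 2, 2, 1] (Cert.fail)),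
  (1, Cert.step [2, 2, 4, 2, 2, 4, 3, 1, 3, 0, 2, 2, 4, 3, 4, 3] (Cert.fail)),
  (1, Cert.fail),
  (1, Cert.step [0, 0, 2, 2, 1, 2, 1] (Cert.fail)),
  (1, Cert.step [2, 2, 0, 2, 0, 2, 1, 3, 1] (Cert.fail)),
  (1, Cert.step [0, 2, 0, 2, 2, 1, 3, 1, 3, 3] (Cert.step [0, 3, 0, 3, 0, 3, 3, 0, 2, 2, 1, 2, 1, 3, 3, 3, 1, 3, 1, 3] (Cert.fail))),
  (1, Cert.fail),
  (1, Cert.step [2, 0, 4, 3, 3, 0, 2, 2, 1, 3, 3, 4, 1] (Cert.fail)),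
  (1, Cert.step [2, 0, 2, 0, 2, 1, 3, 3, 1] (Cert.fail)),
  (2, Cert.fail),
  (1, Cert.step [2, 0, 2, 0, 2, 1, 3, 3, 3, 1] (Cert.fail)),
  (1, Cert.step [3, 0, 3, 0, 3, 1, 2, 2, 1] (Cert.fail)),
  (1, Cert.step [2, 2, 4, 2, 2, 4, 3, 1, 3, 0, 2, 2, 4, 3, 4, 3] (Cert.fail)),
  (1, Cert.fail),
  (1, Cert.step [0, 2, 1, 3] (Cert.fail)),
  (1, Cert.step [0, 0, 3, 1, 2, 1] (Cert.fail)),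
  (2, Cert.step [0, 2, 0, 2, 1, 2, 1, 3] (Cert.fail)),
  (1, Cert.step [0, 2, 2, 2, 0, 2, 1, 2, 1, 3] (Cert.fail)),
  (1, Cert.fail),
  (1, Cert.step [0, 2, 1, 3] (Cert.fail)),
  (1, Cert.step [0, 0, 3, 1, 2, 1] (Cert.fail)),
  (1, Cert.step [0, 2, 2, 2, 0, 2, 1, 2, 1, 3] (Cert.fail)),
  (1, Cert.fail),
  (2, Cert.step [0, 2, 0, 2, 2, 2, 1, 2, 1, 3] (Cert.step [2, 0, 2, 2, 0, 2, 2, 0, 2, 2, 1, 3, 1, 2, 2, 1, 3] (Cert.fail))),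
  (1, Cert.fail),
  (1, Cert.step [0, 4, 2, 0, 2, 2, 4, 2, 4, 1, 3, 4, 3, 3, 1] (Cert.fail)),
  (1, Cert.fail),
  (1, Cert.step [3, 0, 3, 0, 3, 1, 2, 1, 3] (Cert.fail)),
  (1, Cert.step [0, 2, 0, 2, 1, 2, 1, 3, 3] (Cert.fail)),
  (1, Cert.fail),
  (1, Cert.step [0, 4, 2, 0, 2, 2, 4, 2, 4, 1, 3, 4, 3, 3, 1] (Cert.fail)),
  (1, Cert.fail),
  (1, Cert.step [3, 0, 3, 0, 3, 1, 2, 1, 3] (Cert.fail)),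
  (1, Cert.step [0, 2, 0, 2, 1, 2, 1, 3, 3] (Cert.fail)),
  (1, Cert.step [0, 4, 2, 0, 2, 2, 1, 2, 4, 2, 1, 2] (Cert.fail)),
  (1, Cert.step [0, 2, 0, 3, 3, 1, 2, 2, 1] (Cert.fail)),
  (1, Cert.step [4, 3, 0, 4, 2, 4, 2, 2, 1, 2, 4, 2] (Cert.step [0, 3, 0, 3, 3, 3, 0, 2, 1, 3, 1, 3, 3, 1] (Cert.fail))),
  (1, Cert.step [0, 4, 2, 0, 2, 2, 1, 2, 4, 2, 1, 2] (Cert.fail)),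
  (1, Cert.step [0, 2, 0, 3, 3, 1, 2, 2, 1] (Cert.fail)),
  (1, Cert.step [4, 3, 0, 4, 2, 4, 2, 2, 1, 2, 4, 2] (Cert.step [0, 3, 0, 3, 3, 3, 0, 2, 1, 3, 1, 3, 3, 1] (Cert.fail))),
  (1, Cert.step [0, 2, 0, 3, 1, 3, 3, 1, 3] (Cert.step [2, 0, 2, 2, 2, 0, 3, 0, 2, 2, 0, 3, 0, 3, 3, 3, 1, 3, 3] (Cert.fail))),
  (1, Cert.step [0, 3, 3, 4, 3, 3, 0, 2, 0, 2, 1, 3, 3, 4, 3, 3] (Cert.fail)),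
  (3, Cert.fail),
  (2, Cert.step [0, 2, 2, 0, 3, 3, 1, 2, 1] (Cert.fail)),
  (1, Cert.fail),
  (1, Cert.step [0, 0, 3, 3, 1, 2, 1, 3] (Cert.fail)),
  (1, Cert.step [0, 2, 0, 2, 2, 2, 1, 2, 1, 3] (Cert.fail)),
  (1, Cert.fail),
  (1, Cert.step [3, 0, 3, 0, 2, 1, 3, 3, 1, 3] (Cert.step [2, 2, 2, 0, 2, 0, 2, 2, 1, 2, 1, 3, 1, 3, 1, 3, 1, 2, 2, 1] (Cert.step [3, 3, 0, 2, 2, 0, 3, 0, 3, 3, 1, 2, 2, 0, 3, 3, 1, 3, 1, 2, 2, 1, 3] (Cert.done [3, 3, 0, 2, 2, 0, 3, 0, 3, 3, 1, 2, 2, 0, 3, 3, 1, 3, 1, 2, 2, 1, 2, 2, 0, 2, 0, 2, 2, 1, 2, 1, 3, 1, 3, 1, 3, 1, 2, 2, 1, 3, 0, 3, 0, 2, 1, 3, 3, 1, 3, 4, 2, 4, 2, 0, 4, 5, 4, 3, 3, 0, 3, 4, 3, 6, 4, 2, 5, 4, 2, 4, 6])))),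
  (1, Cert.step [0, 2, 0, 2, 2, 2, 1, 2, 1, 3] (Cert.fail)),
  (1, Cert.fail),
  (1, Cert.step [3, 0, 3, 0, 2, 1, 3, 3, 1, 3] (Cert.step [2, 2, 2, 0, 2, 0, 2, 2, 1, 2, 1, 3, 1, 3, 1, 3, 1, 2, 2, 1] (Cert.step [3, 3, 0, 2, 2, 0, 3, 0, 3, 3, 1, 2, 2, 0, 3, 3, 1, 3, 1, 2, 2, 1, 3] (Cert.done [3, 3, 0, 2, 2, 0, 3, 0, 3, 3, 1, 2, 2, 0, 3, 3, 1, 3, 1, 2, 2, 1, 2, 2, 0, 2, 0, 2, 2, 1, 2, 1, 3, 1, 3, 1, 3, 1, 2, 2, 1, 3, 0, 3, 0, 2, 1, 3, 3, 1, 3, 4, 2, 4, 2, 1, 4, 5, 4, 3, 3, 0, 3, 4, 3, 6, 4, 2, 5, 4, 2, 4, 6])))),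
  (2, Cert.step [0, 0, 3, 1, 1] (Cert.fail)),
  (1, Cert.fail),
  (1, Cert.step [0, 0, 3, 3, 1, 2, 2, 1, 3] (Cert.fail)),
  (1, Cert.fail),
  (1, Cert.step [0, 3, 3, 0, 3, 1, 2, 1] (Cert.fail)),
  (2, Cert.fail),
  (1, Cert.step [4, 2, 0, 2, 2, 2, 4, 3, 4, 1, 2, 4, 2] (Cert.fail)),
  (3, Cert.fail),
  (2, Cert.step [0, 0, 3, 1, 3, 3, 1, 3] (Cert.fail)),
  (1, Cert.fail),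
  (2, Cert.step [0, 2, 0, 3, 1, 3, 1, 2] (Cert.fail)),
  (1, Cert.step [2, 0, 3, 0, 3, 3, 1, 2, 2, 1] (Cert.step [2, 0, 2, 2, 1, 3, 1, 3, 1, 3, 1, 3, 3, 3, 1, 3] (Cert.fail))),
  (1, Cert.step [0, 2, 2, 4, 2, 2, 0, 3, 0, 3, 1, 2, 2, 4] (Cert.step [3, 3, 0, 2, 0, 3, 3, 3, 1, 3, 1, 2, 2] (Cert.fail))),
  (1, Cert.step [2, 0, 3, 0, 3, 3, 1, 2, 2, 1] (Cert.step [2, 0, 2, 2, 1, 3, 1, 3, 1, 3, 1, 3, 3, 3, 1, 3] (Cert.fail))),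
  (1, Cert.step [0, 2, 2, 4, 2, 2, 0, 3, 0, 3, 1, 2, 2, 4] (Cert.step [3, 3, 0, 2, 0, 3, 3, 3, 1, 3, 1, 2, 2] (Cert.fail))),
  (2, Cert.fail),
  (1, Cert.step [1, 4, 2, 2, 4, 3, 3, 0, 3, 3, 4, 2, 2, 4, 2] (Cert.fail)),
  (2, Cert.step [3, 3, 0, 4, 2, 2, 0, 3, 3, 1, 2, 2, 4, 1, 3] (Cert.fail)),
  (1, Cert.step [2, 0, 3, 0, 2, 2, 1, 2, 1] (Cert.fail)),
  (1, Cert.step [2, 2, 2, 4, 2, 4, 3, 3, 1, 2, 0, 3, 3, 3, 4, 2, 2, 4] (Cert.fail)),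
  (1, Cert.step [0, 2, 2, 0, 2, 2, 1, 1] (Cert.step [3, 0, 3, 0, 3, 0, 2, 0, 2, 0, 3, 3, 1, 3, 1, 3, 1, 2, 1, 2, 1, 3] (Cert.step [3, 3, 0, 2, 2, 0, 3, 0, 3, 3, 1, 2, 2, 0, 3, 3, 1, 3, 1, 2, 2, 1, 3] (Cert.done [3, 3, 0, 2, 2, 0, 3, 0, 3, 3, 1, 2, 2, 0, 3, 3, 1, 3, 1, 2, 2, 1, 3, 3, 0, 3, 0, 3, 0, 2, 0, 2, 0, 3, 3, 1, 3, 1, 3, 1, 2, 1, 2, 1, 3, 0, 2, 2, 0, 2, 2, 1, 1, 4, 3, 4, 3, 0, 3, 5, 4, 3, 3, 0, 3, 4, 3, 6, 4, 2, 5, 4, 2, 4, 6])))),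
  (1, Cert.fail),
  (1, Cert.step [0, 2, 2, 0, 2, 2, 1, 1] (Cert.step [3, 0, 3, 0, 3, 0, 2, 0, 2, 0, 3, 3, 1, 3, 1, 3, 1, 2, 1, 2, 1, 3] (Cert.step [3, 3, 0, 2, 2, 0, 3, 0, 3, 3, 1, 2, 2, 0, 3, 3, 1, 3, 1, 2, 2, 1, 3] (Cert.done [3, 3, 0, 2, 2, 0, 3, 0, 3, 3, 1, 2, 2, 0, 3, 3, 1, 3, 1, 2, 2, 1, 3, 3, 0, 3, 0, 3, 0, 2, 0, 2, 0, 3, 3, 1, 3, 1, 3, 1, 2, 1, 2, 1, 3, 0, 2, 2, 0, 2, 2, 1, 1, 4, 3, 4, 3, 1, 3, 5, 4, 3, 3, 0, 3, 4, 3, 6, 4, 2, 5, 4, 2, 4, 6])))),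
  (3, Cert.fail),
  (1, Cert.step [0, 2, 0, 2, 1, 3, 3, 3, 1] (Cert.fail)),
  (2, Cert.fail),
  (1, Cert.step [0, 3, 3, 0, 2, 2, 1, 3, 1] (Cert.step [0, 2, 0, 2, 0, 2, 2, 0, 2, 2, 1, 3, 1, 3, 1, 3, 1, 3] (Cert.fail))),
  (1, Cert.step [0, 3, 0, 2, 2, 1, 3, 1] (Cert.fail)),
  (2, Cert.fail),
  (1, Cert.step [0, 0, 3, 1, 1] (Cert.fail)),
  (1, Cert.fail),
  (1, Cert.step [0, 0, 3, 3, 1, 2, 2, 1, 3] (Cert.fail)),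
  (1, Cert.fail),
  (1, Cert.step [0, 2, 0, 2, 1, 2, 2, 1] (Cert.fail)),
  (1, Cert.step [4, 2, 0, 2, 2, 2, 4, 3, 4, 1, 2, 4, 2] (Cert.fail)),
  (1, Cert.step [2, 0, 3, 3, 0, 3, 1, 2, 1, 2] (Cert.fail)),
  (1, Cert.step [2, 0, 3, 0, 2, 2, 1, 2, 1] (Cert.fail)),
  (1, Cert.step [2, 2, 2, 4, 2, 4, 3, 3, 1, 2, 0, 3, 3, 3, 4, 2, 2, 4] (Cert.fail)),
  (1, Cert.step [0, 2, 0, 2, 1, 3, 3, 3, 1] (Cert.fail)),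
  (2, Cert.fail),
  (1, Cert.step [0, 3, 0, 2, 2, 1, 3, 1] (Cert.fail)),
  (1, Cert.step [0, 0, 3, 1, 2, 1] (Cert.fail)),
  (2, Cert.step [2, 0, 3, 0, 2, 2, 1, 2, 1, 3] (Cert.fail)),
  (1, Cert.step [1, 4, 2, 2, 4, 3, 3, 0, 3, 3, 4, 2, 2, 4, 3] (Cert.fail)),
  (1, Cert.fail),
  (1, Cert.step [0, 3, 0, 2, 2, 1, 3, 1] (Cert.fail)),
  (1, Cert.step [0, 0, 3, 1, 2, 1] (Cert.fail)),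
  (1, Cert.step [1, 4, 2, 2, 4, 3, 3, 0, 3, 3, 4, 2, 2, 4, 3] (Cert.fail)),
  (1, Cert.fail),
  (2, Cert.step [2, 0, 3, 3, 0, 3, 3, 1, 3, 1] (Cert.step [0, 3, 0, 3, 0, 3, 3, 0, 2, 2, 1, 2, 1, 3, 3, 3, 1, 3, 1, 3] (Cert.fail))),
  (1, Cert.fail),
  (1, Cert.step [2, 0, 4, 3, 0, 3, 3, 1, 3, 4, 1, 3, 3] (Cert.fail)),
  (1, Cert.fail),
  (1, Cert.step [2, 0, 2, 0, 2, 1, 3, 1, 2] (Cert.fail)),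
  (1, Cert.step [3, 0, 2, 2, 2, 1, 3] (Cert.fail)),
  (1, Cert.fail),
  (1, Cert.step [2, 0, 4, 3, 0, 3, 3, 1, 3, 4, 1, 3, 3] (Cert.fail)),
  (1, Cert.fail),
  (1, Cert.step [2, 0, 2, 0, 2, 1, 3, 1, 2] (Cert.fail)),
  (1, Cert.step [3, 0, 2, 2, 2, 1, 3] (Cert.fail)),
  (1, Cert.step [2, 0, 3, 0, 3, 1, 2, 1] (Cert.fail)),
  (1, Cert.step [0, 0, 2, 2, 2, 1, 3, 1, 3, 3] (Cert.fail)),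
  (1, Cert.step [0, 0, 2, 2, 1, 2, 2, 1] (Cert.step [] (Cert.fail))),
  (1, Cert.step [2, 0, 3, 0, 3, 1, 2, 1] (Cert.fail)),
  (1, Cert.step [0, 0, 2, 2, 2, 1, 3, 1, 3, 3] (Cert.fail)),
  (1, Cert.step [0, 0, 2, 2, 1, 2, 2, 1] (Cert.step [] (Cert.fail))),
  (1, Cert.step [0, 2, 0, 3, 1, 3, 3, 3, 1] (Cert.step [0, 2, 0, 3, 3, 0, 2, 0, 3, 3, 0, 2, 0, 2, 2, 1, 3, 3, 1] (Cert.fail))),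
  (1, Cert.step [0, 2, 2, 0, 2, 2, 1, 2, 2, 1] (Cert.fail)),
  (3, Cert.fail),
  (2, Cert.step [2, 0, 3, 4, 2, 2, 0, 3, 3, 1, 2, 2, 4, 2, 1] (Cert.fail)),
  (1, Cert.fail),
  (1, Cert.step [3, 0, 2, 0, 3, 3, 1, 2, 1, 3] (Cert.fail)),
  (1, Cert.step [2, 0, 3, 3, 0, 3, 3, 1, 3, 1] (Cert.fail)),
  (1, Cert.fail),
  (1, Cert.step [1, 2, 4, 2, 2, 4, 3, 3, 0, 3, 3, 4, 2, 2, 4] (Cert.step [2, 4, 3, 4, 3, 4, 2, 2, 4, 2, 4, 3, 3, 1, 3, 3, 3, 1, 3, 4] (Cert.fail))),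
  (1, Cert.step [2, 0, 3, 3, 0, 3, 3, 1, 3, 1] (Cert.fail)),
  (1, Cert.fail),
  (1, Cert.step [1, 2, 4, 2, 2, 4, 3, 3, 0, 3, 3, 4, 2, 2, 4] (Cert.step [2, 4, 3, 4, 3, 4, 2, 2, 4, 2, 4, 3, 3, 1, 3, 3, 3, 1, 3, 4] (Cert.fail))),
  (2, Cert.step [0, 0, 3, 1, 2, 1, 3] (Cert.fail)),
  (1, Cert.fail),
  (1, Cert.step [0, 2, 0, 2, 1, 2, 2, 1] (Cert.fail)),
  (1, Cert.fail),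
  (1, Cert.step [0, 3, 0, 3, 1, 3, 1, 2] (Cert.fail)),
  (2, Cert.fail),
  (1, Cert.step [3, 0, 2, 4, 2, 0, 4, 3, 4, 3, 3, 1, 3, 4, 1] (Cert.fail)),
  (3, Cert.fail),
  (2, Cert.step [2, 0, 3, 0, 2, 2, 1, 3, 1, 2] (Cert.fail)),
  (1, Cert.fail),
  (2, Cert.step [2, 0, 4, 3, 3, 0, 2, 2, 1, 3, 3, 4, 1, 2] (Cert.fail)),
  (1, Cert.step [0, 4, 2, 0, 2, 2, 1, 2, 4, 1, 2, 2] (Cert.step [2, 2, 2, 0, 2, 2, 2, 0, 3, 1, 2, 2, 1, 3, 1, 2, 1, 2, 1, 2, 1] (Cert.fail))),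
  (1, Cert.step [2, 0, 2, 0, 2, 1, 3, 3, 3, 1] (Cert.step [0, 2, 2, 0, 2, 2, 0, 2, 0, 3, 3, 1, 2, 1, 2, 2, 1, 3, 1, 3] (Cert.fail))),
  (1, Cert.step [0, 4, 2, 0, 2, 2, 1, 2, 4, 1, 2, 2] (Cert.step [2, 2, 2, 0, 2, 2, 2, 0, 3, 1, 2, 2, 1, 3, 1, 2, 1, 2, 1, 2, 1] (Cert.fail))),
  (1, Cert.step [2, 0, 2, 0, 2, 1, 3, 3, 3, 1] (Cert.step [0, 2, 2, 0, 2, 2, 0, 2, 0, 3, 3, 1, 2, 1, 2, 2, 1, 3, 1, 3] (Cert.fail))),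
  (2, Cert.fail),
  (1, Cert.step [3, 3, 0, 2, 2, 4, 3, 0, 2, 1, 3, 4, 1, 3] (Cert.fail)),
  (2, Cert.step [3, 0, 3, 0, 2, 1, 2, 1, 3] (Cert.fail)),
  (1, Cert.step [0, 2, 0, 2, 2, 1, 3, 1, 2] (Cert.fail)),
  (1, Cert.step [4, 3, 0, 3, 3, 4, 3, 4, 3, 3, 1, 3, 4, 3] (Cert.fail)),
  (1, Cert.step [0, 2, 2, 0, 2, 1, 2, 1] (Cert.step [3, 3, 0, 2, 0, 3, 3, 3, 1, 3, 1, 2, 2] (Cert.fail))),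
  (1, Cert.fail),
  (1, Cert.step [0, 2, 2, 0, 2, 1, 2, 1] (Cert.step [3, 3, 0, 2, 0, 3, 3, 3, 1, 3, 1, 2, 2] (Cert.fail))),
  (3, Cert.fail),
  (1, Cert.step [0, 0, 3, 3, 1, 2, 2, 1] (Cert.fail)),
  (2, Cert.fail),
  (1, Cert.step [0, 2, 0, 3, 1, 3, 3, 3, 1] (Cert.step [0, 2, 0, 3, 3, 0, 2, 0, 3, 3, 0, 2, 0, 2, 2, 1, 3, 3, 1] (Cert.fail))),
  (1, Cert.step [0, 2, 2, 0, 2, 2, 1, 2, 2, 1] (Cert.fail)),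
  (2, Cert.fail),
  (1, Cert.step [3, 0, 2, 0, 3, 3, 1, 2, 1, 3] (Cert.fail)),
  (1, Cert.fail),
  (1, Cert.step [0, 2, 0, 2, 1, 2, 2, 1] (Cert.fail)),
  (1, Cert.fail),
  (1, Cert.step [0, 3, 0, 3, 1, 3, 1, 2] (Cert.fail)),
  (1, Cert.step [3, 0, 2, 4, 2, 0, 4, 3, 4, 3, 3, 1, 3, 4, 1] (Cert.fail)),
  (1, Cert.step [3, 3, 0, 2, 2, 4, 3, 0, 2, 1, 3, 4, 1, 3] (Cert.fail)),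
  (1, Cert.step [0, 2, 0, 2, 2, 1, 3, 1, 2] (Cert.fail)),
  (1, Cert.step [4, 3, 0, 3, 3, 4, 3, 4, 3, 3, 1, 3, 4, 3] (Cert.fail)),
  (1, Cert.step [0, 0, 3, 3, 1, 2, 2, 1] (Cert.fail)),
  (2, Cert.fail),
  (1, Cert.step [2, 0, 4, 3, 3, 0, 2, 0, 2, 1, 3, 3, 4, 3, 3] (Cert.fail)),
  (1, Cert.step [0, 3, 1] (Cert.fail)),
  (2, Cert.step [0, 3, 0, 2, 2, 1, 1] (Cert.step [2, 2, 0, 2, 2, 0, 2, 1, 3, 3, 0, 2, 1, 2, 2, 1, 3] (Cert.fail))),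
  (2, Cert.step [0, 3, 0, 2, 1, 2, 1, 2] (Cert.fail)),
  (1, Cert.step [4, 3, 0, 3, 3, 4, 3, 4, 1, 2, 4] (Cert.step [0, 3, 3, 0, 3, 1, 2, 2, 1, 2, 2, 1, 2, 1, 2, 1, 3, 1, 3] (Cert.fail))),
  (1, Cert.fail),
  (1, Cert.step [2, 0, 4, 3, 3, 0, 2, 0, 2, 1, 3, 3, 4, 3, 3] (Cert.fail)),
  (1, Cert.step [0, 3, 1] (Cert.fail)),
  (1, Cert.step [4, 3, 0, 3, 3, 4, 3, 4, 1, 2, 4] (Cert.step [0, 3, 3, 0, 3, 1, 2, 2, 1, 2, 2, 1, 2, 1, 2, 1, 3, 1, 3] (Cert.fail))),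
  (2, Cert.fail),
  (1, Cert.step [0, 4, 2, 1, 2, 4, 3, 3, 3, 4, 3, 3, 3, 4, 1] (Cert.fail)),
  (1, Cert.step [2, 0, 3, 3, 0, 3, 1, 2, 1] (Cert.fail)),
  (1, Cert.fail),
  (1, Cert.step [0, 4, 2, 1, 2, 4, 3, 3, 3, 4, 3, 3, 3, 4, 1] (Cert.fail)),
  (1, Cert.step [2, 0, 3, 3, 0, 3, 1, 2, 1] (Cert.fail)),
  (2, Cert.step [0, 2, 0, 2, 1, 3, 3, 3, 1] (Cert.fail)),
  (1, Cert.step [2, 2, 4, 2, 2, 4, 3, 1, 3, 0, 2, 2, 4, 3, 4, 3, 3] (Cert.fail)),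
  (1, Cert.fail),
  (1, Cert.step [0, 0, 2, 2, 2, 1, 3, 1] (Cert.fail)),
  (4, Cert.fail),
  (1, Cert.step [4, 2, 2, 2, 4, 2, 1, 2, 4, 2, 0, 3, 3, 4, 1, 2] (Cert.fail)),
  (1, Cert.step [0, 3, 0, 2, 1, 2, 1, 3] (Cert.step [0, 3, 0, 3, 0, 2, 2, 0, 2, 0, 2, 0, 3, 1, 3, 1, 3] (Cert.fail))),
  (1, Cert.step [2, 2, 4, 2, 2, 4, 3, 1, 3, 0, 2, 2, 4, 3, 4, 3, 3] (Cert.fail)),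
  (1, Cert.fail),
  (1, Cert.step [0, 0, 2, 2, 2, 1, 3, 1] (Cert.fail)),
  (2, Cert.fail),
  (1, Cert.step [4, 2, 2, 2, 4, 2, 1, 2, 4, 2, 0, 3, 3, 4, 1, 2] (Cert.fail)),
  (1, Cert.step [0, 3, 0, 2, 1, 2, 1, 3] (Cert.step [0, 3, 0, 3, 0, 2, 2, 0, 2, 0, 2, 0, 3, 1, 3, 1, 3] (Cert.fail))),
  (2, Cert.step [4, 2, 2, 1, 4, 2, 2, 4, 3, 3, 0, 3, 3, 4] (Cert.fail)),
  (3, Cert.fail),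
  (1, Cert.step [2, 2, 0, 2, 0, 2, 2, 1, 2, 1] (Cert.fail)),
  (1, Cert.step [0, 2, 0, 2, 2, 2, 1, 2, 1, 3] (Cert.step [2, 2, 2, 0, 2, 0, 2, 2, 1, 2, 1, 3, 1, 3, 1, 3, 1, 2, 2, 1] (Cert.fail))),
  (2, Cert.fail),
  (1, Cert.step [2, 2, 0, 2, 0, 2, 2, 1, 2, 1] (Cert.fail)),
  (1, Cert.step [0, 2, 0, 2, 2, 2, 1, 2, 1, 3] (Cert.step [2, 2, 2, 0, 2, 0, 2, 2, 1, 2, 1, 3, 1, 3, 1, 3, 1, 2, 2, 1] (Cert.fail))),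
  (3, Cert.fail),
  (1, Cert.step [0, 0, 2, 1, 2, 2, 1] (Cert.fail)),
  (2, Cert.fail),
  (1, Cert.step [3, 0, 2, 0, 2, 1, 3, 1, 3] (Cert.step [2, 2, 0, 2, 2, 0, 2, 2, 2, 1, 3, 0, 2, 2, 1, 3, 1] (Cert.fail))),
  (1, Cert.step [0, 3, 0, 2, 2, 1, 3, 1] (Cert.fail)),
  (1, Cert.step [3, 0, 2, 0, 3, 3, 1, 3, 1, 3] (Cert.fail)),
  (1, Cert.step [0, 3, 3, 0, 3, 1, 3, 3, 1] (Cert.fail)),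
  (1, Cert.step [0, 3, 0, 2, 2, 1, 3, 1] (Cert.fail)),
  (1, Cert.step [3, 0, 2, 0, 3, 3, 1, 3, 1, 3] (Cert.fail)),
  (1, Cert.step [0, 3, 3, 0, 3, 1, 3, 3, 1] (Cert.fail)),
  (2, Cert.fail),
  (1, Cert.step [0, 3, 3, 1, 3, 3] (Cert.fail)),
  (1, Cert.step [0, 3, 3, 0, 3, 1, 2, 2, 1, 3] (Cert.fail)),
  (3, Cert.fail),
  (1, Cert.step [0, 2, 0, 2, 2, 2, 1, 2, 1] (Cert.fail)),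
  (1, Cert.fail),
  (1, Cert.step [0, 0, 3, 1, 3, 3, 1, 2] (Cert.fail)),
  (1, Cert.step [4, 3, 0, 3, 3, 0, 3, 4, 1, 3, 3, 1] (Cert.step [3, 3, 0, 2, 0, 3, 3, 3, 1, 3, 1, 2, 2] (Cert.fail))),
  (1, Cert.step [0, 2, 0, 2, 2, 2, 1, 2, 1] (Cert.fail)),
  (1, Cert.fail),
  (1, Cert.step [0, 0, 3, 1, 3, 3, 1, 2] (Cert.fail)),
  (1, Cert.step [4, 3, 0, 3, 3, 0, 3, 4, 1, 3, 3, 1] (Cert.step [3, 3, 0, 2, 0, 3, 3, 3, 1, 3, 1, 2, 2] (Cert.fail))),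
  (1, Cert.step [3, 0, 2, 0, 3, 3, 1, 2, 1, 2] (Cert.fail)),
  (1, Cert.fail),
  (1, Cert.step [3, 0, 2, 0, 3, 3, 1, 2, 1, 2] (Cert.fail)),
  (1, Cert.fail),
  (2, Cert.step [0, 3, 0, 3, 1, 2, 2, 1] (Cert.fail)),
  (1, Cert.step [0, 2, 0, 2, 1, 3, 3, 1, 3] (Cert.fail)),
  (1, Cert.step [2, 2, 0, 3, 4, 3, 0, 2, 1, 3, 4, 3, 1] (Cert.fail)),
  (1, Cert.step [0, 3, 4, 3, 0, 4, 2, 4, 2, 2, 1, 2, 4, 2, 1] (Cert.step [2, 2, 2, 0, 2, 0, 2, 0, 2, 2, 0, 2, 0, 3, 1, 3] (Cert.fail))),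
  (2, Cert.step [0, 2, 2, 0, 2, 2, 1, 2, 1, 2] (Cert.fail)),
  (1, Cert.fail),
  (1, Cert.step [0, 2, 2, 0, 2, 1, 3, 3, 1, 2] (Cert.step [1, 2, 2, 4, 3, 3, 4, 3, 3, 3, 0, 2, 1, 3, 3, 4, 1, 2, 4, 3, 3] (Cert.fail))),
  (1, Cert.step [0, 2, 2, 0, 3, 3, 1, 2, 1] (Cert.fail)),
  (2, Cert.step [0, 3, 0, 2, 1, 2, 2, 1] (Cert.fail)),
  (1, Cert.step [0, 3, 0, 3, 1, 2, 1, 2] (Cert.fail)),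
  (2, Cert.fail),
  (1, Cert.step [0, 3, 3, 0, 3, 3, 3, 1, 1] (Cert.step [0, 2, 0, 3, 3, 1, 3, 3, 1, 2, 1, 3, 3, 3, 1, 3, 1, 2, 1] (Cert.fail))),
  (4, Cert.fail),
  (1, Cert.step [0, 3, 0, 2, 1, 2, 1, 2, 2] (Cert.step [0, 3, 0, 3, 0, 2, 2, 0, 2, 0, 2, 0, 3, 1, 3, 1, 3] (Cert.fail))),
  (6, Cert.fail),
  (1, Cert.step [0, 2, 0, 3, 3, 3, 1, 1] (Cert.fail)),
  (2, Cert.step [3, 0, 2, 0, 2, 1, 2, 1, 2] (Cert.step [2, 0, 2, 0, 2, 1, 3, 1, 3, 1, 2, 1, 2, 1, 3, 1, 3] (Cert.fail))),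
  (1, Cert.fail),
  (1, Cert.step [0, 2, 0, 3, 3, 3, 1, 1] (Cert.fail)),
  (2, Cert.fail),
  (1, Cert.step [3, 0, 3, 3, 1, 2, 2] (Cert.fail)),
  (1, Cert.step [0, 2, 0, 2, 1, 3, 1, 3] (Cert.step [2, 2, 0, 2, 2, 0, 2, 0, 3, 0, 3, 1, 2, 2, 1, 2, 1, 3, 3, 1, 3] (Cert.fail))),
  (1, Cert.step [0, 2, 2, 0, 2, 2, 1, 3, 3, 1] (Cert.fail)),
  (2, Cert.step [0, 3, 1, 3] (Cert.step [0, 2, 0, 2, 0, 2, 2, 0, 2, 2, 2, 1, 3, 3, 1, 2, 1, 3, 1, 3] (Cert.fail))),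
  (1, Cert.step [3, 0, 3, 4, 3, 3, 0, 2, 0, 2, 1, 3, 3, 4, 3] (Cert.step [2, 0, 2, 0, 2, 1, 3, 1, 3, 1, 2, 1, 2, 1, 3, 1, 3] (Cert.fail))),
  (1, Cert.step [0, 0, 3, 1, 3, 3, 1] (Cert.fail)),
  (1, Cert.step [3, 0, 3, 4, 3, 3, 0, 2, 0, 2, 1, 3, 3, 4, 3] (Cert.step [2, 0, 2, 0, 2, 1, 3, 1, 3, 1, 2, 1, 2, 1, 3, 1, 3] (Cert.fail))),
  (1, Cert.step [0, 0, 3, 1, 3, 3, 1] (Cert.fail)),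
  (1, Cert.step [1, 3, 4, 2, 2, 4, 3, 3, 0, 2, 2, 4, 3, 3, 4] (Cert.fail)),
  (1, Cert.step [0, 3, 3, 0, 3, 3, 1, 3, 1, 3] (Cert.fail)),
  (1, Cert.step [1, 3, 4, 2, 2, 4, 3, 3, 0, 2, 2, 4, 3, 3, 4] (Cert.fail)),
  (1, Cert.step [0, 3, 3, 0, 3, 3, 1, 3, 1, 3] (Cert.fail)),
  (1, Cert.step [0, 2, 0, 2, 2, 2, 1, 2, 2, 1] (Cert.fail)),
  (1, Cert.fail),
  (1, Cert.step [2, 0, 3, 3, 0, 2, 1, 2, 2, 1] (Cert.step [2, 2, 2, 0, 4, 3, 3, 4, 3, 3, 4, 3, 3, 4, 2, 2, 1] (Cert.fail))),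
  (2, Cert.step [2, 0, 2, 2, 0, 2, 1, 3, 3, 1] (Cert.step [2, 0, 2, 2, 0, 2, 0, 2, 0, 3, 0, 3, 3, 0, 2, 2, 1, 2, 1] (Cert.fail))),
  (1, Cert.step [0, 2, 2, 0, 2, 2, 1, 3, 1, 3] (Cert.fail)),
  (1, Cert.step [0, 0, 3, 1, 2, 1] (Cert.fail)),
  (2, Cert.fail),
  (1, Cert.step [2, 0, 3, 3, 0, 2, 1, 2, 1, 3] (Cert.fail)),
  (1, Cert.fail),
  (1, Cert.step [0, 2, 0, 2, 1, 3, 3, 1, 3] (Cert.fail)),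
  (1, Cert.step [2, 2, 0, 3, 4, 3, 0, 2, 1, 3, 4, 3, 1] (Cert.fail)),
  (1, Cert.step [0, 3, 4, 3, 0, 4, 2, 4, 2, 2, 1, 2, 4, 2, 1] (Cert.step [2, 2, 2, 0, 2, 0, 2, 0, 2, 2, 0, 2, 0, 3, 1, 3] (Cert.fail))),
  (1, Cert.fail),
  (1, Cert.step [0, 2, 2, 0, 2, 1, 3, 3, 1, 2] (Cert.step [1, 2, 2, 4, 3, 3, 4, 3, 3, 3, 0, 2, 1, 3, 3, 4, 1, 2, 4, 3, 3] (Cert.fail))),
  (1, Cert.step [0, 3, 0, 3, 1, 2, 1, 2] (Cert.fail)),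
  (1, Cert.fail),
  (1, Cert.step [0, 2, 0, 2, 1, 3, 1, 3] (Cert.step [2, 2, 0, 2, 2, 0, 2, 0, 3, 0, 3, 1, 2, 2, 1, 2, 1, 3, 3, 1, 3] (Cert.fail))),
  (1, Cert.step [0, 2, 2, 0, 2, 2, 1, 3, 3, 1] (Cert.fail)),
  (1, Cert.step [0, 2, 0, 2, 2, 2, 1, 2, 2, 1] (Cert.fail)),
  (1, Cert.fail),
  (1, Cert.step [0, 2, 2, 0, 2, 2, 1, 3, 1, 3] (Cert.fail)),
  (1, Cert.step [0, 0, 3, 1, 2, 1] (Cert.fail)),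
  (1, Cert.step [0, 4, 2, 0, 2, 2, 1, 2, 4, 1, 3, 3, 3] (Cert.fail)),
  (1, Cert.step [0, 3, 1] (Cert.fail)),
  (2, Cert.step [0, 2, 1] (Cert.step [2, 2, 0, 3, 0, 2, 2, 0, 2, 0, 3, 1, 2, 2, 1, 3, 1, 3, 1, 3] (Cert.fail))),
  (2, Cert.step [0, 0, 2, 1, 2, 1] (Cert.fail)),
  (1, Cert.step [2, 0, 2, 2, 2, 1, 3, 3] (Cert.step [3, 3, 0, 3, 0, 2, 2, 1, 3, 3, 3, 0, 3, 3, 1, 2, 1, 2, 2] (Cert.fail))),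
  (1, Cert.fail),
  (1, Cert.step [0, 4, 2, 0, 2, 2, 1, 2, 4, 1, 3, 3, 3] (Cert.fail)),
  (1, Cert.step [0, 3, 1] (Cert.fail)),
  (1, Cert.step [2, 0, 2, 2, 2, 1, 3, 3] (Cert.step [3, 3, 0, 3, 0, 2, 2, 1, 3, 3, 3, 0, 3, 3, 1, 2, 1, 2, 2] (Cert.fail))),
  (2, Cert.fail),
  (1, Cert.step [0, 4, 2, 1, 2, 4, 3, 3, 3, 4, 3, 3, 3, 4, 1] (Cert.fail)),
  (1, Cert.step [2, 0, 4, 3, 3, 0, 2, 2, 1, 3, 3, 4, 3, 1, 3] (Cert.fail)),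
  (1, Cert.fail),
  (1, Cert.step [0, 4, 2, 1, 2, 4, 3, 3, 3, 4, 3, 3, 3, 4, 1] (Cert.fail)),
  (1, Cert.step [2, 0, 4, 3, 3, 0, 2, 2, 1, 3, 3, 4, 3, 1, 3] (Cert.fail)),
  (2, Cert.step [0, 0, 3, 3, 1, 2, 2, 1] (Cert.fail)),
  (1, Cert.step [1, 3, 3, 4, 2, 2, 4, 3, 3, 0, 2, 2, 4, 3, 3, 4, 2] (Cert.fail)),
  (1, Cert.fail),
  (1, Cert.step [0, 2, 0, 3, 3, 1, 3, 3, 1] (Cert.fail)),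
  (2, Cert.fail),
  (1, Cert.step [2, 0, 2, 2, 0, 3, 3, 1, 2, 1] (Cert.fail)),
  (1, Cert.step [0, 0, 2, 1, 3, 1] (Cert.step [0, 4, 3, 3, 4, 2, 4, 2, 0, 4, 2, 4, 3, 3, 3, 4] (Cert.fail))),
  (1, Cert.step [1, 3, 3, 4, 2, 2, 4, 3, 3, 0, 2, 2, 4, 3, 3, 4, 2] (Cert.fail)),
  (1, Cert.fail),
  (1, Cert.step [0, 2, 0, 3, 3, 1, 3, 3, 1] (Cert.fail)),
  (1, Cert.step [2, 0, 2, 2, 0, 3, 3, 1, 2, 1] (Cert.fail)),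
  (1, Cert.step [0, 0, 2, 1, 3, 1] (Cert.step [0, 4, 3, 3, 4, 2, 4, 2, 0, 4, 2, 4, 3, 3, 3, 4] (Cert.fail))),
  (2, Cert.step [2, 0, 3, 0, 3, 1, 2, 1, 3] (Cert.fail)),
  (3, Cert.fail),
  (1, Cert.step [2, 0, 3, 3, 0, 2, 1, 2, 1] (Cert.fail)),
  (1, Cert.step [2, 0, 3, 3, 0, 3, 3, 1, 3, 1] (Cert.step [0, 3, 0, 2, 2, 0, 3, 3, 1, 3, 3, 1, 2, 1, 3, 3, 3] (Cert.fail))),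
  (2, Cert.fail),
  (1, Cert.step [2, 0, 3, 3, 0, 2, 1, 2, 1] (Cert.fail)),
  (1, Cert.step [2, 0, 3, 3, 0, 3, 3, 1, 3, 1] (Cert.step [0, 3, 0, 2, 2, 0, 3, 3, 1, 3, 3, 1, 2, 1, 3, 3, 3] (Cert.fail))),
  (1, Cert.fail),
  (1, Cert.step [0, 3, 0, 2, 1, 2, 1, 2, 2] (Cert.fail)),
  (1, Cert.step [3, 0, 2, 2, 0, 3, 1, 3, 1] (Cert.step [0, 2, 2, 1, 4, 3, 3, 4, 3, 3, 4, 3, 3, 4, 3, 3, 3] (Cert.fail))),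
  (1, Cert.step [0, 2, 1, 3] (Cert.fail)),
  (1, Cert.step [0, 2, 0, 2, 1, 2, 1, 2] (Cert.fail)),
  (1, Cert.step [0, 3, 0, 3, 1, 3, 1, 3, 3] (Cert.fail)),
  (1, Cert.step [0, 2, 1, 3] (Cert.fail)),
  (1, Cert.step [0, 2, 0, 2, 1, 2, 1, 2] (Cert.fail)),
  (1, Cert.step [0, 3, 0, 3, 1, 3, 1, 3, 3] (Cert.fail)),
  (2, Cert.fail),
  (1, Cert.step [0, 0, 2, 2, 1, 3, 1, 2] (Cert.fail)),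
  (1, Cert.step [0, 0, 3, 1, 3, 3, 1, 2] (Cert.fail)),
  (3, Cert.fail),
  (1, Cert.step [2, 0, 3, 3, 1, 3, 3] (Cert.fail)),
  (1, Cert.fail),
  (1, Cert.step [0, 3, 3, 0, 3, 1, 2, 2, 1, 3] (Cert.fail)),
  (1, Cert.step [2, 0, 3, 3, 3, 1, 2] (Cert.step [3, 0, 3, 0, 3, 0, 2, 0, 2, 0, 3, 3, 1, 3, 1, 3, 1, 2, 1, 2, 1, 3] (Cert.fail))),
  (1, Cert.step [2, 0, 3, 3, 1, 3, 3] (Cert.fail)),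
  (1, Cert.fail),
  (1, Cert.step [0, 3, 3, 0, 3, 1, 2, 2, 1, 3] (Cert.fail)),
  (1, Cert.step [2, 0, 3, 3, 3, 1, 2] (Cert.step [3, 0, 3, 0, 3, 0, 2, 0, 2, 0, 3, 3, 1, 3, 1, 3, 1, 2, 1, 2, 1, 3] (Cert.fail))),
  (1, Cert.step [3, 0, 3, 0, 2, 1, 2, 1] (Cert.fail)),
  (1, Cert.fail),
  (1, Cert.step [3, 0, 3, 0, 2, 1, 2, 1] (Cert.fail)),
  (1, Cert.fail),
  (2, Cert.step [0, 3, 3, 0, 2, 2, 1, 1] (Cert.fail)),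
  (1, Cert.step [4, 3, 0, 3, 3, 4, 3, 4, 1, 2, 4, 2] (Cert.fail)),
  (1, Cert.step [0, 3, 3, 0, 3, 1, 3, 3, 1, 3] (Cert.fail)),
  (1, Cert.step [2, 0, 3, 3, 0, 3, 1, 3, 1] (Cert.step [3, 3, 0, 2, 2, 0, 3, 1, 3, 3, 3, 0, 2, 1, 2, 2, 1] (Cert.fail))),
  (2, Cert.step [0, 2, 0, 3, 1, 3, 1, 3] (Cert.fail)),
  (1, Cert.fail),
  (1, Cert.step [0, 2, 0, 2, 1, 3, 1, 2] (Cert.step [3, 3, 0, 2, 2, 0, 3, 1, 3, 3, 3, 0, 2, 1, 2, 2, 1] (Cert.fail))),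
  (1, Cert.step [2, 0, 3, 4, 2, 2, 0, 3, 3, 1, 2, 2, 4, 2, 1] (Cert.fail)),
  (2, Cert.step [0, 0, 2, 2, 1, 1] (Cert.fail)),
  (1, Cert.step [0, 3, 3, 0, 2, 1, 2, 1] (Cert.fail)),
  (2, Cert.fail),
  (1, Cert.step [0, 0, 2, 1, 2, 1, 3] (Cert.step [2, 2, 0, 3, 0, 2, 2, 0, 2, 0, 3, 1, 2, 2, 1, 3, 1, 3, 1, 3] (Cert.fail))),
  (4, Cert.fail),
  (1, Cert.step [0, 0, 2, 1, 2, 2, 1] (Cert.step [0, 4, 3, 3, 4, 2, 4, 2, 0, 4, 2, 4, 3, 3, 3, 4] (Cert.fail))),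
  (6, Cert.fail),
  (1, Cert.step [0, 3, 0, 2, 2, 1, 3, 3, 3, 1] (Cert.fail)),
  (2, Cert.step [0, 0, 3, 3, 1, 3, 3, 1, 3] (Cert.step [2, 0, 2, 0, 4, 2, 2, 4, 2, 2, 4, 2, 2, 4, 2, 1, 2, 2, 1, 3, 3] (Cert.fail))),
  (1, Cert.fail),
  (1, Cert.step [0, 3, 0, 2, 2, 1, 3, 3, 3, 1] (Cert.fail)),
  (2, Cert.fail),
  (1, Cert.step [3, 0, 2, 2, 2, 1, 3, 3, 3] (Cert.fail)),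
  (1, Cert.step [0, 2, 0, 3, 3, 1, 3, 1, 3, 3] (Cert.step [0, 4, 3, 3, 4, 2, 4, 2, 0, 4, 2, 4, 3, 3, 3, 4] (Cert.step [] (Cert.done [0, 4, 3, 3, 4, 2, 4, 2, 0, 4, 2, 4, 3, 3, 3, 4, 0, 2, 0, 3, 3, 1, 3, 1, 3, 3, 0, 4, 3, 4, 2, 2, 2, 4, 5, 4, 3, 3, 0, 3, 4, 3, 6, 4, 2, 5, 4, 2, 4, 6])))),
  (1, Cert.step [0, 2, 2, 0, 2, 1, 2, 1, 3, 3] (Cert.fail)),
  (2, Cert.step [0, 3, 3, 1] (Cert.step [2, 2, 2, 0, 3, 3, 0, 2, 2, 0, 2, 1, 2, 1, 2, 2, 1, 3] (Cert.fail))),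
  (1, Cert.step [4, 2, 4, 2, 2, 0, 3, 1, 3, 4, 1, 2, 1, 2, 2, 4] (Cert.step [2, 2, 0, 3, 1, 3, 3, 3, 1, 3, 3, 3, 1, 2, 1, 2, 1] (Cert.fail))),
  (1, Cert.step [0, 3, 0, 2, 1, 3, 1, 3, 3] (Cert.fail)),
  (1, Cert.step [4, 2, 4, 2, 2, 0, 3, 1, 3, 4, 1, 2, 1, 2, 2, 4] (Cert.step [2, 2, 0, 3, 1, 3, 3, 3, 1, 3, 3, 3, 1, 2, 1, 2, 1] (Cert.fail))),
  (1, Cert.step [0, 3, 0, 2, 1, 3, 1, 3, 3] (Cert.fail)),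
  (1, Cert.step [0, 0, 2, 2, 1, 2, 1, 2] (Cert.fail)),
  (1, Cert.step [0, 0, 2, 2, 1, 3, 3, 1] (Cert.fail)),
  (1, Cert.step [0, 0, 2, 2, 1, 2, 1, 2] (Cert.fail)),
  (1, Cert.step [0, 0, 2, 2, 1, 3, 3, 1] (Cert.fail)),
  (1, Cert.step [0, 0, 2, 1, 3, 3, 1, 3] (Cert.fail)),
  (1, Cert.fail),
  (1, Cert.step [3, 0, 4, 2, 2, 0, 3, 3, 1, 2, 2, 4, 1, 2] (Cert.step [0, 2, 0, 3, 3, 1, 3, 3, 1, 2, 1, 3, 3, 3, 1, 3, 1, 2, 1] (Cert.fail))),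
  (2, Cert.step [3, 0, 4, 2, 2, 0, 3, 3, 1, 2, 2, 4, 2, 1, 2] (Cert.step [0, 3, 0, 3, 0, 3, 3, 0, 2, 2, 2, 0, 3, 1, 3] (Cert.fail))),
  (1, Cert.step [4, 2, 0, 2, 0, 2, 0, 2, 4, 2, 2, 1, 3, 3] (Cert.fail)),
  (1, Cert.step [0, 0, 3, 1, 2, 1] (Cert.fail)),
  (2, Cert.fail),
  (1, Cert.step [0, 0, 2, 2, 1, 3, 1, 2] (Cert.fail)),
  (1, Cert.fail),
  (1, Cert.step [4, 3, 0, 3, 3, 4, 3, 4, 1, 2, 4, 2] (Cert.fail)),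
  (1, Cert.step [0, 3, 3, 0, 3, 1, 3, 3, 1, 3] (Cert.fail)),
  (1, Cert.step [2, 0, 3, 3, 0, 3, 1, 3, 1] (Cert.step [3, 3, 0, 2, 2, 0, 3, 1, 3, 3, 3, 0, 2, 1, 2, 2, 1] (Cert.fail))),
  (1, Cert.fail),
  (1, Cert.step [0, 2, 0, 2, 1, 3, 1, 2] (Cert.step [3, 3, 0, 2, 2, 0, 3, 1, 3, 3, 3, 0, 2, 1, 2, 2, 1] (Cert.fail))),
  (1, Cert.step [0, 3, 3, 0, 2, 1, 2, 1] (Cert.fail)),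
  (1, Cert.fail),
  (1, Cert.step [0, 2, 0, 3, 3, 1, 3, 1, 3, 3] (Cert.step [0, 4, 3, 3, 4, 2, 4, 2, 0, 4, 2, 4, 3, 3, 3, 4] (Cert.step [] (Cert.done [0, 4, 3, 3, 4, 2, 4, 2, 0, 4, 2, 4, 3, 3, 3, 4, 0, 2, 0, 3, 3, 1, 3, 1, 3, 3, 1, 4, 3, 4, 2, 2, 2, 4, 5, 4, 3, 3, 0, 3, 4, 3, 6, 4, 2, 5, 4, 2, 4, 6])))),
  (1, Cert.step [0, 2, 2, 0, 2, 1, 2, 1, 3, 3] (Cert.fail)),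
  (1, Cert.step [0, 0, 2, 1, 3, 3, 1, 3] (Cert.fail)),
  (1, Cert.fail),
  (1, Cert.step [4, 2, 0, 2, 0, 2, 0, 2, 4, 2, 2, 1, 3, 3] (Cert.fail)),
  (1, Cert.step [0, 0, 3, 1, 2, 1] (Cert.fail)),
  (1, Cert.fail),
  (1, Cert.step [0, 2, 2, 1, 2] (Cert.fail)),
  (1, Cert.step [3, 1, 3, 4, 2, 2, 4, 3, 3, 3, 3, 4, 2, 2, 4, 3, 0] (Cert.fail)),
  (1, Cert.fail),
  (1, Cert.step [0, 2, 2, 1, 2] (Cert.fail)),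
  (1, Cert.step [3, 1, 3, 4, 2, 2, 4, 3, 3, 3, 3, 4, 2, 2, 4, 3, 0] (Cert.fail)),
  (1, Cert.step [0, 2, 2, 2, 1, 3, 3] (Cert.fail)),
  (1, Cert.step [2, 2, 0, 4, 2, 2, 0, 3, 0, 2, 1, 3, 3, 4, 3] (Cert.fail)),
  (2, Cert.step [0, 3, 3, 0, 2, 2, 1, 2, 1, 3] (Cert.step [2, 2, 0, 3, 0, 2, 2, 0, 2, 0, 3, 1, 2, 2, 1, 3, 1, 3, 1, 3] (Cert.fail))),
  (1, Cert.step [3, 4, 3, 0, 3, 3, 4, 3, 4, 3, 3, 1, 3, 4] (Cert.fail)),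
  (1, Cert.step [0, 2, 2, 2, 1, 3, 3] (Cert.fail)),
  (1, Cert.step [2, 2, 0, 4, 2, 2, 0, 3, 0, 2, 1, 3, 3, 4, 3] (Cert.fail)),
  (1, Cert.step [3, 4, 3, 0, 3, 3, 4, 3, 4, 3, 3, 1, 3, 4] (Cert.fail)),
  (2, Cert.step [2, 0, 2, 0, 2, 1, 3, 1, 2] (Cert.fail)),
  (1, Cert.fail),
  (2, Cert.step [0, 2, 0, 2, 2, 2, 1, 2, 1, 3] (Cert.step [3, 3, 0, 2, 2, 0, 3, 1, 3, 3, 3, 0, 2, 1, 2, 2, 1] (Cert.fail))),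
  (1, Cert.step [3, 0, 2, 4, 3, 3, 0, 2, 0, 2, 1, 3, 3, 4, 3] (Cert.fail)),
  (1, Cert.step [4, 2, 4, 2, 1, 3, 3, 0, 2, 4, 2, 4] (Cert.fail)),
  (2, Cert.fail),
  (1, Cert.step [3, 0, 2, 4, 3, 3, 0, 2, 0, 2, 1, 3, 3, 4, 3] (Cert.fail)),
  (1, Cert.step [4, 2, 4, 2, 1, 3, 3, 0, 2, 4, 2, 4] (Cert.fail)),
  (1, Cert.fail),
  (2, Cert.step [2, 0, 2, 4, 2, 2, 0, 3, 3, 1, 2, 2, 4, 1, 2, 2] (Cert.fail)),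
  (2, Cert.step [0, 3, 3, 0, 3, 1, 3, 3, 1, 3] (Cert.step [3, 0, 2, 1, 2, 1, 2, 2, 1, 3, 3, 1, 3, 3, 1, 2] (Cert.fail))),
  (1, Cert.step [0, 2, 2, 0, 3, 3, 1, 2, 1, 3] (Cert.fail)),
  (1, Cert.step [0, 2, 0, 3, 1, 2, 2, 1] (Cert.step [0, 2, 2, 0, 3, 3, 1, 3, 0, 3, 1, 3, 3, 1, 3, 3] (Cert.fail))),
  (2, Cert.fail),
  (1, Cert.step [3, 0, 2, 2, 2, 1, 2, 2] (Cert.fail)),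
  (1, Cert.step [] (Cert.step [2, 0, 2, 0, 3, 0, 3, 0, 2, 0, 2, 0, 3, 1, 3, 1, 3] (Cert.fail))),
  (1, Cert.step [0, 3, 0, 2, 1, 2, 1, 2] (Cert.fail)),
  (1, Cert.step [0, 0, 2, 1, 2, 1, 2] (Cert.step [3, 0, 2, 2, 0, 2, 2, 0, 3, 3, 0, 3, 0, 3, 1, 2] (Cert.fail))),
  (1, Cert.step [] (Cert.step [2, 0, 2, 0, 3, 0, 3, 0, 2, 0, 2, 0, 3, 1, 3, 1, 3] (Cert.fail))),
  (1, Cert.step [0, 3, 0, 2, 1, 2, 1, 2] (Cert.fail)),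
  (1, Cert.step [0, 0, 2, 1, 2, 1, 2] (Cert.step [3, 0, 2, 2, 0, 2, 2, 0, 3, 3, 0, 3, 0, 3, 1, 2] (Cert.fail))),
  (2, Cert.fail),
  (1, Cert.step [0, 2, 2, 0, 3, 3, 1, 2, 1, 3] (Cert.fail)),
  (1, Cert.step [0, 2, 0, 3, 1, 2, 2, 1] (Cert.step [0, 2, 2, 0, 3, 3, 1, 3, 0, 3, 1, 3, 3, 1, 3, 3] (Cert.fail))),
  (2, Cert.fail),
  (1, Cert.step [3, 0, 2, 2, 2, 1, 2, 2] (Cert.fail)),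
  (2, Cert.fail),
  (1, Cert.step [3, 0, 4, 2, 2, 0, 3, 3, 1, 2, 2, 4, 1, 2, 2] (Cert.step [0, 3, 0, 3, 0, 3, 3, 0, 2, 2, 2, 0, 3, 1, 3] (Cert.fail))),
  (1, Cert.step [1, 3, 4, 2, 2, 4, 3, 3, 0, 2, 2, 4, 3, 3, 4, 3] (Cert.fail)),
  (1, Cert.step [2, 0, 3, 3, 0, 2, 1, 2, 2, 1] (Cert.fail)),
  (1, Cert.step [3, 0, 4, 2, 2, 0, 3, 3, 1, 2, 2, 4, 1, 2, 2] (Cert.step [0, 3, 0, 3, 0, 3, 3, 0, 2, 2, 2, 0, 3, 1, 3] (Cert.fail))),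
  (1, Cert.step [1, 3, 4, 2, 2, 4, 3, 3, 0, 2, 2, 4, 3, 3, 4, 3] (Cert.fail)),
  (1, Cert.step [2, 0, 3, 3, 0, 2, 1, 2, 2, 1] (Cert.fail)),
  (1, Cert.step [0, 2, 1, 3] (Cert.fail)),
  (1, Cert.step [3, 3, 0, 3, 4, 3, 0, 2, 1, 3, 4, 1] (Cert.fail)),
  (1, Cert.step [0, 2, 2, 2, 0, 3, 1, 3, 1, 3] (Cert.step [0, 2, 2, 1, 4, 3, 3, 4, 3, 3, 4, 3, 3, 4, 3, 3, 3] (Cert.fail))),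
  (1, Cert.step [3, 3, 0, 3, 0, 3, 1, 2, 1] (Cert.step [2, 0, 2, 2, 0, 2, 2, 0, 2, 2, 1, 3, 1, 2, 2, 1, 3] (Cert.fail))),
  (1, Cert.step [3, 3, 0, 3, 4, 3, 0, 2, 1, 3, 4, 1] (Cert.fail)),
  (1, Cert.step [0, 2, 2, 2, 0, 3, 1, 3, 1, 3] (Cert.step [0, 2, 2, 1, 4, 3, 3, 4, 3, 3, 4, 3, 3, 4, 3, 3, 3] (Cert.fail))),
  (1, Cert.step [3, 3, 0, 3, 0, 3, 1, 2, 1] (Cert.step [2, 0, 2, 2, 0, 2, 2, 0, 2, 2, 1, 3, 1, 2, 2, 1, 3] (Cert.fail))),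
  (1, Cert.step [3, 0, 3, 0, 2, 1, 2, 1, 3] (Cert.fail)),
  (2, Cert.step [3, 0, 4, 2, 2, 0, 3, 3, 1, 2, 2, 4, 1, 2] (Cert.fail)),
  (1, Cert.step [3, 0, 2, 2, 0, 2, 1, 2, 1, 3] (Cert.step [2, 0, 2, 1, 3, 3, 3, 1, 2, 2, 1, 2, 1, 2, 1] (Cert.fail))),
  (2, Cert.step [0, 3, 0, 2, 1, 3, 3, 1, 2] (Cert.fail)),
  (1, Cert.step [0, 0, 2, 2, 1, 3, 3, 1, 3] (Cert.fail)),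
  (1, Cert.step [0, 2, 1, 3] (Cert.fail)),
  (1, Cert.step [3, 0, 3, 0, 2, 1, 2, 1, 3] (Cert.fail)),
  (1, Cert.step [3, 0, 2, 2, 0, 2, 1, 2, 1, 3] (Cert.step [2, 0, 2, 1, 3, 3, 3, 1, 2, 2, 1, 2, 1, 2, 1] (Cert.fail))),
  (1, Cert.step [0, 0, 2, 2, 1, 3, 3, 1, 3] (Cert.fail)),
  (2, Cert.step [0, 2, 0, 2, 2, 2, 1, 2, 2, 1] (Cert.fail)),
  (1, Cert.step [0, 4, 2, 1, 2, 4, 3, 3, 3, 4, 3, 3, 3, 4, 1] (Cert.fail)),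
  (2, Cert.fail),
  (1, Cert.step [2, 0, 3, 0, 3, 3, 1, 2, 1] (Cert.fail)),
  (2, Cert.step [0, 0, 3, 1, 3, 3, 1] (Cert.fail)),
  (3, Cert.fail),
  (1, Cert.step [3, 3, 0, 4, 3, 3, 0, 2, 0, 3, 1, 2, 2, 4] (Cert.step [0, 4, 3, 4, 3, 0, 4, 2, 4, 3, 3, 4, 3, 3, 3, 4, 0] (Cert.fail))),
  (1, Cert.fail),
  (1, Cert.step [4, 3, 0, 3, 3, 4, 3, 4, 3, 3, 1, 3, 4, 2] (Cert.fail)),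
  (1, Cert.fail),
  (1, Cert.step [3, 3, 0, 4, 3, 3, 0, 2, 0, 3, 1, 2, 2, 4] (Cert.step [0, 4, 3, 4, 3, 0, 4, 2, 4, 3, 3, 4, 3, 3, 3, 4, 0] (Cert.fail))),
  (1, Cert.fail),
  (1, Cert.step [4, 3, 0, 3, 3, 4, 3, 4, 3, 3, 1, 3, 4, 2] (Cert.fail)),
  (1, Cert.step [0, 3, 3, 0, 3, 1, 2, 1] (Cert.fail)),
  (1, Cert.step [2, 2, 2, 4, 2, 4, 3, 3, 1, 2, 0, 3, 3, 3, 4, 2, 2, 4] (Cert.step [2, 0, 2, 0, 3, 0, 3, 0, 3, 3, 0, 3, 3, 0, 2, 1, 2, 2, 1] (Cert.fail))),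
  (1, Cert.step [3, 3, 0, 3, 0, 3, 1, 2, 1] (Cert.fail)),
  (1, Cert.step [0, 3, 0, 2, 1, 2, 1, 3] (Cert.fail)),
  (1, Cert.step [0, 3, 3, 0, 2, 1, 2, 1] (Cert.fail)),
  (1, Cert.step [2, 0, 2, 2, 2, 1, 3] (Cert.fail)),
  (1, Cert.step [0, 3, 3, 0, 2, 1, 2, 1] (Cert.fail)),
  (1, Cert.step [2, 0, 2, 2, 2, 1, 3] (Cert.fail)),
  (2, Cert.step [0, 3, 0, 3, 1, 3, 1, 3] (Cert.step [0, 3, 0, 3, 4, 2, 2, 4, 2, 2, 4, 2, 2, 4, 2, 1, 3, 1, 3, 3, 3] (Cert.fail))),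
  (1, Cert.fail),
  (1, Cert.step [2, 0, 3, 0, 3, 1, 3, 1, 2] (Cert.step [0, 2, 0, 3, 3, 1, 3, 3, 0, 2, 2, 1, 3, 1, 3, 3, 3] (Cert.fail))),
  (2, Cert.step [0, 0, 3, 1, 2, 2, 1] (Cert.step [2, 0, 3, 3, 0, 2, 0, 3, 3, 1, 3, 3, 1, 3, 3, 1, 3] (Cert.fail))),
  (1, Cert.step [2, 2, 0, 2, 0, 2, 2, 1, 2, 1] (Cert.fail)),
  (1, Cert.fail),
  (1, Cert.step [2, 0, 3, 0, 3, 1, 3, 1, 2] (Cert.step [0, 2, 0, 3, 3, 1, 3, 3, 0, 2, 2, 1, 3, 1, 3, 3, 3] (Cert.fail))),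
  (1, Cert.step [2, 2, 0, 2, 0, 2, 2, 1, 2, 1] (Cert.fail)),
  (3, Cert.fail),
  (1, Cert.step [3, 0, 3, 0, 2, 1, 2, 1, 3, 3] (Cert.step [2, 0, 2, 1, 2, 2, 0, 2, 1, 3, 3] (Cert.fail))),
  (1, Cert.fail),
  (1, Cert.step [3, 0, 3, 0, 2, 1, 2, 1, 3, 3] (Cert.step [2, 0, 2, 1, 2, 2, 0, 2, 1, 3, 3] (Cert.fail))),
  (1, Cert.step [4, 2, 0, 2, 2, 4, 2, 4, 1, 3, 4, 3, 3] (Cert.fail)),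
  (1, Cert.step [2, 2, 0, 3, 3, 0, 3, 1, 3, 1] (Cert.fail)),
  (1, Cert.step [4, 2, 0, 2, 2, 4, 2, 4, 1, 3, 4, 3, 3] (Cert.fail)),
  (1, Cert.step [2, 2, 0, 3, 3, 0, 3, 1, 3, 1] (Cert.fail)),
  (1, Cert.step [2, 0, 3, 0, 2, 2, 1, 2, 1] (Cert.fail)),
  (2, Cert.step [0, 3, 3, 1, 3, 3] (Cert.fail)),
  (1, Cert.step [0, 2, 2, 0, 2, 1, 2, 1, 3] (Cert.fail)),
  (1, Cert.step [3, 0, 2, 2, 0, 3, 1, 3, 1] (Cert.step [0, 2, 0, 2, 0, 2, 2, 0, 2, 2, 2, 1, 3, 3, 1, 2, 1, 3, 1, 3] (Cert.fail))),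
  (1, Cert.step [4, 3, 0, 4, 2, 4, 2, 2, 1, 2, 4] (Cert.fail)),
  (2, Cert.step [2, 2, 0, 3, 3, 0, 3, 1, 3, 1] (Cert.fail)),
  (2, Cert.step [0, 3, 0, 3, 1, 3, 1, 3] (Cert.step [0, 3, 0, 3, 4, 2, 2, 4, 2, 2, 4, 2, 2, 4, 2, 1, 3, 1, 3, 3, 3] (Cert.fail))),
  (1, Cert.step [0, 3, 0, 2, 1, 2, 1] (Cert.fail)),
  (1, Cert.step [3, 0, 4, 3, 3, 0, 2, 0, 3, 1, 2, 2, 4, 2] (Cert.fail)),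
  (1, Cert.step [0, 2, 2, 1, 3] (Cert.fail)),
  (1, Cert.fail),
  (2, Cert.step [0, 2, 2, 2, 0, 3, 3, 1, 2, 1] (Cert.fail)),
  (2, Cert.step [4, 2, 0, 2, 2, 4, 2, 4, 3, 3, 3, 1, 3, 4] (Cert.fail)),
  (1, Cert.fail),
  (2, Cert.step [3, 0, 3, 0, 3, 1, 2, 1] (Cert.step [0, 2, 4, 2, 4, 3, 0, 4, 3, 1, 2, 4, 2, 1, 3, 4, 3, 4, 1] (Cert.fail))),
  (1, Cert.fail),
  (1, Cert.step [0, 4, 2, 0, 2, 2, 1, 2, 4, 1, 2, 2] (Cert.fail)),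
  (1, Cert.fail),
  (1, Cert.step [0, 2, 2, 2, 0, 2, 1, 2, 1, 3] (Cert.fail)),
  (1, Cert.step [0, 4, 2, 0, 2, 2, 1, 2, 4, 1, 2, 2] (Cert.fail)),
  (1, Cert.fail),
  (1, Cert.step [0, 2, 2, 2, 0, 2, 1, 2, 1, 3] (Cert.fail)),
  (1, Cert.step [2, 2, 0, 3, 4, 3, 1, 3, 1, 3, 1, 3, 4] (Cert.fail)),
  (1, Cert.step [2, 0, 4, 3, 3, 0, 2, 2, 1, 3, 3, 4, 3, 1, 3] (Cert.fail)),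
  (1, Cert.step [2, 2, 0, 3, 4, 3, 1, 3, 1, 3, 1, 3, 4] (Cert.fail)),
  (1, Cert.step [2, 0, 4, 3, 3, 0, 2, 2, 1, 3, 3, 4, 3, 1, 3] (Cert.fail)),
  (1, Cert.fail),
  (2, Cert.step [0, 0, 3, 1, 3, 3, 1, 2] (Cert.fail)),
  (2, Cert.fail),
  (1, Cert.step [2, 0, 3, 0, 3, 3, 1, 2, 1] (Cert.fail)),
  (1, Cert.step [2, 2, 0, 2, 0, 2, 1, 3, 1, 2] (Cert.step [0, 3, 0, 3, 0, 2, 2, 2, 0, 2, 2, 2, 0, 2, 1, 3, 3] (Cert.fail))),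
  (1, Cert.step [0, 0, 2, 2, 2, 1, 3, 1, 3, 3] (Cert.fail)),
  (1, Cert.step [2, 0, 3, 0, 3, 3, 1, 2, 1] (Cert.fail)),
  (1, Cert.step [2, 2, 0, 2, 0, 2, 1, 3, 1, 2] (Cert.step [0, 3, 0, 3, 0, 2, 2, 2, 0, 2, 2, 2, 0, 2, 1, 3, 3] (Cert.fail))),
  (2, Cert.fail),
  (1, Cert.step [4, 3, 3, 0, 2, 1, 2, 1, 3, 3, 4, 3, 1] (Cert.fail)),
  (2, Cert.fail),
  (1, Cert.step [0, 0, 2, 2, 1, 2, 1, 2] (Cert.step [0, 2, 0, 2, 0, 2, 2, 0, 2, 2, 2, 1, 3, 3, 1, 2, 1, 3, 1, 3] (Cert.fail))),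
  (2, Cert.fail),
  (2, Cert.step [0, 4, 2, 0, 2, 2, 1, 2, 4, 2, 1, 2] (Cert.fail)),
  (1, Cert.step [0, 2, 0, 3, 1, 3, 1] (Cert.step [] (Cert.fail))),
  (1, Cert.step [3, 0, 3, 4, 3, 3, 0, 2, 0, 2, 1, 3, 3, 4, 3] (Cert.fail)),
  (1, Cert.step [2, 0, 2, 4, 3, 3, 0, 2, 2, 1, 3, 3, 4, 1, 3, 3] (Cert.fail)),
  (1, Cert.step [3, 0, 3, 0, 2, 1, 3, 3, 1] (Cert.step [0, 4, 3, 4, 3, 0, 4, 2, 4, 3, 3, 4, 3, 3, 3, 4, 0] (Cert.step [3, 3, 0, 2, 2, 0, 3, 0, 3, 3, 1, 2, 2, 0, 3, 3, 1, 3, 1, 2, 2, 1, 3] (Cert.done [3, 3, 0, 2, 2, 0, 3, 0, 3, 3, 1, 2, 2, 0, 3, 3, 1, 3, 1, 2, 2, 1, 3, 0, 4, 3, 4, 3, 0, 4, 2, 4, 3, 3, 4, 3, 3, 3, 4, 0, 3, 0, 3, 0, 2, 1, 3, 3, 1, 4, 3, 4, 2, 2, 4, 2, 2, 5, 4, 3, 3, 0, 3, 4, 3, 6, 4, 2, 5, 4, 2, 4, 6])))),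
  (5, Cert.fail),
  (1, Cert.step [3, 0, 2, 0, 2, 1, 3, 1, 3, 3] (Cert.step [0, 3, 3, 0, 2, 0, 4, 3, 3, 4, 3, 3, 4, 3, 3, 4, 0] (Cert.step [3, 3, 0, 2, 2, 0, 3, 0, 3, 3, 1, 2, 2, 0, 3, 3, 1, 3, 1, 2, 2, 1, 3] (Cert.done [3, 3, 0, 2, 2, 0, 3, 0, 3, 3, 1, 2, 2, 0, 3, 3, 1, 3, 1, 2, 2, 1, 3, 0, 3, 3, 0, 2, 0, 4, 3, 3, 4, 3, 3, 4, 3, 3, 4, 0, 3, 0, 2, 0, 2, 1, 3, 1, 3, 3, 4, 3, 4, 3, 1, 4, 3, 3, 5, 4, 3, 3, 0, 3, 4, 3, 6, 4, 2, 5, 4, 2, 4, 6])))),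
  (2, Cert.step [0, 2, 2, 0, 3, 1, 3, 3, 1] (Cert.fail)),
  (1, Cert.step [3, 0, 2, 0, 2, 1, 3, 1, 2] (Cert.fail)),
  (2, Cert.step [0, 0, 3, 1, 2, 1] (Cert.fail)),
  (1, Cert.step [2, 0, 4, 3, 3, 0, 2, 2, 1, 3, 3, 4, 3, 1] (Cert.fail)),
  (1, Cert.step [0, 2, 0, 2, 2, 1, 3, 1] (Cert.fail)),
  (2, Cert.step [4, 2, 0, 2, 0, 2, 0, 2, 4, 2, 2, 1, 3, 3] (Cert.fail)),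
  (1, Cert.step [0, 2, 0, 2, 2, 2, 1, 2, 2, 1] (Cert.fail)),
  (1, Cert.step [0, 3, 3, 0, 3, 1, 2, 1] (Cert.fail)),
  (1, Cert.step [2, 2, 2, 4, 2, 4, 3, 3, 1, 2, 0, 3, 3, 3, 4, 2, 2, 4] (Cert.step [2, 0, 2, 0, 3, 0, 3, 0, 3, 3, 0, 3, 3, 0, 2, 1, 2, 2, 1] (Cert.fail))),
  (1, Cert.step [0, 2, 2, 0, 2, 1, 3, 3, 3, 1] (Cert.fail)),
  (1, Cert.step [0, 0, 2, 2, 2, 1, 3, 1, 3] (Cert.fail)),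
  (1, Cert.step [0, 2, 2, 0, 2, 1, 2, 1, 3] (Cert.fail)),
  (1, Cert.step [2, 0, 4, 3, 3, 0, 2, 2, 1, 3, 3, 4, 3, 1, 3] (Cert.fail)),
  (1, Cert.fail),
  (1, Cert.step [0, 2, 2, 0, 3, 1, 3, 3, 1, 2] (Cert.step [2, 2, 2, 0, 3, 3, 0, 2, 2, 0, 2, 1, 2, 1, 2, 2, 1, 3] (Cert.fail))),
  (1, Cert.step [0, 3, 3, 0, 2, 1, 2, 1, 3, 3] (Cert.fail)),
  (1, Cert.step [0, 3, 4, 3, 3, 1, 4, 2, 1, 2, 1, 3, 4, 3, 4] (Cert.fail)),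
  (1, Cert.step [2, 0, 4, 3, 3, 0, 2, 2, 1, 3, 3, 4, 3, 1] (Cert.fail)),
  (1, Cert.step [0, 2, 0, 2, 2, 2, 1, 2, 2, 1] (Cert.fail)),
  (1, Cert.fail),
  (1, Cert.step [0, 2, 2, 1, 2] (Cert.fail)),
  (1, Cert.step [2, 1, 4, 2, 2, 4, 3, 3, 3, 3, 4, 2, 2, 4, 0] (Cert.fail)),
  (1, Cert.fail),
  (1, Cert.step [0, 2, 2, 1, 2] (Cert.fail)),
  (1, Cert.step [2, 1, 4, 2, 2, 4, 3, 3, 3, 3, 4, 2, 2, 4, 0] (Cert.fail)),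
  (1, Cert.step [0, 3, 0, 3, 3, 1, 3, 3, 1] (Cert.fail)),
  (2, Cert.step [2, 0, 2, 0, 2, 1, 3, 3, 1] (Cert.step [0, 3, 0, 3, 0, 2, 2, 2, 0, 2, 2, 2, 0, 2, 1, 3, 3] (Cert.fail))),
  (1, Cert.step [0, 0, 3, 3, 1, 2, 1, 2] (Cert.fail)),
  (1, Cert.step [0, 3, 0, 3, 3, 1, 3, 3, 1] (Cert.fail)),
  (1, Cert.step [0, 0, 3, 3, 1, 2, 1, 2] (Cert.fail)),
  (2, Cert.step [3, 0, 3, 0, 3, 1, 2, 1, 3] (Cert.fail)),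
  (1, Cert.fail),
  (2, Cert.step [2, 0, 3, 3, 0, 3, 3, 1, 3, 1] (Cert.step [2, 0, 2, 0, 3, 0, 3, 0, 2, 0, 2, 0, 3, 1, 3, 1, 3] (Cert.fail))),
  (1, Cert.step [3, 0, 4, 2, 2, 0, 3, 0, 3, 1, 2, 2, 4, 2, 2] (Cert.fail)),
  (1, Cert.step [3, 0, 2, 2, 0, 2, 1, 3, 1, 3] (Cert.fail)),
  (2, Cert.fail),
  (1, Cert.step [3, 0, 4, 2, 2, 0, 3, 0, 3, 1, 2, 2, 4, 2, 2] (Cert.fail)),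
  (1, Cert.step [3, 0, 2, 2, 0, 2, 1, 3, 1, 3] (Cert.fail)),
  (1, Cert.fail),
  (2, Cert.step [4, 2, 0, 2, 2, 4, 2, 4, 0, 3, 4, 1, 3, 1, 3] (Cert.fail)),
  (2, Cert.step [2, 2, 0, 3, 4, 3, 0, 2, 1, 3, 4, 3, 1] (Cert.step [4, 3, 3, 4, 3, 3, 0, 3, 3, 4, 0, 2, 2, 4, 3, 3, 3] (Cert.fail))),
  (1, Cert.step [0, 2, 2, 0, 3, 3, 1, 2, 1, 2] (Cert.fail)),
  (1, Cert.step [0, 2, 0, 2, 2, 1, 3, 3, 1, 2] (Cert.step [2, 0, 2, 0, 4, 2, 2, 4, 2, 2, 4, 2, 2, 4, 2, 1, 2, 2, 1, 3, 3] (Cert.fail))),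
  (1, Cert.fail),
  (1, Cert.step [0, 3, 1, 2] (Cert.step [2, 2, 0, 3, 3, 0, 3, 3, 1, 3, 3, 0, 2, 1, 3, 3, 1, 3, 3] (Cert.fail))),
  (1, Cert.step [0, 0, 2, 1, 2, 1] (Cert.fail)),
  (1, Cert.step [0, 3, 3, 0, 3, 1, 3, 1, 3] (Cert.step [3, 0, 2, 2, 0, 2, 2, 0, 3, 3, 0, 3, 0, 3, 1, 2] (Cert.fail))),
  (1, Cert.step [0, 3, 1, 2] (Cert.step [2, 2, 0, 3, 3, 0, 3, 3, 1, 3, 3, 0, 2, 1, 3, 3, 1, 3, 3] (Cert.fail))),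
  (1, Cert.step [0, 0, 2, 1, 2, 1] (Cert.fail)),
  (1, Cert.step [0, 3, 3, 0, 3, 1, 3, 1, 3] (Cert.step [3, 0, 2, 2, 0, 2, 2, 0, 3, 3, 0, 3, 0, 3, 1, 2] (Cert.fail))),
  (2, Cert.fail),
  (1, Cert.step [0, 2, 2, 0, 3, 3, 1, 2, 1, 2] (Cert.fail)),
  (1, Cert.step [0, 2, 0, 2, 2, 1, 3, 3, 1, 2] (Cert.step [2, 0, 2, 0, 4, 2, 2, 4, 2, 2, 4, 2, 2, 4, 2, 1, 2, 2, 1, 3, 3] (Cert.fail))),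
  (3, Cert.fail),
  (1, Cert.step [2, 0, 2, 2, 0, 2, 2, 1, 3, 1] (Cert.step [2, 2, 0, 2, 2, 0, 2, 0, 3, 0, 3, 1, 2, 2, 1, 2, 1, 3, 3, 1, 3] (Cert.fail))),
  (1, Cert.step [2, 2, 0, 2, 0, 2, 1, 3, 1] (Cert.fail)),
  (1, Cert.step [3, 0, 4, 2, 2, 0, 3, 3, 1, 2, 2, 4, 1, 2] (Cert.fail)),
  (1, Cert.step [2, 0, 2, 2, 0, 2, 2, 1, 3, 1] (Cert.step [2, 2, 0, 2, 2, 0, 2, 0, 3, 0, 3, 1, 2, 2, 1, 2, 1, 3, 3, 1, 3] (Cert.fail))),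
  (1, Cert.step [2, 2, 0, 2, 0, 2, 1, 3, 1] (Cert.fail)),
  (1, Cert.step [3, 0, 4, 2, 2, 0, 3, 3, 1, 2, 2, 4, 1, 2] (Cert.fail)),
  (1, Cert.step [0, 3, 0, 2, 2, 1, 3, 1] (Cert.fail)),
  (1, Cert.step [3, 3, 0, 3, 4, 3, 0, 2, 1, 3, 4, 1] (Cert.fail)),
  (1, Cert.step [0, 2, 2, 2, 0, 3, 3, 1, 3, 1] (Cert.step [4, 2, 0, 4, 2, 4, 3, 4, 0, 3, 4, 2, 4, 1, 3, 3] (Cert.fail))),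
  (1, Cert.step [0, 0, 3, 3, 1, 3, 3, 1, 2] (Cert.step [3, 0, 3, 3, 0, 3, 0, 3, 1, 3, 3, 0, 3, 1, 2, 1, 2, 2, 1, 2, 2] (Cert.fail))),
  (1, Cert.step [3, 3, 0, 3, 4, 3, 0, 2, 1, 3, 4, 1] (Cert.fail)),
  (1, Cert.step [0, 2, 2, 2, 0, 3, 3, 1, 3, 1] (Cert.step [4, 2, 0, 4, 2, 4, 3, 4, 0, 3, 4, 2, 4, 1, 3, 3] (Cert.fail))),
  (1, Cert.step [0, 0, 3, 3, 1, 3, 3, 1, 2] (Cert.step [3, 0, 3, 3, 0, 3, 0, 3, 1, 3, 3, 0, 3, 1, 2, 1, 2, 2, 1, 2, 2] (Cert.fail))),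
  (1, Cert.step [3, 3, 0, 4, 2, 2, 0, 3, 3, 1, 2, 2, 4, 1, 3] (Cert.fail)),
  (2, Cert.step [2, 0, 3, 3, 0, 2, 1, 2, 2, 1] (Cert.fail)),
  (1, Cert.step [3, 0, 2, 2, 0, 2, 1, 2, 1, 3] (Cert.step [2, 0, 2, 0, 2, 1, 3, 1, 3, 1, 2, 1, 2, 1, 3, 1, 3] (Cert.fail))),
  (2, Cert.step [0, 0, 3, 3, 1, 2, 1] (Cert.fail)),
  (1, Cert.step [4, 3, 3, 0, 2, 1, 2, 1, 3, 3, 4, 3, 1, 2] (Cert.fail)),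
  (1, Cert.step [0, 3, 0, 2, 2, 1, 3, 1] (Cert.fail)),
  (1, Cert.step [3, 3, 0, 4, 2, 2, 0, 3, 3, 1, 2, 2, 4, 1, 3] (Cert.fail)),
  (1, Cert.step [3, 0, 2, 2, 0, 2, 1, 2, 1, 3] (Cert.step [2, 0, 2, 0, 2, 1, 3, 1, 3, 1, 2, 1, 2, 1, 3, 1, 3] (Cert.fail))),
  (1, Cert.step [4, 3, 3, 0, 2, 1, 2, 1, 3, 3, 4, 3, 1, 2] (Cert.fail)),
  (1, Cert.step [0, 4, 2, 1, 2, 4, 3, 3, 3, 4, 3, 3, 3, 4, 1] (Cert.fail)),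
  (1, Cert.step [0, 2, 0, 2, 2, 1, 2, 1, 2] (Cert.fail)),
  (2, Cert.step [0, 3, 0, 2, 1, 3, 1, 3, 3] (Cert.fail)),
  (3, Cert.fail),
  (1, Cert.step [2, 0, 3, 0, 3, 1, 3, 1, 2] (Cert.step [2, 0, 2, 0, 2, 2, 2, 0, 3, 0, 3, 3, 1, 2, 2, 1, 2, 1, 2, 1] (Cert.fail))),
  (1, Cert.fail),
  (1, Cert.step [4, 3, 3, 0, 3, 0, 4, 2, 0, 2, 1, 3, 3, 4, 3, 4, 3] (Cert.fail)),
  (1, Cert.fail),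
  (1, Cert.step [2, 0, 3, 0, 3, 1, 3, 1, 2] (Cert.step [2, 0, 2, 0, 2, 2, 2, 0, 3, 0, 3, 3, 1, 2, 2, 1, 2, 1, 2, 1] (Cert.fail))),
  (1, Cert.fail),
  (1, Cert.step [4, 3, 3, 0, 3, 0, 4, 2, 0, 2, 1, 3, 3, 4, 3, 4, 3] (Cert.fail)),
  (1, Cert.step [0, 3, 0, 3, 1, 3, 1, 2] (Cert.fail)),
  (1, Cert.step [4, 3, 0, 3, 3, 4, 3, 4, 3, 3, 1, 3, 4, 3] (Cert.step [2, 0, 2, 0, 3, 0, 3, 0, 3, 3, 0, 3, 3, 0, 2, 1, 2, 2, 1] (Cert.fail))),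
  (1, Cert.step [0, 0, 3, 3, 1, 3, 3, 1, 2] (Cert.fail)),
  (1, Cert.step [0, 0, 2, 1, 3, 1] (Cert.fail)),
  (1, Cert.step [0, 3, 0, 3, 1, 2, 1, 2] (Cert.fail)),
  (1, Cert.step [4, 3, 0, 3, 3, 4, 3, 4, 0, 2, 4, 1, 2, 1] (Cert.fail)),
  (1, Cert.step [0, 3, 0, 3, 1, 2, 1, 2] (Cert.fail)),
  (1, Cert.step [4, 3, 0, 3, 3, 4, 3, 4, 0, 2, 4, 1, 2, 1] (Cert.fail)),
  (2, Cert.step [0, 3, 3, 0, 3, 1, 3, 1] (Cert.step [0, 3, 0, 3, 4, 2, 2, 4, 2, 2, 4, 2, 2, 4, 2, 1, 3, 1, 3, 3, 3] (Cert.fail))),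
  (1, Cert.fail),
  (1, Cert.step [3, 3, 0, 4, 3, 3, 0, 2, 0, 3, 1, 2, 2, 4] (Cert.step [0, 2, 2, 0, 2, 2, 0, 2, 0, 3, 3, 1, 2, 1, 2, 2, 1, 3, 1, 3] (Cert.fail))),
  (2, Cert.step [0, 0, 3, 1, 2, 1, 2] (Cert.step [4, 2, 2, 2, 4, 3, 3, 0, 2, 4, 3, 3, 1, 2, 4, 1, 2, 2] (Cert.fail))),
  (1, Cert.step [2, 0, 3, 3, 0, 2, 1, 2, 1] (Cert.fail)),
  (1, Cert.fail),
  (1, Cert.step [3, 3, 0, 4, 3, 3, 0, 2, 0, 3, 1, 2, 2, 4] (Cert.step [0, 2, 2, 0, 2, 2, 0, 2, 0, 3, 3, 1, 2, 1, 2, 2, 1, 3, 1, 3] (Cert.fail))),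
  (1, Cert.step [2, 0, 3, 3, 0, 2, 1, 2, 1] (Cert.fail)),
  (3, Cert.fail),
  (1, Cert.step [3, 0, 3, 0, 2, 1, 2, 1, 3, 3] (Cert.step [3, 0, 3, 3, 0, 2, 2, 0, 2, 2, 1, 2, 2, 0, 3, 1, 3, 1, 3, 1] (Cert.step [] (Cert.done [3, 0, 3, 3, 0, 2, 2, 0, 2, 2, 1, 2, 2, 0, 3, 1, 3, 1, 3, 1, 3, 0, 3, 0, 2, 1, 2, 1, 3, 3, 0, 4, 2, 4, 2, 2, 0, 4, 3, 5, 4, 3, 3, 0, 3, 4, 3, 6, 4, 2, 5, 4, 2, 4, 6])))),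
  (1, Cert.fail),
  (1, Cert.step [3, 0, 3, 0, 2, 1, 2, 1, 3, 3] (Cert.step [3, 0, 3, 3, 0, 2, 2, 0, 2, 2, 1, 2, 2, 0, 3, 1, 3, 1, 3, 1] (Cert.step [] (Cert.done [3, 0, 3, 3, 0, 2, 2, 0, 2, 2, 1, 2, 2, 0, 3, 1, 3, 1, 3, 1, 3, 0, 3, 0, 2, 1, 2, 1, 3, 3, 0, 4, 2, 4, 2, 2, 1, 4, 3, 5, 4, 3, 3, 0, 3, 4, 3, 6, 4, 2, 5, 4, 2, 4, 6])))),
  (1, Cert.step [4, 3, 4, 3, 1, 3, 4, 3, 4, 3, 0, 3, 4, 3, 4] (Cert.fail)),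
  (1, Cert.step [4, 3, 3, 0, 2, 1, 2, 1, 3, 3, 4, 3, 1] (Cert.fail)),
  (1, Cert.step [4, 3, 4, 3, 1, 3, 4, 3, 4, 3, 0, 3, 4, 3, 4] (Cert.fail)),
  (1, Cert.step [4, 3, 3, 0, 2, 1, 2, 1, 3, 3, 4, 3, 1] (Cert.fail)),
  (1, Cert.step [0, 2, 0, 2, 2, 1, 3, 1, 2] (Cert.fail)),
  (2, Cert.step [0, 0, 2, 2, 1, 3, 1, 2] (Cert.fail)),
  (1, Cert.step [0, 2, 2, 0, 2, 2, 1, 3, 1] (Cert.fail)),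
  (1, Cert.step [3, 0, 2, 0, 2, 1, 3, 1, 3] (Cert.step [2, 2, 2, 0, 3, 3, 0, 2, 2, 0, 2, 1, 2, 1, 2, 2, 1, 3] (Cert.fail))),
  (1, Cert.step [0, 0, 2, 2, 1, 2, 1] (Cert.fail)),
  (2, Cert.step [0, 3, 3, 0, 3, 1, 3, 1] (Cert.step [0, 3, 0, 3, 4, 2, 2, 4, 2, 2, 4, 2, 2, 4, 2, 1, 3, 1, 3, 3, 3] (Cert.fail))),
  (1, Cert.step [0, 0, 2, 1, 1] (Cert.fail)),
  (1, Cert.step [2, 0, 2, 2, 0, 3, 1, 3, 3, 1] (Cert.fail)),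
  (1, Cert.step [0, 2, 2, 0, 2, 1, 3, 3, 1] (Cert.fail)),
  (1, Cert.fail),
  (2, Cert.step [0, 2, 2, 2, 0, 3, 1, 3, 1, 2] (Cert.fail)),
  (2, Cert.step [3, 0, 4, 2, 2, 0, 3, 0, 2, 1, 3, 3, 4, 3, 3] (Cert.fail)),
  (1, Cert.fail),
  (2, Cert.step [0, 3, 0, 3, 3, 1, 2, 2, 1, 3] (Cert.step [2, 0, 2, 1, 3, 1, 3, 3, 3, 1, 2, 1, 2, 1] (Cert.fail))),
  (1, Cert.fail),
  (1, Cert.step [2, 0, 3, 0, 3, 3, 1, 2, 2, 1] (Cert.fail)),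
  (1, Cert.fail),
  (1, Cert.step [1, 4, 2, 2, 4, 3, 3, 0, 3, 3, 4, 2, 2, 4, 3] (Cert.fail)),
  (1, Cert.step [2, 0, 3, 0, 3, 3, 1, 2, 2, 1] (Cert.fail)),
  (1, Cert.fail),
  (1, Cert.step [1, 4, 2, 2, 4, 3, 3, 0, 3, 3, 4, 2, 2, 4, 3] (Cert.fail)),
  (2, Cert.step [2, 0, 3, 3, 0, 3, 1, 2, 1] (Cert.fail)),
  (1, Cert.fail),
  (2, Cert.step [0, 3, 3, 0, 3, 1, 2, 2, 1, 3] (Cert.fail)),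
  (2, Cert.fail),
  (1, Cert.step [0, 2, 0, 2, 2, 1, 2, 1, 2] (Cert.fail)),
  (1, Cert.step [2, 0, 3, 4, 3, 0, 2, 2, 0, 2, 1, 2, 4] (Cert.step [4, 2, 2, 4, 3, 3, 1, 3, 3, 4, 2, 2, 4, 1, 3, 1, 3, 1, 3] (Cert.fail))),
  (1, Cert.step [0, 2, 0, 3, 3, 1, 2, 2, 1] (Cert.fail)),
  (1, Cert.step [0, 2, 0, 2, 2, 1, 2, 1, 2] (Cert.fail)),
  (1, Cert.step [2, 0, 3, 4, 3, 0, 2, 2, 0, 2, 1, 2, 4] (Cert.step [4, 2, 2, 4, 3, 3, 1, 3, 3, 4, 2, 2, 4, 1, 3, 1, 3, 1, 3] (Cert.fail))),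
  (2, Cert.fail),
  (1, Cert.step [2, 2, 0, 3, 3, 0, 3, 1, 3, 1] (Cert.fail)),
  (2, Cert.fail),
  (1, Cert.step [1, 3, 4, 2, 2, 4, 3, 3, 0, 2, 2, 4, 3, 3, 4] (Cert.step [2, 2, 2, 0, 3, 3, 0, 2, 2, 0, 2, 1, 2, 1, 2, 2, 1, 3] (Cert.fail))),
  (2, Cert.fail),
  (2, Cert.step [2, 0, 3, 0, 3, 1, 2, 1] (Cert.fail)),
  (1, Cert.step [0, 2, 0, 3, 1, 3, 3, 1, 2] (Cert.step [2, 1, 3, 3, 4, 3, 3, 4, 2, 2, 0, 2, 2, 4, 3, 3, 4, 3] (Cert.fail))),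
  (1, Cert.step [4, 2, 4, 2, 2, 0, 3, 1, 3, 4, 1, 2, 1, 2, 2, 4] (Cert.fail)),
  (1, Cert.step [3, 1, 2, 4, 2, 2, 4, 3, 3, 0, 2, 2, 4, 3, 3, 4] (Cert.fail)),
  (1, Cert.step [4, 3, 0, 2, 0, 2, 2, 2, 2, 1, 2, 1, 3, 4, 3] (Cert.step [0, 3, 0, 3, 0, 2, 1, 3, 3, 0, 3, 3, 3, 1, 3, 1, 2, 1] (Cert.fail))),
  (5, Cert.fail),
  (1, Cert.step [3, 0, 2, 2, 0, 3, 1, 3, 3, 1] (Cert.step [2, 2, 2, 0, 2, 0, 2, 2, 1, 2, 1, 3, 1, 3, 1, 3, 1, 2, 2, 1] (Cert.fail))),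
  (2, Cert.step [0, 4, 2, 2, 2, 4, 2, 2, 2, 4, 2, 0, 2, 4, 1, 2] (Cert.fail)),
  (1, Cert.step [3, 0, 2, 0, 2, 1, 3, 1, 2] (Cert.fail)),
  (2, Cert.step [0, 0, 3, 1, 2, 1] (Cert.fail)),
  (1, Cert.step [0, 2, 2, 0, 3, 3, 1, 3, 1] (Cert.fail)),
  (1, Cert.step [0, 2, 0, 3, 1, 2, 1, 2] (Cert.fail)),
  (1, Cert.step [0, 0, 2, 1, 3, 3, 1, 3] (Cert.fail)),
  (1, Cert.step [0, 3, 0, 3, 1, 3, 1, 2] (Cert.fail)),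
  (1, Cert.step [4, 3, 0, 3, 3, 4, 3, 4, 3, 3, 1, 3, 4, 3] (Cert.step [2, 0, 2, 0, 3, 0, 3, 0, 3, 3, 0, 3, 3, 0, 2, 1, 2, 2, 1] (Cert.fail))),
  (1, Cert.step [0, 0, 2, 1, 3, 1] (Cert.fail)),
  (1, Cert.step [0, 2, 0, 2, 2, 1, 3, 1, 2] (Cert.fail)),
  (1, Cert.step [0, 2, 2, 0, 2, 2, 1, 3, 1] (Cert.fail)),
  (1, Cert.step [0, 0, 2, 2, 1, 2, 1] (Cert.fail)),
  (1, Cert.fail),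
  (1, Cert.step [0, 2, 0, 3, 1, 3, 3, 1, 2] (Cert.step [2, 1, 3, 3, 4, 3, 3, 4, 2, 2, 0, 2, 2, 4, 3, 3, 4, 3] (Cert.fail))),
  (1, Cert.step [3, 1, 2, 4, 2, 2, 4, 3, 3, 0, 2, 2, 4, 3, 3, 4] (Cert.fail)),
  (1, Cert.step [3, 0, 2, 0, 2, 1, 3, 1, 2] (Cert.fail)),
  (1, Cert.step [0, 2, 2, 0, 3, 3, 1, 3, 1] (Cert.fail)),
  (1, Cert.step [0, 0, 2, 1, 3, 3, 1, 3] (Cert.fail)),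
  (3, Cert.fail),
  (1, Cert.step [0, 2, 0, 2, 1, 3, 1, 3] (Cert.step [2, 0, 2, 1, 3, 1, 3, 3, 3, 1, 2, 1, 2, 1] (Cert.step [3, 3, 0, 2, 2, 0, 3, 0, 3, 3, 1, 2, 2, 0, 3, 3, 1, 3, 1, 2, 2, 1, 3] (Cert.done [3, 3, 0, 2, 2, 0, 3, 0, 3, 3, 1, 2, 2, 0, 3, 3, 1, 3, 1, 2, 2, 2, 1, 3, 1, 3, 3, 3, 1, 2, 1, 2, 2, 0, 2, 1, 3, 1, 3, 4, 2, 0, 4, 2, 2, 0, 3, 4, 5, 4, 3, 3, 0, 3, 4, 3, 6, 4, 2, 5, 4, 2, 4, 6])))),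
  (2, Cert.fail),
  (1, Cert.step [0, 2, 0, 2, 1, 3, 1, 3] (Cert.step [2, 0, 2, 1, 3, 1, 3, 3, 3, 1, 2, 1, 2, 1] (Cert.step [3, 3, 0, 2, 2, 0, 3, 0, 3, 3, 1, 2, 2, 0, 3, 3, 1, 3, 1, 2, 2, 1, 3] (Cert.done [3, 3, 0, 2, 2, 0, 3, 0, 3, 3, 1, 2, 2, 0, 3, 3, 1, 3, 1, 2, 2, 2, 1, 3, 1, 3, 3, 3, 1, 2, 1, 2, 2, 0, 2, 1, 3, 1, 3, 4, 2, 0, 4, 2, 2, 1, 3, 4, 5, 4, 3, 3, 0, 3, 4, 3, 6, 4, 2, 5, 4, 2, 4, 6])))),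
  (3, Cert.fail),
  (1, Cert.step [3, 0, 2, 0, 2, 1, 3, 1, 3] (Cert.fail)),
  (2, Cert.fail),
  (1, Cert.step [4, 3, 0, 3, 3, 0, 3, 4, 1, 3, 3, 1] (Cert.fail)),
  (1, Cert.step [3, 0, 2, 0, 2, 1, 3, 1, 3] (Cert.fail)),
  (1, Cert.step [4, 3, 0, 3, 3, 0, 3, 4, 1, 3, 3, 1] (Cert.fail)),
  (1, Cert.step [2, 0, 3, 0, 3, 1, 2, 1, 3] (Cert.step [2, 2, 2, 0, 4, 3, 3, 4, 3, 3, 4, 3, 3, 4, 2, 2, 1] (Cert.step [] (Cert.done [2, 2, 2, 0, 4, 3, 3, 4, 3, 3, 4, 3, 3, 4, 2, 2, 1, 2, 0, 3, 0, 3, 1, 2, 1, 3, 4, 2, 2, 0, 2, 0, 2, 0, 4, 5, 4, 3, 3, 0, 3, 4, 3, 6, 4, 2, 5, 4, 2, 4, 6])))),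
  (1, Cert.step [2, 0, 3, 0, 3, 1, 2, 1, 3] (Cert.step [2, 2, 2, 0, 4, 3, 3, 4, 3, 3, 4, 3, 3, 4, 2, 2, 1] (Cert.step [] (Cert.done [2, 2, 2, 0, 4, 3, 3, 4, 3, 3, 4, 3, 3, 4, 2, 2, 1, 2, 0, 3, 0, 3, 1, 2, 1, 3, 4, 2, 2, 0, 2, 0, 2, 1, 4, 5, 4, 3, 3, 0, 3, 4, 3, 6, 4, 2, 5, 4, 2, 4, 6])))),
  (2, Cert.step [4, 2, 4, 2, 1, 3, 3, 0, 2, 4, 2, 4] (Cert.fail)),
  (3, Cert.fail),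
  (1, Cert.step [0, 3, 0, 2, 2, 1, 3, 3, 1, 2] (Cert.step [3, 0, 2, 2, 0, 2, 1, 3, 1, 2, 2, 1, 3, 1, 3, 3, 1, 2, 1, 3] (Cert.fail))),
  (1, Cert.step [2, 0, 4, 3, 3, 0, 2, 0, 3, 1, 2, 2, 4, 2] (Cert.fail)),
  (1, Cert.fail),
  (1, Cert.step [0, 3, 0, 2, 2, 1, 3, 3, 1, 2] (Cert.step [3, 0, 2, 2, 0, 2, 1, 3, 1, 2, 2, 1, 3, 1, 3, 3, 1, 2, 1, 3] (Cert.fail))),
  (1, Cert.step [2, 0, 4, 3, 3, 0, 2, 0, 3, 1, 2, 2, 4, 2] (Cert.fail)),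
  (2, Cert.fail),
  (2, Cert.step [2, 0, 3, 3, 0, 3, 1, 3, 1] (Cert.fail)),
  (1, Cert.step [3, 0, 3, 0, 3, 1, 2, 1, 2] (Cert.fail)),
  (3, Cert.fail),
  (2, Cert.step [0, 0, 2, 1, 3, 3, 1] (Cert.fail)),
  (1, Cert.fail),
  (2, Cert.step [2, 0, 2, 2, 1, 3, 3] (Cert.step [3, 3, 0, 2, 0, 3, 3, 3, 1, 3, 1, 2, 2] (Cert.fail))),
  (1, Cert.fail),
  (2, Cert.step [3, 0, 3, 0, 2, 1, 2, 2, 1] (Cert.step [0, 3, 0, 3, 3, 3, 0, 2, 1, 3, 1, 3, 3, 1] (Cert.fail))),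
  (1, Cert.step [0, 2, 2, 0, 3, 3, 3, 1, 1] (Cert.fail)),
  (1, Cert.step [3, 0, 3, 0, 3, 1, 2, 1, 2] (Cert.fail)),
  (3, Cert.fail),
  (1, Cert.step [0, 2, 2, 0, 3, 3, 3, 1, 1] (Cert.fail)),
  (2, Cert.step [0, 3, 3, 0, 3, 1, 3, 3, 1] (Cert.step [2, 4, 3, 3, 4, 3, 3, 4, 3, 0, 3, 3, 3, 1, 3, 4] (Cert.fail))),
  (1, Cert.step [0, 3, 0, 2, 1, 3, 3, 1, 2] (Cert.fail)),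
  (1, Cert.fail),
  (1, Cert.step [3, 0, 2, 0, 2, 2, 1, 1] (Cert.fail)),
  (1, Cert.step [0, 2, 2, 0, 2, 1, 3, 3, 1, 3] (Cert.fail)),
  (1, Cert.step [0, 3, 0, 2, 1, 3, 3, 1, 2] (Cert.fail)),
  (1, Cert.fail),
  (1, Cert.step [3, 0, 2, 0, 2, 2, 1, 1] (Cert.fail)),
  (1, Cert.step [0, 2, 2, 0, 2, 1, 3, 3, 1, 3] (Cert.fail)),
  (1, Cert.step [0, 2, 0, 3, 1, 3, 1] (Cert.fail)),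
  (1, Cert.step [0, 0, 2, 2, 1, 2, 2, 1, 3] (Cert.step [2, 2, 2, 4, 3, 3, 1, 4, 2, 2, 1, 2, 2, 4, 2, 2, 4] (Cert.fail))),
  (1, Cert.step [0, 2, 2, 2, 0, 2, 2, 1, 2, 1] (Cert.fail)),
  (1, Cert.step [3, 0, 2, 0, 2, 1, 2, 1, 2] (Cert.fail)),
  (1, Cert.step [0, 0, 2, 2, 1, 2, 2, 1, 3] (Cert.step [2, 2, 2, 4, 3, 3, 1, 4, 2, 2, 1, 2, 2, 4, 2, 2, 4] (Cert.fail))),
  (1, Cert.step [0, 2, 2, 2, 0, 2, 2, 1, 2, 1] (Cert.fail)),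
  (1, Cert.step [3, 0, 2, 0, 2, 1, 2, 1, 2] (Cert.fail)),
  (1, Cert.step [3, 0, 2, 2, 1, 2] (Cert.fail)),
  (1, Cert.step [4, 2, 2, 1, 4, 2, 2, 4, 3, 3, 0, 3, 3, 4] (Cert.step [0, 3, 0, 3, 0, 2, 2, 2, 0, 2, 2, 2, 0, 2, 1, 3, 3] (Cert.fail))),
  (1, Cert.step [0, 3, 3, 0, 3, 1, 2, 2, 1, 3] (Cert.step [4, 2, 2, 2, 4, 3, 3, 0, 2, 4, 3, 3, 1, 2, 4, 1, 2, 2] (Cert.fail))),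
  (1, Cert.step [4, 2, 2, 1, 4, 2, 2, 4, 3, 3, 0, 3, 3, 4] (Cert.step [0, 3, 0, 3, 0, 2, 2, 2, 0, 2, 2, 2, 0, 2, 1, 3, 3] (Cert.fail))),
  (1, Cert.step [0, 3, 3, 0, 3, 1, 2, 2, 1, 3] (Cert.step [4, 2, 2, 2, 4, 3, 3, 0, 2, 4, 3, 3, 1, 2, 4, 1, 2, 2] (Cert.fail))),
  (1, Cert.step [0, 2, 0, 2, 1, 3, 3, 1, 2] (Cert.fail)),
  (1, Cert.step [0, 2, 2, 0, 2, 1, 2, 2, 1] (Cert.fail)),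
  (2, Cert.step [3, 0, 3, 0, 3, 1, 2, 1] (Cert.fail)),
  (1, Cert.step [0, 3, 3, 0, 2, 1, 2, 1] (Cert.step [2, 0, 3, 0, 2, 2, 0, 3, 1, 3, 3, 1, 3, 3, 3, 1, 3] (Cert.fail))),
  (1, Cert.fail),
  (1, Cert.step [0, 2, 0, 3, 1, 3, 1] (Cert.fail)),
  (1, Cert.step [3, 0, 2, 2, 1, 2] (Cert.fail)),
  (1, Cert.step [0, 2, 0, 2, 1, 3, 3, 1, 2] (Cert.fail)),
  (1, Cert.step [0, 2, 2, 0, 2, 1, 2, 2, 1] (Cert.fail)),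
  (1, Cert.step [0, 3, 3, 0, 2, 1, 2, 1] (Cert.step [2, 0, 3, 0, 2, 2, 0, 3, 1, 3, 3, 1, 3, 3, 3, 1, 3] (Cert.fail))),
  (3, Cert.fail),
  (2, Cert.step [0, 0, 3, 3, 1, 2, 1, 2] (Cert.fail)),
  (1, Cert.step [0, 4, 2, 0, 3, 1, 2, 4, 2, 2, 1, 2, 2] (Cert.fail)),
  (1, Cert.fail),
  (2, Cert.step [0, 2, 2, 0, 3, 1, 3, 1] (Cert.step [3, 3, 0, 3, 1, 2, 1, 2, 2, 1, 3, 1, 2, 1] (Cert.fail))),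
  (1, Cert.step [0, 0, 3, 3, 1, 2, 1, 2] (Cert.fail)),
  (2, Cert.step [0, 2, 2, 0, 2, 1, 3, 3, 1, 2] (Cert.fail)),
  (1, Cert.step [0, 2, 0, 3, 1, 3, 1, 2] (Cert.step [3, 3, 0, 3, 1, 2, 1, 2, 2, 1, 3, 1, 2, 1] (Cert.fail))),
  (1, Cert.step [0, 0, 2, 2, 2, 1, 3, 3, 1] (Cert.step [3, 3, 0, 2, 0, 3, 3, 3, 1, 3, 1, 2, 2] (Cert.fail))),
  (1, Cert.step [0, 2, 2, 0, 2, 1, 3, 3, 1, 3] (Cert.fail)),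
  (1, Cert.step [0, 0, 3, 3, 1, 2, 1, 2] (Cert.fail)),
  (1, Cert.step [0, 2, 0, 3, 1, 3, 1, 2] (Cert.step [3, 3, 0, 3, 1, 2, 1, 2, 2, 1, 3, 1, 2, 1] (Cert.fail))),
  (1, Cert.step [0, 0, 2, 2, 2, 1, 3, 3, 1] (Cert.step [3, 3, 0, 2, 0, 3, 3, 3, 1, 3, 1, 2, 2] (Cert.fail))),
  (1, Cert.step [0, 2, 2, 0, 2, 1, 3, 3, 1, 3] (Cert.fail)),
  (1, Cert.step [0, 0, 2, 1, 3, 1, 3, 3] (Cert.fail)),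
  (1, Cert.step [4, 3, 0, 3, 3, 4, 3, 4, 1, 2, 4, 2] (Cert.fail)),
  (1, Cert.step [0, 0, 2, 1, 2, 2, 1] (Cert.fail)),
  (1, Cert.step [0, 0, 2, 2, 1, 2, 1, 3] (Cert.fail)),
  (2, Cert.step [0, 2, 2, 0, 2, 1, 2, 1, 2] (Cert.step [0, 3, 0, 3, 4, 2, 2, 4, 2, 2, 4, 2, 2, 4, 2, 1, 3, 1, 3, 3, 3] (Cert.fail))),
  (2, Cert.fail),
  (2, Cert.step [0, 0, 2, 1, 2, 2, 1, 3] (Cert.fail)),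
  (2, Cert.step [2, 2, 0, 2, 0, 3, 1, 2, 2, 1] (Cert.fail)),
  (1, Cert.fail),
  (1, Cert.step [0, 2, 0, 3, 1, 3, 1, 2] (Cert.fail)),
  (1, Cert.fail),
  (1, Cert.step [0, 2, 0, 3, 1, 3, 1, 2] (Cert.fail)),
  (2, Cert.step [0, 2, 0, 2, 2, 2, 1, 2, 1, 2] (Cert.step [3, 0, 3, 0, 3, 3, 3, 1, 2, 1, 2] (Cert.fail))),
  (1, Cert.step [0, 2, 2, 2, 0, 3, 3, 3, 1, 1] (Cert.fail)),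
  (1, Cert.step [0, 2, 0, 2, 1, 3, 3, 3, 1] (Cert.fail)),
  (1, Cert.step [0, 2, 2, 2, 0, 3, 3, 3, 1, 1] (Cert.fail)),
  (1, Cert.step [0, 2, 0, 2, 1, 3, 3, 3, 1] (Cert.fail)),
  (1, Cert.step [0, 0, 2, 2, 1, 2, 1, 3, 3] (Cert.step [0, 2, 0, 3, 3, 1, 3, 3, 0, 2, 2, 1, 3, 1, 3, 3, 3] (Cert.step [] (Cert.done [0, 2, 0, 3, 3, 1, 3, 3, 0, 2, 2, 1, 3, 1, 3, 3, 3, 0, 0, 2, 2, 1, 2, 1, 3, 3, 4, 2, 4, 2, 2, 4, 2, 0, 4, 5, 4, 3, 3, 0, 3, 4, 3, 6, 4, 2, 5, 4, 2, 4, 6])))),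
  (1, Cert.step [0, 0, 2, 2, 1, 2, 1, 3, 3] (Cert.step [0, 2, 0, 3, 3, 1, 3, 3, 0, 2, 2, 1, 3, 1, 3, 3, 3] (Cert.step [] (Cert.done [0, 2, 0, 3, 3, 1, 3, 3, 0, 2, 2, 1, 3, 1, 3, 3, 3, 0, 0, 2, 2, 1, 2, 1, 3, 3, 4, 2, 4, 2, 2, 4, 2, 1, 4, 5, 4, 3, 3, 0, 3, 4, 3, 6, 4, 2, 5, 4, 2, 4, 6])))),
  (1, Cert.step [4, 3, 0, 4, 2, 4, 2, 2, 1, 2, 4, 2] (Cert.fail)),
  (1, Cert.step [0, 0, 3, 1, 2, 1, 3, 3] (Cert.fail)),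
  (2, Cert.step [3, 0, 2, 0, 2, 1, 3, 1, 3, 3] (Cert.fail)),
  (2, Cert.step [0, 0, 2, 2, 1, 2, 1, 3, 3] (Cert.fail)),
  (1, Cert.step [0, 2, 2, 0, 2, 1, 2, 1, 2] (Cert.fail)),
  (1, Cert.step [2, 0, 3, 0, 2, 2, 1, 2, 1] (Cert.fail)),
  (1, Cert.step [3, 0, 2, 0, 2, 1, 3, 3, 3, 1] (Cert.fail)),
  (1, Cert.step [3, 1, 3, 4, 2, 2, 4, 3, 3, 3, 3, 4, 2, 2, 4, 3, 0] (Cert.step [0, 3, 0, 2, 0, 2, 2, 2, 1, 2, 2, 0, 3, 1, 2, 1, 2, 1] (Cert.fail))),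
  (1, Cert.fail),
  (1, Cert.step [3, 1, 3, 4, 2, 2, 4, 3, 3, 3, 3, 4, 2, 2, 4, 3, 0] (Cert.step [0, 3, 0, 2, 0, 2, 2, 2, 1, 2, 2, 0, 3, 1, 2, 1, 2, 1] (Cert.fail))),
  (2, Cert.fail),
  (1, Cert.step [0, 0, 2, 2, 1, 3, 1] (Cert.fail)),
  (1, Cert.fail),
  (1, Cert.step [0, 0, 2, 2, 1, 3, 1] (Cert.fail)),
  (1, Cert.step [0, 2, 2, 2, 0, 3, 3, 3, 1, 1] (Cert.step [0, 3, 3, 4, 2, 2, 4, 2, 2, 4, 2, 2, 4, 1, 3, 3, 3] (Cert.fail))),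
  (2, Cert.step [0, 0, 2, 2, 2, 1, 3, 3, 1] (Cert.fail)),
  (1, Cert.step [0, 0, 2, 2, 2, 1, 3, 1, 3, 3] (Cert.fail)),
  (1, Cert.step [0, 2, 2, 0, 3, 1, 3, 1] (Cert.fail)),
  (1, Cert.step [0, 0, 2, 2, 2, 1, 3, 1, 3, 3] (Cert.fail)),
  (1, Cert.step [0, 2, 2, 0, 3, 1, 3, 1] (Cert.fail)),
  (2, Cert.step [0, 0, 3, 3, 1, 3, 3, 1, 2] (Cert.fail)),
  (2, Cert.step [0, 0, 2, 1, 3, 1] (Cert.fail)),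
  (1, Cert.step [0, 2, 2, 2, 1, 3] (Cert.step [2, 0, 2, 1, 3, 3, 3, 1, 2, 2, 1, 2, 1, 2, 1] (Cert.fail))),
  (2, Cert.step [0, 3, 3, 0, 3, 1, 2, 2, 1] (Cert.step [4, 2, 0, 3, 4, 3, 3, 4, 2, 2, 4, 2, 2, 4, 3, 0, 2, 2, 4] (Cert.fail))),
  (2, Cert.step [0, 2, 0, 2, 2, 1, 3, 1] (Cert.step [0, 2, 2, 0, 3, 3, 1, 3, 0, 3, 1, 3, 3, 1, 3, 3] (Cert.fail))),
  (1, Cert.step [3, 0, 3, 0, 2, 1, 3, 3, 1] (Cert.fail)),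
  (1, Cert.step [2, 0, 2, 2, 0, 2, 1, 3, 1] (Cert.fail)),
  (1, Cert.step [3, 0, 3, 0, 2, 1, 3, 3, 1] (Cert.fail)),
  (2, Cert.step [2, 0, 2, 2, 2, 0, 3, 1, 3, 1] (Cert.fail)),
  (4, Cert.fail),
  (2, Cert.step [0, 3, 3, 0, 2, 2, 1, 1] (Cert.fail)),
  (1, Cert.step [4, 2, 2, 0, 3, 3, 0, 2, 1, 3, 3, 1, 3, 4] (Cert.fail)),
  (1, Cert.step [0, 0, 2, 1, 3, 3, 1, 2] (Cert.fail)),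
  (3, Cert.fail),
  (2, Cert.step [0, 2, 2, 0, 3, 1, 3, 3, 1, 2] (Cert.fail)),
  (1, Cert.fail),
  (1, Cert.step [0, 2, 2, 0, 3, 1, 3, 1] (Cert.fail)),
  (1, Cert.step [0, 0, 3, 3, 1, 3, 3, 1, 3] (Cert.fail)),
  (1, Cert.step [3, 3, 0, 2, 2, 4, 3, 0, 2, 1, 3, 4, 1, 3] (Cert.fail)),
  (1, Cert.step [0, 3, 0, 3, 1, 2, 1] (Cert.fail)),
  (1, Cert.step [0, 3, 3, 0, 3, 1, 3, 3, 1] (Cert.fail)),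
  (9, Cert.fail),
  (2, Cert.step [2, 0, 3, 3, 3, 1, 2] (Cert.fail)),
  (2, Cert.step [4, 2, 2, 1, 4, 2, 2, 4, 3, 3, 0, 3, 3, 4] (Cert.step [0, 3, 0, 3, 0, 2, 2, 0, 2, 0, 2, 0, 3, 1, 3, 1, 3] (Cert.fail))),
  (2, Cert.fail),
  (1, Cert.step [0, 2, 0, 3, 3, 1, 2, 1] (Cert.step [2, 2, 0, 2, 0, 3, 3, 0, 3, 3, 0, 2, 1, 3, 1, 3, 1, 3, 1] (Cert.fail))),
  (1, Cert.step [2, 0, 4, 3, 3, 0, 2, 0, 3, 1, 2, 2, 4, 2] (Cert.fail)),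
  (1, Cert.step [0, 2, 0, 3, 3, 1, 2, 1] (Cert.step [2, 2, 0, 2, 0, 3, 3, 0, 3, 3, 0, 2, 1, 3, 1, 3, 1, 3, 1] (Cert.fail))),
  (1, Cert.step [2, 0, 4, 3, 3, 0, 2, 0, 3, 1, 2, 2, 4, 2] (Cert.fail)),
  (2, Cert.fail),
  (2, Cert.step [0, 3, 4, 3, 0, 4, 2, 4, 2, 2, 1, 2, 4, 2, 1] (Cert.fail)),
  (1, Cert.step [2, 0, 3, 3, 4, 3, 0, 2, 1, 3, 4, 3, 1] (Cert.fail)),
  (1, Cert.fail),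
  (2, Cert.step [0, 3, 0, 2, 1, 2, 1, 3, 3] (Cert.fail)),
  (1, Cert.fail),
  (2, Cert.step [4, 2, 2, 2, 4, 2, 1, 2, 4, 2, 0, 3, 3, 4, 1] (Cert.step [3, 0, 3, 0, 2, 2, 0, 2, 2, 0, 3, 3, 0, 3, 3, 3, 1] (Cert.fail))),
  (1, Cert.fail),
  (2, Cert.step [3, 3, 0, 3, 4, 3, 0, 2, 1, 3, 4, 3, 1] (Cert.step [2, 2, 0, 2, 2, 0, 2, 2, 2, 1, 3, 0, 2, 2, 1, 3, 1] (Cert.fail))),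
  (1, Cert.step [0, 2, 2, 0, 2, 1, 2, 2, 1] (Cert.fail)),
  (1, Cert.step [2, 0, 3, 3, 4, 3, 0, 2, 1, 3, 4, 3, 1] (Cert.fail)),
  (1, Cert.fail),
  (1, Cert.step [0, 2, 2, 0, 2, 1, 2, 2, 1] (Cert.fail)),
  (1, Cert.fail),
  (1, Cert.step [0, 0, 3, 1, 3, 3, 3, 1] (Cert.fail)),
  (1, Cert.fail),
  (1, Cert.step [0, 0, 3, 1, 3, 3, 3, 1] (Cert.fail)),
  (1, Cert.step [0, 2, 0, 3, 1, 3, 3, 1, 2] (Cert.fail)),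
  (2, Cert.step [2, 0, 2, 2, 0, 2, 1, 2, 1] (Cert.fail)),
  (1, Cert.step [3, 0, 2, 0, 2, 1, 2, 1] (Cert.fail)),
  (1, Cert.step [2, 0, 3, 0, 3, 1, 2, 1, 3] (Cert.step [2, 2, 0, 2, 0, 3, 3, 1, 2, 0, 2, 2, 1, 3, 3, 3, 1, 3, 3] (Cert.fail))),
  (1, Cert.step [0, 0, 3, 1, 3, 3, 1, 2] (Cert.step [3, 3, 0, 2, 2, 0, 3, 1, 3, 3, 3, 0, 2, 1, 2, 2, 1] (Cert.fail))),
  (1, Cert.step [2, 0, 3, 0, 3, 1, 2, 1, 3] (Cert.step [2, 2, 0, 2, 0, 3, 3, 1, 2, 0, 2, 2, 1, 3, 3, 3, 1, 3, 3] (Cert.fail))),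
  (1, Cert.step [0, 0, 3, 1, 3, 3, 1, 2] (Cert.step [3, 3, 0, 2, 2, 0, 3, 1, 3, 3, 3, 0, 2, 1, 2, 2, 1] (Cert.fail))),
  (1, Cert.step [3, 3, 0, 2, 2, 0, 2, 1, 2, 1] (Cert.fail)),
  (2, Cert.step [0, 3, 0, 3, 3, 1, 2, 2, 1, 3] (Cert.fail)),
  (1, Cert.fail),
  (1, Cert.step [0, 2, 0, 3, 1, 3, 3, 1, 2] (Cert.fail)),
  (1, Cert.step [3, 0, 2, 0, 2, 1, 2, 1] (Cert.fail)),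
  (1, Cert.step [3, 3, 0, 2, 2, 0, 2, 1, 2, 1] (Cert.fail)),
  (1, Cert.fail),
  (2, Cert.step [3, 4, 3, 0, 3, 3, 4, 3, 4, 3, 3, 1, 3, 4] (Cert.fail)),
  (1, Cert.step [2, 0, 2, 2, 0, 3, 3, 3, 1, 1] (Cert.fail)),
  (1, Cert.fail),
  (1, Cert.step [0, 2, 0, 3, 3, 1, 3, 3, 1, 3] (Cert.step [2, 2, 2, 0, 2, 0, 2, 2, 1, 2, 1, 3, 1, 3, 1, 3, 1, 2, 2, 1] (Cert.fail))),
  (1, Cert.step [0, 2, 2, 0, 3, 1, 3, 1] (Cert.fail)),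
  (1, Cert.step [0, 2, 0, 3, 3, 1, 3, 3, 1, 3] (Cert.step [2, 2, 2, 0, 2, 0, 2, 2, 1, 2, 1, 3, 1, 3, 1, 3, 1, 2, 2, 1] (Cert.fail))),
  (1, Cert.step [0, 2, 2, 0, 3, 1, 3, 1] (Cert.fail)),
  (1, Cert.step [0, 2, 0, 3, 3, 1, 3, 1, 3] (Cert.fail)),
  (2, Cert.fail),
  (2, Cert.step [3, 0, 3, 0, 3, 1, 2, 1, 3, 3] (Cert.fail)),
  (2, Cert.step [0, 2, 0, 3, 3, 1, 3, 1, 2] (Cert.fail)),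
  (1, Cert.fail),
  (1, Cert.step [2, 0, 4, 3, 3, 0, 2, 2, 1, 3, 3, 4, 1, 2] (Cert.fail)),
  (1, Cert.fail),
  (1, Cert.step [2, 0, 4, 3, 3, 0, 2, 2, 1, 3, 3, 4, 1, 2] (Cert.fail)),
  (2, Cert.step [2, 0, 3, 3, 0, 3, 3, 1, 2, 1] (Cert.step [0, 3, 0, 3, 3, 3, 0, 2, 1, 3, 1, 3, 3, 1] (Cert.fail))),
  (2, Cert.step [0, 2, 2, 2, 0, 3, 1, 3, 3, 1] (Cert.fail)),
  (2, Cert.step [2, 0, 3, 0, 2, 2, 1, 2, 1, 2] (Cert.step [2, 2, 0, 3, 0, 2, 2, 0, 2, 0, 3, 1, 2, 2, 1, 3, 1, 3, 1, 3] (Cert.fail))),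
  (1, Cert.step [0, 0, 2, 2, 1, 2, 2, 1] (Cert.fail)),
  (1, Cert.step [0, 0, 3, 1, 3, 1] (Cert.fail)),
  (2, Cert.step [2, 0, 3, 0, 2, 2, 1, 2, 1, 2] (Cert.fail)),
  (1, Cert.step [0, 2, 2, 0, 2, 2, 1, 2, 1] (Cert.fail)),
  (1, Cert.step [3, 0, 2, 2, 0, 3, 3, 3, 1, 1] (Cert.fail)),
  (3, Cert.fail),
  (1, Cert.step [0, 3, 0, 2, 1, 2, 2, 1, 3] (Cert.fail)),
  (1, Cert.fail),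
  (1, Cert.step [0, 3, 0, 2, 1, 2, 2, 1, 3] (Cert.fail)),
  (1, Cert.step [0, 2, 2, 2, 0, 3, 1, 3, 3, 1] (Cert.step [4, 2, 0, 2, 2, 2, 1, 2, 4, 2, 2, 4, 2, 2, 4, 3] (Cert.fail))),
  (2, Cert.step [0, 2, 0, 3, 3, 1, 2, 2, 1] (Cert.fail)),
  (1, Cert.step [0, 2, 2, 2, 1, 3] (Cert.step [2, 4, 3, 4, 3, 4, 2, 2, 4, 2, 4, 3, 3, 1, 3, 3, 3, 1, 3, 4] (Cert.fail))),
  (2, Cert.step [0, 2, 0, 2, 1, 2, 2, 1, 3] (Cert.step [0, 2, 0, 3, 3, 1, 3, 3, 0, 2, 2, 1, 3, 1, 3, 3, 3] (Cert.fail))),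
  (2, Cert.step [0, 2, 0, 3, 1, 2, 1, 2] (Cert.step [2, 2, 2, 0, 3, 3, 0, 2, 2, 0, 2, 1, 2, 1, 2, 2, 1, 3] (Cert.fail))),
  (2, Cert.step [4, 3, 0, 2, 0, 2, 2, 2, 2, 1, 2, 1, 3, 4, 3] (Cert.fail)),
  (2, Cert.step [4, 3, 0, 3, 4, 3, 0, 3, 4, 1, 2, 2, 1, 3, 4] (Cert.fail)),
  (4, Cert.fail),
  (1, Cert.step [0, 2, 0, 2, 2, 2, 1, 3, 3, 1] (Cert.fail)),
  (4, Cert.fail),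
  (1, Cert.step [0, 0, 2, 2, 1, 2, 2, 1] (Cert.fail)),
  (1, Cert.step [0, 0, 3, 1, 3, 1] (Cert.fail)),
  (1, Cert.step [3, 0, 2, 2, 0, 3, 3, 3, 1, 1] (Cert.fail)),
  (3, Cert.fail),
  (2, Cert.step [3, 3, 0, 3, 0, 3, 1, 2, 1] (Cert.fail)),
  (2, Cert.step [0, 2, 2, 0, 3, 3, 1, 2, 1, 3] (Cert.step [0, 4, 2, 2, 4, 2, 2, 1, 3, 3, 4, 3, 3, 3, 0, 2, 1, 3, 3, 4] (Cert.fail))),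
  (2, Cert.step [0, 0, 2, 2, 2, 1, 3, 1] (Cert.fail)),
  (1, Cert.step [2, 2, 0, 3, 3, 0, 3, 1, 3, 1] (Cert.fail)),
  (2, Cert.step [0, 3, 4, 3, 0, 4, 2, 4, 2, 2, 1, 2, 4, 1] (Cert.step [0, 3, 0, 3, 3, 1, 2, 2, 1, 2, 1, 3, 1, 3, 1, 3, 3, 1, 3] (Cert.fail))),
  (1, Cert.step [2, 2, 0, 3, 3, 0, 3, 1, 3, 1] (Cert.fail)),
  (2, Cert.fail),
  (2, Cert.step [2, 0, 3, 0, 3, 1, 2, 1, 3, 3] (Cert.fail)),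
  (1, Cert.step [3, 0, 4, 2, 2, 0, 3, 0, 3, 1, 2, 2, 4, 2, 2] (Cert.fail)),
  (2, Cert.fail),
  (1, Cert.step [2, 0, 2, 2, 0, 3, 3, 3, 1, 1] (Cert.fail)),
  (1, Cert.step [0, 2, 2, 0, 2, 2, 1, 3, 1, 3] (Cert.fail)),
  (1, Cert.fail),
  (1, Cert.step [3, 0, 4, 2, 2, 0, 3, 0, 3, 1, 2, 2, 4, 2, 2] (Cert.fail)),
  (1, Cert.step [2, 0, 2, 2, 0, 3, 3, 3, 1, 1] (Cert.fail)),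
  (1, Cert.step [0, 2, 2, 0, 2, 2, 1, 3, 1, 3] (Cert.fail)),
  (1, Cert.fail),
  (2, Cert.step [0, 2, 2, 2, 0, 3, 1, 3, 1, 3] (Cert.step [4, 2, 2, 2, 4, 3, 3, 0, 2, 4, 3, 3, 1, 2, 4, 1, 2, 2] (Cert.fail))),
  (2, Cert.step [2, 0, 4, 3, 3, 0, 2, 2, 1, 3, 3, 4, 3, 1] (Cert.fail)),
  (2, Cert.step [2, 0, 2, 2, 1, 2] (Cert.fail)),
  (2, Cert.step [0, 3, 0, 3, 3, 1, 2, 1, 2] (Cert.fail)),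
  (2, Cert.step [0, 2, 1] (Cert.step [3, 0, 3, 3, 0, 2, 2, 0, 2, 2, 1, 2, 2, 0, 3, 1, 3, 1, 3, 1] (Cert.fail))),
  (2, Cert.fail),
  (2, Cert.step [0, 0, 2, 1, 2, 1, 3] (Cert.step [2, 2, 0, 3, 1, 3, 3, 3, 1, 3, 3, 3, 1, 2, 1, 2, 1] (Cert.fail))),
  (2, Cert.step [3, 0, 3, 0, 3, 1, 2, 1, 2] (Cert.fail)),
  (2, Cert.step [0, 2, 2, 2, 0, 3, 1, 3, 3, 1] (Cert.fail)),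
  (2, Cert.step [0, 0, 3, 3, 1, 2, 2, 1, 3] (Cert.fail)),
  (1, Cert.step [0, 3, 0, 2, 2, 1, 1] (Cert.step [2, 0, 2, 1, 2, 2, 0, 2, 1, 3, 3] (Cert.step [3, 3, 0, 2, 2, 0, 3, 0, 3, 3, 1, 2, 2, 0, 3, 3, 1, 3, 1, 2, 2, 1, 3] (Cert.done [3, 3, 0, 2, 2, 0, 3, 0, 3, 3, 1, 2, 2, 0, 3, 3, 1, 3, 1, 2, 2, 2, 1, 2, 2, 0, 2, 1, 3, 3, 0, 3, 0, 2, 2, 1, 4, 2, 4, 2, 4, 2, 4, 3, 3, 0, 5, 4, 3, 3, 0, 3, 4, 3, 6, 4, 2, 5, 4, 2, 4, 6])))),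
  (1, Cert.step [0, 3, 0, 2, 2, 1, 1] (Cert.step [2, 0, 2, 1, 2, 2, 0, 2, 1, 3, 3] (Cert.step [3, 3, 0, 2, 2, 0, 3, 0, 3, 3, 1, 2, 2, 0, 3, 3, 1, 3, 1, 2, 2, 1, 3] (Cert.done [3, 3, 0, 2, 2, 0, 3, 0, 3, 3, 1, 2, 2, 0, 3, 3, 1, 3, 1, 2, 2, 2, 1, 2, 2, 0, 2, 1, 3, 3, 0, 3, 0, 2, 2, 1, 4, 2, 4, 2, 4, 2, 4, 3, 3, 1, 5, 4, 3, 3, 0, 3, 4, 3, 6, 4, 2, 5, 4, 2, 4, 6])))),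
  (2, Cert.step [0, 2, 0, 2, 1, 2, 2, 1] (Cert.fail))]

end Cfsg.Agent.Lib.Helper2.HNOutD
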