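import Cfsg.Agent.Lib.Helper6.Mult.PM1
import Cfsg.Agent.Lib.Helper2.HNA.WP

set_option autoImplicit false
set_option maxRecDepth 100000

/-! # The presented Harada–Norton group acting on 1539000 points, as a model -/

namespace Cfsg.Agent.Lib.Helper2.HNM

open Cfsg.Spor Cfsg.Agent.Lib.Helper6 Cfsg.Agent.Lib.Helper6.TC Cfsg.Agent.Lib.Helper6.TCP
open Cfsg.Agent.Lib.Helper6.PM Cfsg.Agent.Lib.Helper2.HNS Cfsg.Agent.Lib.Helper2.HNA

instance finite_HN : Finite HNG := finite_HNG

theorem card_HN : Nat.card HNG = 273030912000000 := card_HNG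

theorem closure_letters : Subgroup.closure {g : HNG | ∃ c < 7, g = ev7 [c]} = ⊤ := by
  rw [eq_top_iff, ← PresentedGroup.closure_range_of]
  apply Subgroup.closure_mono
  rintro _ ⟨i, rfl⟩
  have e : ∀ c : ℕ, ev7 [c] = PresentedGroup.mk HN.Rels (ceOf HN.gc c) := by
    intro c
    unfold ev7
    rw [wordElt_cons, wordElt_nil, mul_one]
  cases i with
  | x => exact ⟨0, by norm_num, by rw [e, HN.ce0]; rfl⟩
  | y => exact ⟨2, by norm_num, by rw [e, HN.ce2]; rfl⟩
  | z => exact ⟨4, by norm_num, by rw [e, HN.ce4]; rfl⟩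
  | t => exact ⟨5, by norm_num, by rw [e, HN.ce5]; rfl⟩

set_option Elab.async false in
theorem t_moves : wapp HNBig.px [5] 0 ≠ 0 := by decide +kernel

theorem phiB_injective : Function.Injective phiB := by
  have := simple_HNG
  rw [← MonoidHom.ker_eq_bot_iff]
  rcases phiB.normal_ker.eq_bot_or_eq_top with h | h
  · exact h
  · exfalso
    have h1 : ev7 [5] ∈ phiB.ker := by rw [h]; trivial
    rw [MonoidHom.mem_ker] at h1
    have h2 := phiB_act [5] (by decide) ⟨0, HNBig.hP.Npos⟩
    have h3 : W7.ev [5] = ev7 [5] := rfl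
    rw [h3, h1, inv_one] at h2
    exact t_moves h2.symm

/-- the model of the group -/
noncomputable def hnModel : PModel where
  G := HNG
  n := 1539000
  nz := ⟨by norm_num⟩
  nl := 7
  px := HNBig.px
  elt := ev7
  phi := phiB
  elt_nil := ev7_nil
  elt_append := ev7_append
  px_lt := fun c hc q hq => HNBig.hP.hlt c hc q hq
  phi_inv_val := phiB_act
  phi_injective := phiB_injective
  closure_letters := closure_letters

/-- the action on the points is transitive -/
theorem transitive : MulAction.IsPretransitive hnModel.G (Fin hnModel.n) := by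
  constructor
  intro x y
  obtain ⟨g1, hg1⟩ := phiB_trans x
  obtain ⟨g2, hg2⟩ := phiB_trans y
  refine ⟨g2 * g1⁻¹, ?_⟩
  show phiB (g2 * g1⁻¹) x = y
  have h3 : (phiB g1)⁻¹ x = ⟨0, HNBig.hP.Npos⟩ := Equiv.Perm.inv_eq_iff_eq.mpr hg1.symm
  rw [map_mul, map_inv]
  have h4 : (phiB g2 * (phiB g1)⁻¹) x = phiB g2 ((phiB g1)⁻¹ x) := rfl
  rw [h4, h3, hg2]

end Cfsg.Agent.Lib.Helper2.HNM
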