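import Cfsg.Agent.Lib.Helper2.HNOut.DA
import Cfsg.Agent.Lib.Helper2.HNOut.DB
import Cfsg.Agent.Lib.Helper2.RigidOut6
import Cfsg.Agent.Lib.Helper2.HNOut.Model

set_option autoImplicit false
set_option maxRecDepth 100000

/-! # The presented Harada–Norton group on 1539000 points: two verified chains of the stabilizer of a point -/

namespace Cfsg.Agent.Lib.Helper2.HNOut

open Cfsg.Agent.Lib.Helper6 Cfsg.Agent.Lib.Helper6.TC Cfsg.Agent.Lib.Helper6.TCP
open Cfsg.Agent.Lib.Helper6.PM Cfsg.Agent.Lib.Helper2.PMS Cfsg.Agent.Lib.Helper2.PMC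
open Cfsg.Agent.Lib.Helper2.HNOutD Cfsg.Agent.Lib.Helper2.RigidOut

/-- the model -/
noncomputable abbrev M : PModel := Cfsg.Agent.Lib.Helper2.HNM.hnModel

instance finite_G : Finite M.G := Cfsg.Agent.Lib.Helper2.HNM.finite_HN

theorem card_G : Nat.card M.G = 273030912000000 := Cfsg.Agent.Lib.Helper2.HNM.card_HN

/-- the inverse letters -/
noncomputable def iv : ℕ → ℕ := invc HN.INV

theorem invMap : InvMap M iv :=
  fun c hc => ⟨HNBig.hP.hinv1 c hc, HNBig.hP.hpx c hc⟩

theorem card_stab0 : Nat.card (stabL M [0]) = 177408000 := by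
  have h := card_stabL_singleton (M := M) Cfsg.Agent.Lib.Helper2.HNM.transitive 0
  rw [card_G] at h
  have hn : M.n = 1539000 := rfl
  rw [hn] at h
  have h2 : (177408000 : ℕ) * 1539000 = 273030912000000 := by norm_num
  rw [← h2] at h
  exact Nat.eq_of_mul_eq_mul_right (by norm_num) h

set_option Elab.async false in
theorem chk_lvA : chkLevels M [0] lvA = true := by decide +kernel

theorem factsA : RelChainFacts M [0] lvA where
  hfix := by
    intro q hq
    rw [List.mem_singleton] at hq
    rw [hq]
    show 0 < 1539000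
    norm_num
  hchk := chk_lvA
  hcard := by
    rw [card_stab0]
    decide +kernel

set_option Elab.async false in
theorem chk_lvB : chkLevels M [0] lvB = true := by decide +kernel

theorem factsB : RelChainFacts M [0] lvB where
  hfix := factsA.hfix
  hchk := chk_lvB
  hcard := by
    rw [card_stab0]
    decide +kernel

end Cfsg.Agent.Lib.Helper2.HNOut
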