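import Cfsg.Agent.Lib.Helper2.HNOut.Out1

set_option autoImplicit false
set_option maxRecDepth 100000

/-! # The presented Harada–Norton group: three generators, their orders and relations -/

namespace Cfsg.Agent.Lib.Helper2.HNOut

open Cfsg.Agent.Lib.Helper6 Cfsg.Agent.Lib.Helper6.TC Cfsg.Agent.Lib.Helper6.TCP
open Cfsg.Agent.Lib.Helper6.PM Cfsg.Agent.Lib.Helper2.PMS Cfsg.Agent.Lib.Helper2.PMC
open Cfsg.Agent.Lib.Helper2.HNOutD Cfsg.Agent.Lib.Helper2.RigidOut

set_option Elab.async false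

/-- the element of order 11 -/
noncomputable def gp : M.G := M.elt wp
/-- the element of order 10 -/
noncomputable def gh : M.G := M.elt wh
/-- the third generator -/
noncomputable def gv : M.G := M.elt wv
/-- the central involution of the stabilizer of the point 0 -/
noncomputable def gz : M.G := M.elt [0, 0]

theorem lt_wp : ∀ c ∈ wp, c < M.nl := by decide
theorem lt_wh : ∀ c ∈ wh, c < M.nl := by decide
theorem lt_wv : ∀ c ∈ wv, c < M.nl := by decide
theorem lt_wc : ∀ c ∈ wc, c < M.nl := by decide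
theorem lt_wz : ∀ c ∈ [0, 0], c < M.nl := by decide

theorem gp_pow (k : ℕ) : gp ^ k = M.elt (rep k wp) := (elt_rep M k wp).symm
theorem gh_pow (k : ℕ) : gh ^ k = M.elt (rep k wh) := (elt_rep M k wh).symm

theorem gp_inv : gp⁻¹ = M.elt (invw iv wp) := (elt_invw M iv invMap wp lt_wp).symm
theorem gh_inv : gh⁻¹ = M.elt (invw iv wh) := (elt_invw M iv invMap wh lt_wh).symm
theorem gv_inv : gv⁻¹ = M.elt (invw iv wv) := (elt_invw M iv invMap wv lt_wv).symm

theorem chk_pq : chkBaseR M [0] lvA (rep 11 wp) [] = true := by decide +kernel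
theorem chk_p1 : chkNeAt M wp [] 1 = true := by decide +kernel

theorem gp_ne : gp ≠ 1 := by
  have := elt_ne_of_chkNeAt (M := M) _ _ _ chk_p1
  rwa [M.elt_nil] at this

theorem orderOf_gp : orderOf gp = 11 := by
  have : Fact (Nat.Prime 11) := ⟨by norm_num⟩
  apply orderOf_eq_prime
  · rw [gp_pow, ← M.elt_nil]
    exact factsA.elt_eq_of_chk _ _ chk_pq
  · exact gp_ne

theorem chk_he : chkBaseR M [0] lvA (rep 10 wh) [] = true := by decide +kernel
theorem chk_h_5 : chkNeAt M (rep 5 wh) [] 1 = true := by decide +kernel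
theorem chk_h_2 : chkNeAt M (rep 2 wh) [] 1 = true := by decide +kernel

theorem gh_pow_e : gh ^ 10 = 1 := by
  rw [gh_pow, ← M.elt_nil]
  exact factsA.elt_eq_of_chk _ _ chk_he

theorem gh_pow_5 : gh ^ 5 ≠ 1 := by
  intro hc
  rw [gh_pow] at hc
  have := elt_ne_of_chkNeAt (M := M) _ _ _ chk_h_5
  rw [M.elt_nil] at this
  exact this hc

theorem gh_pow_2 : gh ^ 2 ≠ 1 := by
  intro hc
  rw [gh_pow] at hc
  have := elt_ne_of_chkNeAt (M := M) _ _ _ chk_h_2
  rw [M.elt_nil] at this
  exact this hc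

theorem orderOf_gh : orderOf gh = 10 := by
  apply orderOf_eq_of_pow_and_pow_div_prime (by norm_num) gh_pow_e
  intro f hf hfe
  have hle : f ≤ 10 := Nat.le_of_dvd (by norm_num) hfe
  have h2 : 2 ≤ f := hf.two_le
  interval_cases f
  · exact gh_pow_5
  · exact absurd hfe (by norm_num)
  · exact absurd hf (by norm_num)
  · exact gh_pow_2
  · exact absurd hf (by norm_num)
  · exact absurd hfe (by norm_num)
  · exact absurd hf (by norm_num)
  · exact absurd hf (by norm_num)
  · exact absurd hf (by norm_num)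

theorem chk_ph : chkBaseR M [0] lvA (invw iv wh ++ wp ++ wh) (rep 2 wp) = true := by decide +kernel

theorem rel_ph : gh⁻¹ * gp * gh = gp ^ 2 := by
  rw [gh_inv, gp_pow]
  unfold gp gh
  rw [← M.elt_append, ← M.elt_append]
  exact factsA.elt_eq_of_chk _ _ chk_ph

theorem chk_vh : chkBaseR M [0] lvA (invw iv wv ++ wh ++ wv) wh = true := by decide +kernel

theorem rel_vh : gv⁻¹ * gh * gv = gh := by
  rw [gv_inv]
  unfold gv gh
  rw [← M.elt_append, ← M.elt_append]
  exact factsA.elt_eq_of_chk _ _ chk_vh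

theorem chk_zz : chkBaseR M [0] lvA ([0, 0] ++ [0, 0]) [] = true := by decide +kernel

theorem gz_sq : gz * gz = 1 := by
  unfold gz
  rw [← M.elt_append, ← M.elt_nil]
  exact factsA.elt_eq_of_chk _ _ chk_zz

theorem chk_z1 : chkNeAt M [0, 0] [] 1 = true := by decide +kernel

theorem gz_ne : gz ≠ 1 := by
  have := elt_ne_of_chkNeAt (M := M) _ _ _ chk_z1
  rwa [M.elt_nil] at this

theorem chk_zp : chkBaseR M [0] lvA ([0, 0] ++ wp) (wp ++ [0, 0]) = true := by decide +kernel

theorem gz_gp : gz * gp = gp * gz := by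
  unfold gz gp
  rw [← M.elt_append, ← M.elt_append]
  exact factsA.elt_eq_of_chk _ _ chk_zp

theorem chk_zh : chkBaseR M [0] lvA ([0, 0] ++ wh) (wh ++ [0, 0]) = true := by decide +kernel

theorem gz_gh : gz * gh = gh * gz := by
  unfold gz gh
  rw [← M.elt_append, ← M.elt_append]
  exact factsA.elt_eq_of_chk _ _ chk_zh

theorem gz_inv : gz⁻¹ = gz := inv_eq_of_mul_eq_one_right gz_sq

theorem fix0_wp : wapp M.px wp 0 = 0 := by
  have : wappS M.px wp 0 = 0 := by decide +kernel
  rwa [wappS_eq] at this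

theorem fix0_wh : wapp M.px wh 0 = 0 := by
  have : wappS M.px wh 0 = 0 := by decide +kernel
  rwa [wappS_eq] at this

end Cfsg.Agent.Lib.Helper2.HNOut
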