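import Cfsg.Agent.Lib.Helper2.HNOut.Out2

set_option autoImplicit false
set_option maxRecDepth 100000

/-! # The presented Harada–Norton group: the element of order 11 fixes one point only, part 1 -/

namespace Cfsg.Agent.Lib.Helper2.HNOut

open Cfsg.Agent.Lib.Helper6 Cfsg.Agent.Lib.Helper6.TC Cfsg.Agent.Lib.Helper6.TCP
open Cfsg.Agent.Lib.Helper6.PM Cfsg.Agent.Lib.Helper2.PMS Cfsg.Agent.Lib.Helper2.PMC
open Cfsg.Agent.Lib.Helper2.HNOutD Cfsg.Agent.Lib.Helper2.RigidOut

set_option Elab.async false

theorem fixP_1_0 : chkFixRange M wp [0] 140000 14000 = true := by decide +kernel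

theorem fixP_1_1 : chkFixRange M wp [0] 154000 14000 = true := by decide +kernel

theorem fixP_1_2 : chkFixRange M wp [0] 168000 14000 = true := by decide +kernel

theorem fixP_1_3 : chkFixRange M wp [0] 182000 14000 = true := by decide +kernel

theorem fixP_1_4 : chkFixRange M wp [0] 196000 14000 = true := by decide +kernel

theorem fixP_1_5 : chkFixRange M wp [0] 210000 14000 = true := by decide +kernel

theorem fixP_1_6 : chkFixRange M wp [0] 224000 14000 = true := by decide +kernel

theorem fixP_1_7 : chkFixRange M wp [0] 238000 14000 = true := by decide +kernel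

theorem fixP_1_8 : chkFixRange M wp [0] 252000 14000 = true := by decide +kernel

theorem fixP_1_9 : chkFixRange M wp [0] 266000 14000 = true := by decide +kernel

/-- the ranges of the scan, part 1 -/
def rsP_1 : List (ℕ × ℕ) := [(140000, 14000), (154000, 14000), (168000, 14000), (182000, 14000), (196000, 14000), (210000, 14000), (224000, 14000), (238000, 14000), (252000, 14000), (266000, 14000)]

theorem fixP_file_1 : ∀ r ∈ rsP_1, chkFixRange M wp [0] r.1 r.2 = true := by
  intro r hr
  simp only [rsP_1, List.mem_cons, List.not_mem_nil, or_false] at hr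
  rcases hr with rfl | rfl | rfl | rfl | rfl | rfl | rfl | rfl | rfl | rfl
  · exact fixP_1_0
  · exact fixP_1_1
  · exact fixP_1_2
  · exact fixP_1_3
  · exact fixP_1_4
  · exact fixP_1_5
  · exact fixP_1_6
  · exact fixP_1_7
  · exact fixP_1_8
  · exact fixP_1_9

end Cfsg.Agent.Lib.Helper2.HNOut
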