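import Cfsg.Agent.Lib.Helper2.HNOut.Out2

set_option autoImplicit false
set_option maxRecDepth 100000

/-! # The presented Harada–Norton group: the element of order 11 fixes one point only, part 2 -/

namespace Cfsg.Agent.Lib.Helper2.HNOut

open Cfsg.Agent.Lib.Helper6 Cfsg.Agent.Lib.Helper6.TC Cfsg.Agent.Lib.Helper6.TCP
open Cfsg.Agent.Lib.Helper6.PM Cfsg.Agent.Lib.Helper2.PMS Cfsg.Agent.Lib.Helper2.PMC
open Cfsg.Agent.Lib.Helper2.HNOutD Cfsg.Agent.Lib.Helper2.RigidOut

set_option Elab.async false

theorem fixP_2_0 : chkFixRange M wp [0] 280000 14000 = true := by decide +kernel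

theorem fixP_2_1 : chkFixRange M wp [0] 294000 14000 = true := by decide +kernel

theorem fixP_2_2 : chkFixRange M wp [0] 308000 14000 = true := by decide +kernel

theorem fixP_2_3 : chkFixRange M wp [0] 322000 14000 = true := by decide +kernel

theorem fixP_2_4 : chkFixRange M wp [0] 336000 14000 = true := by decide +kernel

theorem fixP_2_5 : chkFixRange M wp [0] 350000 14000 = true := by decide +kernel

theorem fixP_2_6 : chkFixRange M wp [0] 364000 14000 = true := by decide +kernel

theorem fixP_2_7 : chkFixRange M wp [0] 378000 14000 = true := by decide +kernel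

theorem fixP_2_8 : chkFixRange M wp [0] 392000 14000 = true := by decide +kernel

theorem fixP_2_9 : chkFixRange M wp [0] 406000 14000 = true := by decide +kernel

/-- the ranges of the scan, part 2 -/
def rsP_2 : List (ℕ × ℕ) := [(280000, 14000), (294000, 14000), (308000, 14000), (322000, 14000), (336000, 14000), (350000, 14000), (364000, 14000), (378000, 14000), (392000, 14000), (406000, 14000)]

theorem fixP_file_2 : ∀ r ∈ rsP_2, chkFixRange M wp [0] r.1 r.2 = true := by
  intro r hr
  simp only [rsP_2, List.mem_cons, List.not_mem_nil, or_false] at hr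
  rcases hr with rfl | rfl | rfl | rfl | rfl | rfl | rfl | rfl | rfl | rfl
  · exact fixP_2_0
  · exact fixP_2_1
  · exact fixP_2_2
  · exact fixP_2_3
  · exact fixP_2_4
  · exact fixP_2_5
  · exact fixP_2_6
  · exact fixP_2_7
  · exact fixP_2_8
  · exact fixP_2_9

end Cfsg.Agent.Lib.Helper2.HNOut
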