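import Cfsg.Agent.Lib.Helper2.HNOut.Out2

set_option autoImplicit false
set_option maxRecDepth 100000

/-! # The presented Harada–Norton group: the element of order 11 fixes one point only, part 3 -/

namespace Cfsg.Agent.Lib.Helper2.HNOut

open Cfsg.Agent.Lib.Helper6 Cfsg.Agent.Lib.Helper6.TC Cfsg.Agent.Lib.Helper6.TCP
open Cfsg.Agent.Lib.Helper6.PM Cfsg.Agent.Lib.Helper2.PMS Cfsg.Agent.Lib.Helper2.PMC
open Cfsg.Agent.Lib.Helper2.HNOutD Cfsg.Agent.Lib.Helper2.RigidOut

set_option Elab.async false

theorem fixP_3_0 : chkFixRange M wp [0] 420000 14000 = true := by decide +kernel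

theorem fixP_3_1 : chkFixRange M wp [0] 434000 14000 = true := by decide +kernel

theorem fixP_3_2 : chkFixRange M wp [0] 448000 14000 = true := by decide +kernel

theorem fixP_3_3 : chkFixRange M wp [0] 462000 14000 = true := by decide +kernel

theorem fixP_3_4 : chkFixRange M wp [0] 476000 14000 = true := by decide +kernel

theorem fixP_3_5 : chkFixRange M wp [0] 490000 14000 = true := by decide +kernel

theorem fixP_3_6 : chkFixRange M wp [0] 504000 14000 = true := by decide +kernel

theorem fixP_3_7 : chkFixRange M wp [0] 518000 14000 = true := by decide +kernel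

theorem fixP_3_8 : chkFixRange M wp [0] 532000 14000 = true := by decide +kernel

theorem fixP_3_9 : chkFixRange M wp [0] 546000 14000 = true := by decide +kernel

/-- the ranges of the scan, part 3 -/
def rsP_3 : List (ℕ × ℕ) := [(420000, 14000), (434000, 14000), (448000, 14000), (462000, 14000), (476000, 14000), (490000, 14000), (504000, 14000), (518000, 14000), (532000, 14000), (546000, 14000)]

theorem fixP_file_3 : ∀ r ∈ rsP_3, chkFixRange M wp [0] r.1 r.2 = true := by
  intro r hr
  simp only [rsP_3, List.mem_cons, List.not_mem_nil, or_false] at hr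
  rcases hr with rfl | rfl | rfl | rfl | rfl | rfl | rfl | rfl | rfl | rfl
  · exact fixP_3_0
  · exact fixP_3_1
  · exact fixP_3_2
  · exact fixP_3_3
  · exact fixP_3_4
  · exact fixP_3_5
  · exact fixP_3_6
  · exact fixP_3_7
  · exact fixP_3_8
  · exact fixP_3_9

end Cfsg.Agent.Lib.Helper2.HNOut
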