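import Cfsg.Agent.Lib.Helper2.HNOut.Out2

set_option autoImplicit false
set_option maxRecDepth 100000

/-! # The presented Harada–Norton group: the element of order 11 fixes one point only, part 4 -/

namespace Cfsg.Agent.Lib.Helper2.HNOut

open Cfsg.Agent.Lib.Helper6 Cfsg.Agent.Lib.Helper6.TC Cfsg.Agent.Lib.Helper6.TCP
open Cfsg.Agent.Lib.Helper6.PM Cfsg.Agent.Lib.Helper2.PMS Cfsg.Agent.Lib.Helper2.PMC
open Cfsg.Agent.Lib.Helper2.HNOutD Cfsg.Agent.Lib.Helper2.RigidOut

set_option Elab.async false

theorem fixP_4_0 : chkFixRange M wp [0] 560000 14000 = true := by decide +kernel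

theorem fixP_4_1 : chkFixRange M wp [0] 574000 14000 = true := by decide +kernel

theorem fixP_4_2 : chkFixRange M wp [0] 588000 14000 = true := by decide +kernel

theorem fixP_4_3 : chkFixRange M wp [0] 602000 14000 = true := by decide +kernel

theorem fixP_4_4 : chkFixRange M wp [0] 616000 14000 = true := by decide +kernel

theorem fixP_4_5 : chkFixRange M wp [0] 630000 14000 = true := by decide +kernel

theorem fixP_4_6 : chkFixRange M wp [0] 644000 14000 = true := by decide +kernel

theorem fixP_4_7 : chkFixRange M wp [0] 658000 14000 = true := by decide +kernel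

theorem fixP_4_8 : chkFixRange M wp [0] 672000 14000 = true := by decide +kernel

theorem fixP_4_9 : chkFixRange M wp [0] 686000 14000 = true := by decide +kernel

/-- the ranges of the scan, part 4 -/
def rsP_4 : List (ℕ × ℕ) := [(560000, 14000), (574000, 14000), (588000, 14000), (602000, 14000), (616000, 14000), (630000, 14000), (644000, 14000), (658000, 14000), (672000, 14000), (686000, 14000)]

theorem fixP_file_4 : ∀ r ∈ rsP_4, chkFixRange M wp [0] r.1 r.2 = true := by
  intro r hr
  simp only [rsP_4, List.mem_cons, List.not_mem_nil, or_false] at hr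
  rcases hr with rfl | rfl | rfl | rfl | rfl | rfl | rfl | rfl | rfl | rfl
  · exact fixP_4_0
  · exact fixP_4_1
  · exact fixP_4_2
  · exact fixP_4_3
  · exact fixP_4_4
  · exact fixP_4_5
  · exact fixP_4_6
  · exact fixP_4_7
  · exact fixP_4_8
  · exact fixP_4_9

end Cfsg.Agent.Lib.Helper2.HNOut
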