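import Cfsg.Agent.Lib.Helper2.HNOut.Out2

set_option autoImplicit false
set_option maxRecDepth 100000

/-! # The presented Harada–Norton group: the element of order 11 fixes one point only, part 5 -/

namespace Cfsg.Agent.Lib.Helper2.HNOut

open Cfsg.Agent.Lib.Helper6 Cfsg.Agent.Lib.Helper6.TC Cfsg.Agent.Lib.Helper6.TCP
open Cfsg.Agent.Lib.Helper6.PM Cfsg.Agent.Lib.Helper2.PMS Cfsg.Agent.Lib.Helper2.PMC
open Cfsg.Agent.Lib.Helper2.HNOutD Cfsg.Agent.Lib.Helper2.RigidOut

set_option Elab.async false

theorem fixP_5_0 : chkFixRange M wp [0] 700000 14000 = true := by decide +kernel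

theorem fixP_5_1 : chkFixRange M wp [0] 714000 14000 = true := by decide +kernel

theorem fixP_5_2 : chkFixRange M wp [0] 728000 14000 = true := by decide +kernel

theorem fixP_5_3 : chkFixRange M wp [0] 742000 14000 = true := by decide +kernel

theorem fixP_5_4 : chkFixRange M wp [0] 756000 14000 = true := by decide +kernel

theorem fixP_5_5 : chkFixRange M wp [0] 770000 14000 = true := by decide +kernel

theorem fixP_5_6 : chkFixRange M wp [0] 784000 14000 = true := by decide +kernel

theorem fixP_5_7 : chkFixRange M wp [0] 798000 14000 = true := by decide +kernel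

theorem fixP_5_8 : chkFixRange M wp [0] 812000 14000 = true := by decide +kernel

theorem fixP_5_9 : chkFixRange M wp [0] 826000 14000 = true := by decide +kernel

/-- the ranges of the scan, part 5 -/
def rsP_5 : List (ℕ × ℕ) := [(700000, 14000), (714000, 14000), (728000, 14000), (742000, 14000), (756000, 14000), (770000, 14000), (784000, 14000), (798000, 14000), (812000, 14000), (826000, 14000)]

theorem fixP_file_5 : ∀ r ∈ rsP_5, chkFixRange M wp [0] r.1 r.2 = true := by
  intro r hr
  simp only [rsP_5, List.mem_cons, List.not_mem_nil, or_false] at hr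
  rcases hr with rfl | rfl | rfl | rfl | rfl | rfl | rfl | rfl | rfl | rfl
  · exact fixP_5_0
  · exact fixP_5_1
  · exact fixP_5_2
  · exact fixP_5_3
  · exact fixP_5_4
  · exact fixP_5_5
  · exact fixP_5_6
  · exact fixP_5_7
  · exact fixP_5_8
  · exact fixP_5_9

end Cfsg.Agent.Lib.Helper2.HNOut
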