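import Cfsg.Agent.Lib.Helper2.HNOut.Out2

set_option autoImplicit false
set_option maxRecDepth 100000

/-! # The presented Harada–Norton group: the element of order 11 fixes one point only, part 6 -/

namespace Cfsg.Agent.Lib.Helper2.HNOut

open Cfsg.Agent.Lib.Helper6 Cfsg.Agent.Lib.Helper6.TC Cfsg.Agent.Lib.Helper6.TCP
open Cfsg.Agent.Lib.Helper6.PM Cfsg.Agent.Lib.Helper2.PMS Cfsg.Agent.Lib.Helper2.PMC
open Cfsg.Agent.Lib.Helper2.HNOutD Cfsg.Agent.Lib.Helper2.RigidOut

set_option Elab.async false

theorem fixP_6_0 : chkFixRange M wp [0] 840000 14000 = true := by decide +kernel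

theorem fixP_6_1 : chkFixRange M wp [0] 854000 14000 = true := by decide +kernel

theorem fixP_6_2 : chkFixRange M wp [0] 868000 14000 = true := by decide +kernel

theorem fixP_6_3 : chkFixRange M wp [0] 882000 14000 = true := by decide +kernel

theorem fixP_6_4 : chkFixRange M wp [0] 896000 14000 = true := by decide +kernel

theorem fixP_6_5 : chkFixRange M wp [0] 910000 14000 = true := by decide +kernel

theorem fixP_6_6 : chkFixRange M wp [0] 924000 14000 = true := by decide +kernel

theorem fixP_6_7 : chkFixRange M wp [0] 938000 14000 = true := by decide +kernel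

theorem fixP_6_8 : chkFixRange M wp [0] 952000 14000 = true := by decide +kernel

theorem fixP_6_9 : chkFixRange M wp [0] 966000 14000 = true := by decide +kernel

/-- the ranges of the scan, part 6 -/
def rsP_6 : List (ℕ × ℕ) := [(840000, 14000), (854000, 14000), (868000, 14000), (882000, 14000), (896000, 14000), (910000, 14000), (924000, 14000), (938000, 14000), (952000, 14000), (966000, 14000)]

theorem fixP_file_6 : ∀ r ∈ rsP_6, chkFixRange M wp [0] r.1 r.2 = true := by
  intro r hr
  simp only [rsP_6, List.mem_cons, List.not_mem_nil, or_false] at hr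
  rcases hr with rfl | rfl | rfl | rfl | rfl | rfl | rfl | rfl | rfl | rfl
  · exact fixP_6_0
  · exact fixP_6_1
  · exact fixP_6_2
  · exact fixP_6_3
  · exact fixP_6_4
  · exact fixP_6_5
  · exact fixP_6_6
  · exact fixP_6_7
  · exact fixP_6_8
  · exact fixP_6_9

end Cfsg.Agent.Lib.Helper2.HNOut
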