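import Cfsg.Agent.Lib.Helper2.HNOut.Out2

set_option autoImplicit false
set_option maxRecDepth 100000

/-! # The presented Harada–Norton group: the element of order 11 fixes one point only, part 7 -/

namespace Cfsg.Agent.Lib.Helper2.HNOut

open Cfsg.Agent.Lib.Helper6 Cfsg.Agent.Lib.Helper6.TC Cfsg.Agent.Lib.Helper6.TCP
open Cfsg.Agent.Lib.Helper6.PM Cfsg.Agent.Lib.Helper2.PMS Cfsg.Agent.Lib.Helper2.PMC
open Cfsg.Agent.Lib.Helper2.HNOutD Cfsg.Agent.Lib.Helper2.RigidOut

set_option Elab.async false

theorem fixP_7_0 : chkFixRange M wp [0] 980000 14000 = true := by decide +kernel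

theorem fixP_7_1 : chkFixRange M wp [0] 994000 14000 = true := by decide +kernel

theorem fixP_7_2 : chkFixRange M wp [0] 1008000 14000 = true := by decide +kernel

theorem fixP_7_3 : chkFixRange M wp [0] 1022000 14000 = true := by decide +kernel

theorem fixP_7_4 : chkFixRange M wp [0] 1036000 14000 = true := by decide +kernel

theorem fixP_7_5 : chkFixRange M wp [0] 1050000 14000 = true := by decide +kernel

theorem fixP_7_6 : chkFixRange M wp [0] 1064000 14000 = true := by decide +kernel

theorem fixP_7_7 : chkFixRange M wp [0] 1078000 14000 = true := by decide +kernel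

theorem fixP_7_8 : chkFixRange M wp [0] 1092000 14000 = true := by decide +kernel

theorem fixP_7_9 : chkFixRange M wp [0] 1106000 14000 = true := by decide +kernel

/-- the ranges of the scan, part 7 -/
def rsP_7 : List (ℕ × ℕ) := [(980000, 14000), (994000, 14000), (1008000, 14000), (1022000, 14000), (1036000, 14000), (1050000, 14000), (1064000, 14000), (1078000, 14000), (1092000, 14000), (1106000, 14000)]

theorem fixP_file_7 : ∀ r ∈ rsP_7, chkFixRange M wp [0] r.1 r.2 = true := by
  intro r hr
  simp only [rsP_7, List.mem_cons, List.not_mem_nil, or_false] at hr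
  rcases hr with rfl | rfl | rfl | rfl | rfl | rfl | rfl | rfl | rfl | rfl
  · exact fixP_7_0
  · exact fixP_7_1
  · exact fixP_7_2
  · exact fixP_7_3
  · exact fixP_7_4
  · exact fixP_7_5
  · exact fixP_7_6
  · exact fixP_7_7
  · exact fixP_7_8
  · exact fixP_7_9

end Cfsg.Agent.Lib.Helper2.HNOut
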