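import Cfsg.Agent.Lib.Helper2.HNOut.Out2

set_option autoImplicit false
set_option maxRecDepth 100000

/-! # The presented Harada–Norton group: the element of order 11 fixes one point only, part 8 -/

namespace Cfsg.Agent.Lib.Helper2.HNOut

open Cfsg.Agent.Lib.Helper6 Cfsg.Agent.Lib.Helper6.TC Cfsg.Agent.Lib.Helper6.TCP
open Cfsg.Agent.Lib.Helper6.PM Cfsg.Agent.Lib.Helper2.PMS Cfsg.Agent.Lib.Helper2.PMC
open Cfsg.Agent.Lib.Helper2.HNOutD Cfsg.Agent.Lib.Helper2.RigidOut

set_option Elab.async false

theorem fixP_8_0 : chkFixRange M wp [0] 1120000 14000 = true := by decide +kernel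

theorem fixP_8_1 : chkFixRange M wp [0] 1134000 14000 = true := by decide +kernel

theorem fixP_8_2 : chkFixRange M wp [0] 1148000 14000 = true := by decide +kernel

theorem fixP_8_3 : chkFixRange M wp [0] 1162000 14000 = true := by decide +kernel

theorem fixP_8_4 : chkFixRange M wp [0] 1176000 14000 = true := by decide +kernel

theorem fixP_8_5 : chkFixRange M wp [0] 1190000 14000 = true := by decide +kernel

theorem fixP_8_6 : chkFixRange M wp [0] 1204000 14000 = true := by decide +kernel

theorem fixP_8_7 : chkFixRange M wp [0] 1218000 14000 = true := by decide +kernel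

theorem fixP_8_8 : chkFixRange M wp [0] 1232000 14000 = true := by decide +kernel

theorem fixP_8_9 : chkFixRange M wp [0] 1246000 14000 = true := by decide +kernel

/-- the ranges of the scan, part 8 -/
def rsP_8 : List (ℕ × ℕ) := [(1120000, 14000), (1134000, 14000), (1148000, 14000), (1162000, 14000), (1176000, 14000), (1190000, 14000), (1204000, 14000), (1218000, 14000), (1232000, 14000), (1246000, 14000)]

theorem fixP_file_8 : ∀ r ∈ rsP_8, chkFixRange M wp [0] r.1 r.2 = true := by
  intro r hr
  simp only [rsP_8, List.mem_cons, List.not_mem_nil, or_false] at hr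
  rcases hr with rfl | rfl | rfl | rfl | rfl | rfl | rfl | rfl | rfl | rfl
  · exact fixP_8_0
  · exact fixP_8_1
  · exact fixP_8_2
  · exact fixP_8_3
  · exact fixP_8_4
  · exact fixP_8_5
  · exact fixP_8_6
  · exact fixP_8_7
  · exact fixP_8_8
  · exact fixP_8_9

end Cfsg.Agent.Lib.Helper2.HNOut
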