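import Cfsg.Agent.Lib.Helper2.HNOut.Out2

set_option autoImplicit false
set_option maxRecDepth 100000

/-! # The presented Harada–Norton group: the element of order 11 fixes one point only, part 9 -/

namespace Cfsg.Agent.Lib.Helper2.HNOut

open Cfsg.Agent.Lib.Helper6 Cfsg.Agent.Lib.Helper6.TC Cfsg.Agent.Lib.Helper6.TCP
open Cfsg.Agent.Lib.Helper6.PM Cfsg.Agent.Lib.Helper2.PMS Cfsg.Agent.Lib.Helper2.PMC
open Cfsg.Agent.Lib.Helper2.HNOutD Cfsg.Agent.Lib.Helper2.RigidOut

set_option Elab.async false

theorem fixP_9_0 : chkFixRange M wp [0] 1260000 14000 = true := by decide +kernel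

theorem fixP_9_1 : chkFixRange M wp [0] 1274000 14000 = true := by decide +kernel

theorem fixP_9_2 : chkFixRange M wp [0] 1288000 14000 = true := by decide +kernel

theorem fixP_9_3 : chkFixRange M wp [0] 1302000 14000 = true := by decide +kernel

theorem fixP_9_4 : chkFixRange M wp [0] 1316000 14000 = true := by decide +kernel

theorem fixP_9_5 : chkFixRange M wp [0] 1330000 14000 = true := by decide +kernel

theorem fixP_9_6 : chkFixRange M wp [0] 1344000 14000 = true := by decide +kernel

theorem fixP_9_7 : chkFixRange M wp [0] 1358000 14000 = true := by decide +kernel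

theorem fixP_9_8 : chkFixRange M wp [0] 1372000 14000 = true := by decide +kernel

theorem fixP_9_9 : chkFixRange M wp [0] 1386000 14000 = true := by decide +kernel

/-- the ranges of the scan, part 9 -/
def rsP_9 : List (ℕ × ℕ) := [(1260000, 14000), (1274000, 14000), (1288000, 14000), (1302000, 14000), (1316000, 14000), (1330000, 14000), (1344000, 14000), (1358000, 14000), (1372000, 14000), (1386000, 14000)]

theorem fixP_file_9 : ∀ r ∈ rsP_9, chkFixRange M wp [0] r.1 r.2 = true := by
  intro r hr
  simp only [rsP_9, List.mem_cons, List.not_mem_nil, or_false] at hr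
  rcases hr with rfl | rfl | rfl | rfl | rfl | rfl | rfl | rfl | rfl | rfl
  · exact fixP_9_0
  · exact fixP_9_1
  · exact fixP_9_2
  · exact fixP_9_3
  · exact fixP_9_4
  · exact fixP_9_5
  · exact fixP_9_6
  · exact fixP_9_7
  · exact fixP_9_8
  · exact fixP_9_9

end Cfsg.Agent.Lib.Helper2.HNOut
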