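import Cfsg.Agent.Lib.Helper2.HNOut.Out2F0
import Cfsg.Agent.Lib.Helper2.HNOut.Out2F1
import Cfsg.Agent.Lib.Helper2.HNOut.Out2F2
import Cfsg.Agent.Lib.Helper2.HNOut.Out2F3
import Cfsg.Agent.Lib.Helper2.HNOut.Out2F4
import Cfsg.Agent.Lib.Helper2.HNOut.Out2F5
import Cfsg.Agent.Lib.Helper2.HNOut.Out2F6
import Cfsg.Agent.Lib.Helper2.HNOut.Out2F7
import Cfsg.Agent.Lib.Helper2.HNOut.Out2F8
import Cfsg.Agent.Lib.Helper2.HNOut.Out2F9
import Cfsg.Agent.Lib.Helper2.HNOut.Out2F10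
import Cfsg.Agent.Lib.Helper2.PMChain10

set_option autoImplicit false
set_option maxRecDepth 100000

/-! # The presented Harada–Norton group: the element of order 11 fixes one point only -/

namespace Cfsg.Agent.Lib.Helper2.HNOut

open Cfsg.Agent.Lib.Helper6 Cfsg.Agent.Lib.Helper6.TC Cfsg.Agent.Lib.Helper6.TCP
open Cfsg.Agent.Lib.Helper6.PM Cfsg.Agent.Lib.Helper2.PMS Cfsg.Agent.Lib.Helper2.PMC
open Cfsg.Agent.Lib.Helper2.HNOutD Cfsg.Agent.Lib.Helper2.RigidOut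

set_option Elab.async false

/-- the ranges of the scan -/
def rsP : List (ℕ × ℕ) := rsP_0 ++ (rsP_1 ++ (rsP_2 ++ (rsP_3 ++ (rsP_4 ++ (rsP_5 ++ (rsP_6 ++ (rsP_7 ++ (rsP_8 ++ (rsP_9 ++ (rsP_10))))))))))

theorem fixP_append {a b : List (ℕ × ℕ)} (ha : ∀ r ∈ a, chkFixRange M wp [0] r.1 r.2 = true)
    (hb : ∀ r ∈ b, chkFixRange M wp [0] r.1 r.2 = true) :
    ∀ r ∈ a ++ b, chkFixRange M wp [0] r.1 r.2 = true := by
  intro r hr
  rcases List.mem_append.mp hr with h | h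
  · exact ha r h
  · exact hb r h

theorem fixP_all : ∀ r ∈ rsP, chkFixRange M wp [0] r.1 r.2 = true :=
  fixP_append fixP_file_0 (fixP_append fixP_file_1 (fixP_append fixP_file_2 (fixP_append fixP_file_3 (fixP_append fixP_file_4 (fixP_append fixP_file_5 (fixP_append fixP_file_6 (fixP_append fixP_file_7 (fixP_append fixP_file_8 (fixP_append fixP_file_9 fixP_file_10)))))))))

theorem fixP_cover : chkCoverR M.n 0 rsP = true := by decide

theorem fixP_spec : ∀ y < M.n, wapp M.px wp y = y → y ∈ [0] :=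
  forall_of_ranges (fun y => wapp M.px wp y = y → y ∈ [0]) M.n rsP
    (fun r hr => fixPts_of_range wp [0] r.1 r.2 (fixP_all r hr)) fixP_cover

end Cfsg.Agent.Lib.Helper2.HNOut
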