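import Cfsg.Agent.Lib.Helper2.HNOut.Out2Ca
import Cfsg.Agent.Lib.Helper2.HNOut.Out2F

set_option autoImplicit false
set_option maxRecDepth 100000

/-! # The presented Harada–Norton group: the normalizer of a Sylow 11-subgroup -/

namespace Cfsg.Agent.Lib.Helper2.HNOut

open Cfsg.Agent.Lib.Helper6 Cfsg.Agent.Lib.Helper6.TC Cfsg.Agent.Lib.Helper6.TCP
open Cfsg.Agent.Lib.Helper6.PM Cfsg.Agent.Lib.Helper2.PMS Cfsg.Agent.Lib.Helper2.PMC
open Cfsg.Agent.Lib.Helper2.HNOutD Cfsg.Agent.Lib.Helper2.RigidOut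

set_option Elab.async false

theorem centralizer_gp (g : M.G) (hg : g⁻¹ * gp * g = gp) : ∃ i δ : ℕ, g = gp ^ i * gz ^ δ := by
  obtain ⟨e, he, z, hz, hgz⟩ := factsA.search_fix iv invMap wp wp (by decide) (by decide) chk_srcA
    fix0_wp (FlOf certCp) fixP_spec chk_Fl_certCp g hg
  rw [mem_FlOf he] at hz
  have h1 := mem_of_leavesIn leaves_certCp z hz
  unfold leavesP at h1
  rw [List.mem_append, List.mem_map, List.mem_map] at h1
  rcases h1 with ⟨i, _, rfl⟩ | ⟨i, _, rfl⟩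
  · exact ⟨i, 0, by rw [hgz, gp_pow, pow_zero, mul_one]⟩
  · refine ⟨i, 1, ?_⟩
    rw [hgz, M.elt_append, gp_pow, pow_one]
    rfl

theorem hE : ∀ k < 11, 0 < k → ∃ j, 2 ^ j * k % 11 = 1 % 11 := by
  have h : ∀ k < 11, 0 < k → ∃ j < 10, 2 ^ j * k % 11 = 1 % 11 := by decide
  intro k hk hk0
  obtain ⟨j, _, e⟩ := h k hk hk0
  exact ⟨j, e⟩

theorem normalizer_gp : ∀ n : M.G, (∃ k : ℕ, n⁻¹ * gp * n = gp ^ k) →
    ∃ i j δ : ℕ, n = gp ^ i * gh ^ j * gz ^ δ :=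
  normalizer_of_centralizer_z 11 2 gp gh gz (by norm_num) orderOf_gp rel_ph hE gz_gh centralizer_gp

end Cfsg.Agent.Lib.Helper2.HNOut
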