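import Cfsg.Agent.Lib.Helper2.HNOut.Out2

set_option autoImplicit false
set_option maxRecDepth 100000

/-! # The presented Harada–Norton group: the element of order 11 fixes one point only, part 0 -/

namespace Cfsg.Agent.Lib.Helper2.HNOut

open Cfsg.Agent.Lib.Helper6 Cfsg.Agent.Lib.Helper6.TC Cfsg.Agent.Lib.Helper6.TCP
open Cfsg.Agent.Lib.Helper6.PM Cfsg.Agent.Lib.Helper2.PMS Cfsg.Agent.Lib.Helper2.PMC
open Cfsg.Agent.Lib.Helper2.HNOutD Cfsg.Agent.Lib.Helper2.RigidOut

set_option Elab.async false

theorem fixP_0_0 : chkFixRange M wp [0] 0 14000 = true := by decide +kernel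

theorem fixP_0_1 : chkFixRange M wp [0] 14000 14000 = true := by decide +kernel

theorem fixP_0_2 : chkFixRange M wp [0] 28000 14000 = true := by decide +kernel

theorem fixP_0_3 : chkFixRange M wp [0] 42000 14000 = true := by decide +kernel

theorem fixP_0_4 : chkFixRange M wp [0] 56000 14000 = true := by decide +kernel

theorem fixP_0_5 : chkFixRange M wp [0] 70000 14000 = true := by decide +kernel

theorem fixP_0_6 : chkFixRange M wp [0] 84000 14000 = true := by decide +kernel

theorem fixP_0_7 : chkFixRange M wp [0] 98000 14000 = true := by decide +kernel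

theorem fixP_0_8 : chkFixRange M wp [0] 112000 14000 = true := by decide +kernel

theorem fixP_0_9 : chkFixRange M wp [0] 126000 14000 = true := by decide +kernel

/-- the ranges of the scan, part 0 -/
def rsP_0 : List (ℕ × ℕ) := [(0, 14000), (14000, 14000), (28000, 14000), (42000, 14000), (56000, 14000), (70000, 14000), (84000, 14000), (98000, 14000), (112000, 14000), (126000, 14000)]

theorem fixP_file_0 : ∀ r ∈ rsP_0, chkFixRange M wp [0] r.1 r.2 = true := by
  intro r hr
  simp only [rsP_0, List.mem_cons, List.not_mem_nil, or_false] at hr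
  rcases hr with rfl | rfl | rfl | rfl | rfl | rfl | rfl | rfl | rfl | rfl
  · exact fixP_0_0
  · exact fixP_0_1
  · exact fixP_0_2
  · exact fixP_0_3
  · exact fixP_0_4
  · exact fixP_0_5
  · exact fixP_0_6
  · exact fixP_0_7
  · exact fixP_0_8
  · exact fixP_0_9

end Cfsg.Agent.Lib.Helper2.HNOut
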