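import Cfsg.Agent.Lib.Helper2.HNOut.Out2

set_option autoImplicit false
set_option maxRecDepth 100000

/-! # The presented Harada–Norton group: the element of order 11 fixes one point only, part 10 -/

namespace Cfsg.Agent.Lib.Helper2.HNOut

open Cfsg.Agent.Lib.Helper6 Cfsg.Agent.Lib.Helper6.TC Cfsg.Agent.Lib.Helper6.TCP
open Cfsg.Agent.Lib.Helper6.PM Cfsg.Agent.Lib.Helper2.PMS Cfsg.Agent.Lib.Helper2.PMC
open Cfsg.Agent.Lib.Helper2.HNOutD Cfsg.Agent.Lib.Helper2.RigidOut

set_option Elab.async false

theorem fixP_10_0 : chkFixRange M wp [0] 1400000 14000 = true := by decide +kernel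

theorem fixP_10_1 : chkFixRange M wp [0] 1414000 14000 = true := by decide +kernel

theorem fixP_10_2 : chkFixRange M wp [0] 1428000 14000 = true := by decide +kernel

theorem fixP_10_3 : chkFixRange M wp [0] 1442000 14000 = true := by decide +kernel

theorem fixP_10_4 : chkFixRange M wp [0] 1456000 14000 = true := by decide +kernel

theorem fixP_10_5 : chkFixRange M wp [0] 1470000 14000 = true := by decide +kernel

theorem fixP_10_6 : chkFixRange M wp [0] 1484000 14000 = true := by decide +kernel

theorem fixP_10_7 : chkFixRange M wp [0] 1498000 14000 = true := by decide +kernel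

theorem fixP_10_8 : chkFixRange M wp [0] 1512000 14000 = true := by decide +kernel

theorem fixP_10_9 : chkFixRange M wp [0] 1526000 13000 = true := by decide +kernel

/-- the ranges of the scan, part 10 -/
def rsP_10 : List (ℕ × ℕ) := [(1400000, 14000), (1414000, 14000), (1428000, 14000), (1442000, 14000), (1456000, 14000), (1470000, 14000), (1484000, 14000), (1498000, 14000), (1512000, 14000), (1526000, 13000)]

theorem fixP_file_10 : ∀ r ∈ rsP_10, chkFixRange M wp [0] r.1 r.2 = true := by
  intro r hr
  simp only [rsP_10, List.mem_cons, List.not_mem_nil, or_false] at hr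
  rcases hr with rfl | rfl | rfl | rfl | rfl | rfl | rfl | rfl | rfl | rfl
  · exact fixP_10_0
  · exact fixP_10_1
  · exact fixP_10_2
  · exact fixP_10_3
  · exact fixP_10_4
  · exact fixP_10_5
  · exact fixP_10_6
  · exact fixP_10_7
  · exact fixP_10_8
  · exact fixP_10_9

end Cfsg.Agent.Lib.Helper2.HNOut
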