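import Cfsg.Agent.Lib.Helper2.HNOut.Out2
import Cfsg.Agent.Lib.Helper2.HNOut.C4

set_option autoImplicit false
set_option maxRecDepth 100000

/-! # The presented Harada–Norton group: the search of the centralizer of the element of order 10, part c -/

namespace Cfsg.Agent.Lib.Helper2.HNOut

open Cfsg.Agent.Lib.Helper6 Cfsg.Agent.Lib.Helper6.TC Cfsg.Agent.Lib.Helper6.TCP
open Cfsg.Agent.Lib.Helper6.PM Cfsg.Agent.Lib.Helper2.PMS Cfsg.Agent.Lib.Helper2.PMC
open Cfsg.Agent.Lib.Helper2.HNOutD Cfsg.Agent.Lib.Helper2.RigidOut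

set_option Elab.async false

theorem chk_H2 : (chkW M (ufs.getD 2 []) && Nat.beq (wappS M.px (ufs.getD 2 []) 0) 525080 &&
    chk M iv wh wh certH2 lvB (pendOf lvB) [0] (ufs.getD 2 [])) = true := by decide +kernel

end Cfsg.Agent.Lib.Helper2.HNOut
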