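import Cfsg.Agent.Lib.Helper2.HNOut.Out3F
import Cfsg.Agent.Lib.Helper2.HNOut.C1
import Cfsg.Agent.Lib.Helper2.HNOut.Out3a
import Cfsg.Agent.Lib.Helper2.HNOut.Out3b
import Cfsg.Agent.Lib.Helper2.HNOut.Out3c
import Cfsg.Agent.Lib.Helper2.HNOut.Out3d
import Cfsg.Agent.Lib.Helper2.HNOut.Out3e

set_option autoImplicit false
set_option maxRecDepth 100000

/-! # The presented Harada–Norton group: the centralizer of the element of order 10 -/

namespace Cfsg.Agent.Lib.Helper2.HNOut

open Cfsg.Agent.Lib.Helper6 Cfsg.Agent.Lib.Helper6.TC Cfsg.Agent.Lib.Helper6.TCP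
open Cfsg.Agent.Lib.Helper6.PM Cfsg.Agent.Lib.Helper2.PMS Cfsg.Agent.Lib.Helper2.PMC
open Cfsg.Agent.Lib.Helper2.HNOutD Cfsg.Agent.Lib.Helper2.RigidOut

set_option Elab.async false

/-- the searches from the fixed points of the element of order 10 -/
def FlH : List (ℕ × List ℕ × Cert) := [
  (0, ufs.getD 0 [], certH0),
  (511748, ufs.getD 1 [], certH1),
  (525080, ufs.getD 2 [], certH2),
  (1048547, ufs.getD 3 [], certH3),
  (1139658, ufs.getD 4 [], certH4)]

theorem chk_FlH : FlH.all (fun e => chkW M e.2.1 && Nat.beq (wappS M.px e.2.1 0) e.1 &&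
    chk M iv wh wh e.2.2 lvB (pendOf lvB) [0] e.2.1) = true := by
  rw [List.all_eq_true]
  intro e he
  simp only [FlH, List.mem_cons, List.not_mem_nil, or_false] at he
  rcases he with rfl | rfl | rfl | rfl | rfl
  · exact chk_H0
  · exact chk_H1
  · exact chk_H2
  · exact chk_H3
  · exact chk_H4

/-- the candidates for the image of the third generator -/
def candsL : List (List ℕ) := tab1a.map (·.1) ++ tab1b.map (·.1)

theorem leaves_FlH : FlH.all (fun e => leavesIn e.2.2 candsL) = true := by decide +kernel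

theorem chk_srcB : chkSrc M wh [0] lvB = true := by decide +kernel

theorem fixH_eq : fixH = FlH.map (·.1) := by decide

/-- the elements commuting with the element of order 10 -/
theorem centralizer_gh (c : M.G) (hc : c⁻¹ * gh * c = gh) : ∃ z ∈ candsL, c = M.elt z := by
  have hF : ∀ y < M.n, wapp M.px wh y = y → y ∈ FlH.map (·.1) := by
    rw [← fixH_eq]
    exact fixH_spec
  obtain ⟨e, he, z, hz, hcz⟩ := factsB.search_fix iv invMap wh wh (by decide) (by decide) chk_srcB
    fix0_wh FlH hF chk_FlH c hc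
  have h1 := leaves_FlH
  rw [List.all_eq_true] at h1
  exact ⟨z, mem_of_leavesIn (h1 e he) z hz, hcz⟩

end Cfsg.Agent.Lib.Helper2.HNOut
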