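import Cfsg.Agent.Lib.Helper2.HNOut.Out2

set_option autoImplicit false
set_option maxRecDepth 100000

/-! # The presented Harada–Norton group: the fixed points of the element of order 10, part 1 -/

namespace Cfsg.Agent.Lib.Helper2.HNOut

open Cfsg.Agent.Lib.Helper6 Cfsg.Agent.Lib.Helper6.TC Cfsg.Agent.Lib.Helper6.TCP
open Cfsg.Agent.Lib.Helper6.PM Cfsg.Agent.Lib.Helper2.PMS Cfsg.Agent.Lib.Helper2.PMC
open Cfsg.Agent.Lib.Helper2.HNOutD Cfsg.Agent.Lib.Helper2.RigidOut

set_option Elab.async false

theorem fixH_1_0 : chkFixRange M wh fixH 58000 5800 = true := by decide +kernel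

theorem fixH_1_1 : chkFixRange M wh fixH 63800 5800 = true := by decide +kernel

theorem fixH_1_2 : chkFixRange M wh fixH 69600 5800 = true := by decide +kernel

theorem fixH_1_3 : chkFixRange M wh fixH 75400 5800 = true := by decide +kernel

theorem fixH_1_4 : chkFixRange M wh fixH 81200 5800 = true := by decide +kernel

theorem fixH_1_5 : chkFixRange M wh fixH 87000 5800 = true := by decide +kernel

theorem fixH_1_6 : chkFixRange M wh fixH 92800 5800 = true := by decide +kernel

theorem fixH_1_7 : chkFixRange M wh fixH 98600 5800 = true := by decide +kernel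

theorem fixH_1_8 : chkFixRange M wh fixH 104400 5800 = true := by decide +kernel

theorem fixH_1_9 : chkFixRange M wh fixH 110200 5800 = true := by decide +kernel

/-- the ranges of the scan, part 1 -/
def rsH_1 : List (ℕ × ℕ) := [(58000, 5800), (63800, 5800), (69600, 5800), (75400, 5800), (81200, 5800), (87000, 5800), (92800, 5800), (98600, 5800), (104400, 5800), (110200, 5800)]

theorem fixH_file_1 : ∀ r ∈ rsH_1, chkFixRange M wh fixH r.1 r.2 = true := by
  intro r hr
  simp only [rsH_1, List.mem_cons, List.not_mem_nil, or_false] at hr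
  rcases hr with rfl | rfl | rfl | rfl | rfl | rfl | rfl | rfl | rfl | rfl
  · exact fixH_1_0
  · exact fixH_1_1
  · exact fixH_1_2
  · exact fixH_1_3
  · exact fixH_1_4
  · exact fixH_1_5
  · exact fixH_1_6
  · exact fixH_1_7
  · exact fixH_1_8
  · exact fixH_1_9

end Cfsg.Agent.Lib.Helper2.HNOut
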