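import Cfsg.Agent.Lib.Helper2.HNOut.Out2

set_option autoImplicit false
set_option maxRecDepth 100000

/-! # The presented Harada–Norton group: the fixed points of the element of order 10, part 11 -/

namespace Cfsg.Agent.Lib.Helper2.HNOut

open Cfsg.Agent.Lib.Helper6 Cfsg.Agent.Lib.Helper6.TC Cfsg.Agent.Lib.Helper6.TCP
open Cfsg.Agent.Lib.Helper6.PM Cfsg.Agent.Lib.Helper2.PMS Cfsg.Agent.Lib.Helper2.PMC
open Cfsg.Agent.Lib.Helper2.HNOutD Cfsg.Agent.Lib.Helper2.RigidOut

set_option Elab.async false

theorem fixH_11_0 : chkFixRange M wh fixH 638000 5800 = true := by decide +kernel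

theorem fixH_11_1 : chkFixRange M wh fixH 643800 5800 = true := by decide +kernel

theorem fixH_11_2 : chkFixRange M wh fixH 649600 5800 = true := by decide +kernel

theorem fixH_11_3 : chkFixRange M wh fixH 655400 5800 = true := by decide +kernel

theorem fixH_11_4 : chkFixRange M wh fixH 661200 5800 = true := by decide +kernel

theorem fixH_11_5 : chkFixRange M wh fixH 667000 5800 = true := by decide +kernel

theorem fixH_11_6 : chkFixRange M wh fixH 672800 5800 = true := by decide +kernel

theorem fixH_11_7 : chkFixRange M wh fixH 678600 5800 = true := by decide +kernel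

theorem fixH_11_8 : chkFixRange M wh fixH 684400 5800 = true := by decide +kernel

theorem fixH_11_9 : chkFixRange M wh fixH 690200 5800 = true := by decide +kernel

/-- the ranges of the scan, part 11 -/
def rsH_11 : List (ℕ × ℕ) := [(638000, 5800), (643800, 5800), (649600, 5800), (655400, 5800), (661200, 5800), (667000, 5800), (672800, 5800), (678600, 5800), (684400, 5800), (690200, 5800)]

theorem fixH_file_11 : ∀ r ∈ rsH_11, chkFixRange M wh fixH r.1 r.2 = true := by
  intro r hr
  simp only [rsH_11, List.mem_cons, List.not_mem_nil, or_false] at hr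
  rcases hr with rfl | rfl | rfl | rfl | rfl | rfl | rfl | rfl | rfl | rfl
  · exact fixH_11_0
  · exact fixH_11_1
  · exact fixH_11_2
  · exact fixH_11_3
  · exact fixH_11_4
  · exact fixH_11_5
  · exact fixH_11_6
  · exact fixH_11_7
  · exact fixH_11_8
  · exact fixH_11_9

end Cfsg.Agent.Lib.Helper2.HNOut
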