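import Cfsg.Agent.Lib.Helper2.HNOut.Out2

set_option autoImplicit false
set_option maxRecDepth 100000

/-! # The presented Harada–Norton group: the fixed points of the element of order 10, part 12 -/

namespace Cfsg.Agent.Lib.Helper2.HNOut

open Cfsg.Agent.Lib.Helper6 Cfsg.Agent.Lib.Helper6.TC Cfsg.Agent.Lib.Helper6.TCP
open Cfsg.Agent.Lib.Helper6.PM Cfsg.Agent.Lib.Helper2.PMS Cfsg.Agent.Lib.Helper2.PMC
open Cfsg.Agent.Lib.Helper2.HNOutD Cfsg.Agent.Lib.Helper2.RigidOut

set_option Elab.async false

theorem fixH_12_0 : chkFixRange M wh fixH 696000 5800 = true := by decide +kernel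

theorem fixH_12_1 : chkFixRange M wh fixH 701800 5800 = true := by decide +kernel

theorem fixH_12_2 : chkFixRange M wh fixH 707600 5800 = true := by decide +kernel

theorem fixH_12_3 : chkFixRange M wh fixH 713400 5800 = true := by decide +kernel

theorem fixH_12_4 : chkFixRange M wh fixH 719200 5800 = true := by decide +kernel

theorem fixH_12_5 : chkFixRange M wh fixH 725000 5800 = true := by decide +kernel

theorem fixH_12_6 : chkFixRange M wh fixH 730800 5800 = true := by decide +kernel

theorem fixH_12_7 : chkFixRange M wh fixH 736600 5800 = true := by decide +kernel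

theorem fixH_12_8 : chkFixRange M wh fixH 742400 5800 = true := by decide +kernel

theorem fixH_12_9 : chkFixRange M wh fixH 748200 5800 = true := by decide +kernel

/-- the ranges of the scan, part 12 -/
def rsH_12 : List (ℕ × ℕ) := [(696000, 5800), (701800, 5800), (707600, 5800), (713400, 5800), (719200, 5800), (725000, 5800), (730800, 5800), (736600, 5800), (742400, 5800), (748200, 5800)]

theorem fixH_file_12 : ∀ r ∈ rsH_12, chkFixRange M wh fixH r.1 r.2 = true := by
  intro r hr
  simp only [rsH_12, List.mem_cons, List.not_mem_nil, or_false] at hr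
  rcases hr with rfl | rfl | rfl | rfl | rfl | rfl | rfl | rfl | rfl | rfl
  · exact fixH_12_0
  · exact fixH_12_1
  · exact fixH_12_2
  · exact fixH_12_3
  · exact fixH_12_4
  · exact fixH_12_5
  · exact fixH_12_6
  · exact fixH_12_7
  · exact fixH_12_8
  · exact fixH_12_9

end Cfsg.Agent.Lib.Helper2.HNOut
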