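import Cfsg.Agent.Lib.Helper2.HNOut.Out2

set_option autoImplicit false
set_option maxRecDepth 100000

/-! # The presented Harada–Norton group: the fixed points of the element of order 10, part 13 -/

namespace Cfsg.Agent.Lib.Helper2.HNOut

open Cfsg.Agent.Lib.Helper6 Cfsg.Agent.Lib.Helper6.TC Cfsg.Agent.Lib.Helper6.TCP
open Cfsg.Agent.Lib.Helper6.PM Cfsg.Agent.Lib.Helper2.PMS Cfsg.Agent.Lib.Helper2.PMC
open Cfsg.Agent.Lib.Helper2.HNOutD Cfsg.Agent.Lib.Helper2.RigidOut

set_option Elab.async false

theorem fixH_13_0 : chkFixRange M wh fixH 754000 5800 = true := by decide +kernel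

theorem fixH_13_1 : chkFixRange M wh fixH 759800 5800 = true := by decide +kernel

theorem fixH_13_2 : chkFixRange M wh fixH 765600 5800 = true := by decide +kernel

theorem fixH_13_3 : chkFixRange M wh fixH 771400 5800 = true := by decide +kernel

theorem fixH_13_4 : chkFixRange M wh fixH 777200 5800 = true := by decide +kernel

theorem fixH_13_5 : chkFixRange M wh fixH 783000 5800 = true := by decide +kernel

theorem fixH_13_6 : chkFixRange M wh fixH 788800 5800 = true := by decide +kernel

theorem fixH_13_7 : chkFixRange M wh fixH 794600 5800 = true := by decide +kernel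

theorem fixH_13_8 : chkFixRange M wh fixH 800400 5800 = true := by decide +kernel

theorem fixH_13_9 : chkFixRange M wh fixH 806200 5800 = true := by decide +kernel

/-- the ranges of the scan, part 13 -/
def rsH_13 : List (ℕ × ℕ) := [(754000, 5800), (759800, 5800), (765600, 5800), (771400, 5800), (777200, 5800), (783000, 5800), (788800, 5800), (794600, 5800), (800400, 5800), (806200, 5800)]

theorem fixH_file_13 : ∀ r ∈ rsH_13, chkFixRange M wh fixH r.1 r.2 = true := by
  intro r hr
  simp only [rsH_13, List.mem_cons, List.not_mem_nil, or_false] at hr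
  rcases hr with rfl | rfl | rfl | rfl | rfl | rfl | rfl | rfl | rfl | rfl
  · exact fixH_13_0
  · exact fixH_13_1
  · exact fixH_13_2
  · exact fixH_13_3
  · exact fixH_13_4
  · exact fixH_13_5
  · exact fixH_13_6
  · exact fixH_13_7
  · exact fixH_13_8
  · exact fixH_13_9

end Cfsg.Agent.Lib.Helper2.HNOut
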