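import Cfsg.Agent.Lib.Helper2.HNOut.Out2

set_option autoImplicit false
set_option maxRecDepth 100000

/-! # The presented Harada–Norton group: the fixed points of the element of order 10, part 14 -/

namespace Cfsg.Agent.Lib.Helper2.HNOut

open Cfsg.Agent.Lib.Helper6 Cfsg.Agent.Lib.Helper6.TC Cfsg.Agent.Lib.Helper6.TCP
open Cfsg.Agent.Lib.Helper6.PM Cfsg.Agent.Lib.Helper2.PMS Cfsg.Agent.Lib.Helper2.PMC
open Cfsg.Agent.Lib.Helper2.HNOutD Cfsg.Agent.Lib.Helper2.RigidOut

set_option Elab.async false

theorem fixH_14_0 : chkFixRange M wh fixH 812000 5800 = true := by decide +kernel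

theorem fixH_14_1 : chkFixRange M wh fixH 817800 5800 = true := by decide +kernel

theorem fixH_14_2 : chkFixRange M wh fixH 823600 5800 = true := by decide +kernel

theorem fixH_14_3 : chkFixRange M wh fixH 829400 5800 = true := by decide +kernel

theorem fixH_14_4 : chkFixRange M wh fixH 835200 5800 = true := by decide +kernel

theorem fixH_14_5 : chkFixRange M wh fixH 841000 5800 = true := by decide +kernel

theorem fixH_14_6 : chkFixRange M wh fixH 846800 5800 = true := by decide +kernel

theorem fixH_14_7 : chkFixRange M wh fixH 852600 5800 = true := by decide +kernel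

theorem fixH_14_8 : chkFixRange M wh fixH 858400 5800 = true := by decide +kernel

theorem fixH_14_9 : chkFixRange M wh fixH 864200 5800 = true := by decide +kernel

/-- the ranges of the scan, part 14 -/
def rsH_14 : List (ℕ × ℕ) := [(812000, 5800), (817800, 5800), (823600, 5800), (829400, 5800), (835200, 5800), (841000, 5800), (846800, 5800), (852600, 5800), (858400, 5800), (864200, 5800)]

theorem fixH_file_14 : ∀ r ∈ rsH_14, chkFixRange M wh fixH r.1 r.2 = true := by
  intro r hr
  simp only [rsH_14, List.mem_cons, List.not_mem_nil, or_false] at hr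
  rcases hr with rfl | rfl | rfl | rfl | rfl | rfl | rfl | rfl | rfl | rfl
  · exact fixH_14_0
  · exact fixH_14_1
  · exact fixH_14_2
  · exact fixH_14_3
  · exact fixH_14_4
  · exact fixH_14_5
  · exact fixH_14_6
  · exact fixH_14_7
  · exact fixH_14_8
  · exact fixH_14_9

end Cfsg.Agent.Lib.Helper2.HNOut
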