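import Cfsg.Agent.Lib.Helper2.HNOut.Out2

set_option autoImplicit false
set_option maxRecDepth 100000

/-! # The presented Harada–Norton group: the fixed points of the element of order 10, part 15 -/

namespace Cfsg.Agent.Lib.Helper2.HNOut

open Cfsg.Agent.Lib.Helper6 Cfsg.Agent.Lib.Helper6.TC Cfsg.Agent.Lib.Helper6.TCP
open Cfsg.Agent.Lib.Helper6.PM Cfsg.Agent.Lib.Helper2.PMS Cfsg.Agent.Lib.Helper2.PMC
open Cfsg.Agent.Lib.Helper2.HNOutD Cfsg.Agent.Lib.Helper2.RigidOut

set_option Elab.async false

theorem fixH_15_0 : chkFixRange M wh fixH 870000 5800 = true := by decide +kernel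

theorem fixH_15_1 : chkFixRange M wh fixH 875800 5800 = true := by decide +kernel

theorem fixH_15_2 : chkFixRange M wh fixH 881600 5800 = true := by decide +kernel

theorem fixH_15_3 : chkFixRange M wh fixH 887400 5800 = true := by decide +kernel

theorem fixH_15_4 : chkFixRange M wh fixH 893200 5800 = true := by decide +kernel

theorem fixH_15_5 : chkFixRange M wh fixH 899000 5800 = true := by decide +kernel

theorem fixH_15_6 : chkFixRange M wh fixH 904800 5800 = true := by decide +kernel

theorem fixH_15_7 : chkFixRange M wh fixH 910600 5800 = true := by decide +kernel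

theorem fixH_15_8 : chkFixRange M wh fixH 916400 5800 = true := by decide +kernel

theorem fixH_15_9 : chkFixRange M wh fixH 922200 5800 = true := by decide +kernel

/-- the ranges of the scan, part 15 -/
def rsH_15 : List (ℕ × ℕ) := [(870000, 5800), (875800, 5800), (881600, 5800), (887400, 5800), (893200, 5800), (899000, 5800), (904800, 5800), (910600, 5800), (916400, 5800), (922200, 5800)]

theorem fixH_file_15 : ∀ r ∈ rsH_15, chkFixRange M wh fixH r.1 r.2 = true := by
  intro r hr
  simp only [rsH_15, List.mem_cons, List.not_mem_nil, or_false] at hr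
  rcases hr with rfl | rfl | rfl | rfl | rfl | rfl | rfl | rfl | rfl | rfl
  · exact fixH_15_0
  · exact fixH_15_1
  · exact fixH_15_2
  · exact fixH_15_3
  · exact fixH_15_4
  · exact fixH_15_5
  · exact fixH_15_6
  · exact fixH_15_7
  · exact fixH_15_8
  · exact fixH_15_9

end Cfsg.Agent.Lib.Helper2.HNOut
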