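import Cfsg.Agent.Lib.Helper2.HNOut.Out2

set_option autoImplicit false
set_option maxRecDepth 100000

/-! # The presented Harada–Norton group: the fixed points of the element of order 10, part 16 -/

namespace Cfsg.Agent.Lib.Helper2.HNOut

open Cfsg.Agent.Lib.Helper6 Cfsg.Agent.Lib.Helper6.TC Cfsg.Agent.Lib.Helper6.TCP
open Cfsg.Agent.Lib.Helper6.PM Cfsg.Agent.Lib.Helper2.PMS Cfsg.Agent.Lib.Helper2.PMC
open Cfsg.Agent.Lib.Helper2.HNOutD Cfsg.Agent.Lib.Helper2.RigidOut

set_option Elab.async false

theorem fixH_16_0 : chkFixRange M wh fixH 928000 5800 = true := by decide +kernel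

theorem fixH_16_1 : chkFixRange M wh fixH 933800 5800 = true := by decide +kernel

theorem fixH_16_2 : chkFixRange M wh fixH 939600 5800 = true := by decide +kernel

theorem fixH_16_3 : chkFixRange M wh fixH 945400 5800 = true := by decide +kernel

theorem fixH_16_4 : chkFixRange M wh fixH 951200 5800 = true := by decide +kernel

theorem fixH_16_5 : chkFixRange M wh fixH 957000 5800 = true := by decide +kernel

theorem fixH_16_6 : chkFixRange M wh fixH 962800 5800 = true := by decide +kernel

theorem fixH_16_7 : chkFixRange M wh fixH 968600 5800 = true := by decide +kernel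

theorem fixH_16_8 : chkFixRange M wh fixH 974400 5800 = true := by decide +kernel

theorem fixH_16_9 : chkFixRange M wh fixH 980200 5800 = true := by decide +kernel

/-- the ranges of the scan, part 16 -/
def rsH_16 : List (ℕ × ℕ) := [(928000, 5800), (933800, 5800), (939600, 5800), (945400, 5800), (951200, 5800), (957000, 5800), (962800, 5800), (968600, 5800), (974400, 5800), (980200, 5800)]

theorem fixH_file_16 : ∀ r ∈ rsH_16, chkFixRange M wh fixH r.1 r.2 = true := by
  intro r hr
  simp only [rsH_16, List.mem_cons, List.not_mem_nil, or_false] at hr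
  rcases hr with rfl | rfl | rfl | rfl | rfl | rfl | rfl | rfl | rfl | rfl
  · exact fixH_16_0
  · exact fixH_16_1
  · exact fixH_16_2
  · exact fixH_16_3
  · exact fixH_16_4
  · exact fixH_16_5
  · exact fixH_16_6
  · exact fixH_16_7
  · exact fixH_16_8
  · exact fixH_16_9

end Cfsg.Agent.Lib.Helper2.HNOut
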