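import Cfsg.Agent.Lib.Helper2.HNOut.Out2

set_option autoImplicit false
set_option maxRecDepth 100000

/-! # The presented Harada–Norton group: the fixed points of the element of order 10, part 17 -/

namespace Cfsg.Agent.Lib.Helper2.HNOut

open Cfsg.Agent.Lib.Helper6 Cfsg.Agent.Lib.Helper6.TC Cfsg.Agent.Lib.Helper6.TCP
open Cfsg.Agent.Lib.Helper6.PM Cfsg.Agent.Lib.Helper2.PMS Cfsg.Agent.Lib.Helper2.PMC
open Cfsg.Agent.Lib.Helper2.HNOutD Cfsg.Agent.Lib.Helper2.RigidOut

set_option Elab.async false

theorem fixH_17_0 : chkFixRange M wh fixH 986000 5800 = true := by decide +kernel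

theorem fixH_17_1 : chkFixRange M wh fixH 991800 5800 = true := by decide +kernel

theorem fixH_17_2 : chkFixRange M wh fixH 997600 5800 = true := by decide +kernel

theorem fixH_17_3 : chkFixRange M wh fixH 1003400 5800 = true := by decide +kernel

theorem fixH_17_4 : chkFixRange M wh fixH 1009200 5800 = true := by decide +kernel

theorem fixH_17_5 : chkFixRange M wh fixH 1015000 5800 = true := by decide +kernel

theorem fixH_17_6 : chkFixRange M wh fixH 1020800 5800 = true := by decide +kernel

theorem fixH_17_7 : chkFixRange M wh fixH 1026600 5800 = true := by decide +kernel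

theorem fixH_17_8 : chkFixRange M wh fixH 1032400 5800 = true := by decide +kernel

theorem fixH_17_9 : chkFixRange M wh fixH 1038200 5800 = true := by decide +kernel

/-- the ranges of the scan, part 17 -/
def rsH_17 : List (ℕ × ℕ) := [(986000, 5800), (991800, 5800), (997600, 5800), (1003400, 5800), (1009200, 5800), (1015000, 5800), (1020800, 5800), (1026600, 5800), (1032400, 5800), (1038200, 5800)]

theorem fixH_file_17 : ∀ r ∈ rsH_17, chkFixRange M wh fixH r.1 r.2 = true := by
  intro r hr
  simp only [rsH_17, List.mem_cons, List.not_mem_nil, or_false] at hr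
  rcases hr with rfl | rfl | rfl | rfl | rfl | rfl | rfl | rfl | rfl | rfl
  · exact fixH_17_0
  · exact fixH_17_1
  · exact fixH_17_2
  · exact fixH_17_3
  · exact fixH_17_4
  · exact fixH_17_5
  · exact fixH_17_6
  · exact fixH_17_7
  · exact fixH_17_8
  · exact fixH_17_9

end Cfsg.Agent.Lib.Helper2.HNOut
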