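import Cfsg.Agent.Lib.Helper2.HNOut.Out2

set_option autoImplicit false
set_option maxRecDepth 100000

/-! # The presented Harada–Norton group: the fixed points of the element of order 10, part 18 -/

namespace Cfsg.Agent.Lib.Helper2.HNOut

open Cfsg.Agent.Lib.Helper6 Cfsg.Agent.Lib.Helper6.TC Cfsg.Agent.Lib.Helper6.TCP
open Cfsg.Agent.Lib.Helper6.PM Cfsg.Agent.Lib.Helper2.PMS Cfsg.Agent.Lib.Helper2.PMC
open Cfsg.Agent.Lib.Helper2.HNOutD Cfsg.Agent.Lib.Helper2.RigidOut

set_option Elab.async false

theorem fixH_18_0 : chkFixRange M wh fixH 1044000 5800 = true := by decide +kernel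

theorem fixH_18_1 : chkFixRange M wh fixH 1049800 5800 = true := by decide +kernel

theorem fixH_18_2 : chkFixRange M wh fixH 1055600 5800 = true := by decide +kernel

theorem fixH_18_3 : chkFixRange M wh fixH 1061400 5800 = true := by decide +kernel

theorem fixH_18_4 : chkFixRange M wh fixH 1067200 5800 = true := by decide +kernel

theorem fixH_18_5 : chkFixRange M wh fixH 1073000 5800 = true := by decide +kernel

theorem fixH_18_6 : chkFixRange M wh fixH 1078800 5800 = true := by decide +kernel

theorem fixH_18_7 : chkFixRange M wh fixH 1084600 5800 = true := by decide +kernel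

theorem fixH_18_8 : chkFixRange M wh fixH 1090400 5800 = true := by decide +kernel

theorem fixH_18_9 : chkFixRange M wh fixH 1096200 5800 = true := by decide +kernel

/-- the ranges of the scan, part 18 -/
def rsH_18 : List (ℕ × ℕ) := [(1044000, 5800), (1049800, 5800), (1055600, 5800), (1061400, 5800), (1067200, 5800), (1073000, 5800), (1078800, 5800), (1084600, 5800), (1090400, 5800), (1096200, 5800)]

theorem fixH_file_18 : ∀ r ∈ rsH_18, chkFixRange M wh fixH r.1 r.2 = true := by
  intro r hr
  simp only [rsH_18, List.mem_cons, List.not_mem_nil, or_false] at hr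
  rcases hr with rfl | rfl | rfl | rfl | rfl | rfl | rfl | rfl | rfl | rfl
  · exact fixH_18_0
  · exact fixH_18_1
  · exact fixH_18_2
  · exact fixH_18_3
  · exact fixH_18_4
  · exact fixH_18_5
  · exact fixH_18_6
  · exact fixH_18_7
  · exact fixH_18_8
  · exact fixH_18_9

end Cfsg.Agent.Lib.Helper2.HNOut
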