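import Cfsg.Agent.Lib.Helper2.HNOut.Out2

set_option autoImplicit false
set_option maxRecDepth 100000

/-! # The presented Harada–Norton group: the fixed points of the element of order 10, part 19 -/

namespace Cfsg.Agent.Lib.Helper2.HNOut

open Cfsg.Agent.Lib.Helper6 Cfsg.Agent.Lib.Helper6.TC Cfsg.Agent.Lib.Helper6.TCP
open Cfsg.Agent.Lib.Helper6.PM Cfsg.Agent.Lib.Helper2.PMS Cfsg.Agent.Lib.Helper2.PMC
open Cfsg.Agent.Lib.Helper2.HNOutD Cfsg.Agent.Lib.Helper2.RigidOut

set_option Elab.async false

theorem fixH_19_0 : chkFixRange M wh fixH 1102000 5800 = true := by decide +kernel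

theorem fixH_19_1 : chkFixRange M wh fixH 1107800 5800 = true := by decide +kernel

theorem fixH_19_2 : chkFixRange M wh fixH 1113600 5800 = true := by decide +kernel

theorem fixH_19_3 : chkFixRange M wh fixH 1119400 5800 = true := by decide +kernel

theorem fixH_19_4 : chkFixRange M wh fixH 1125200 5800 = true := by decide +kernel

theorem fixH_19_5 : chkFixRange M wh fixH 1131000 5800 = true := by decide +kernel

theorem fixH_19_6 : chkFixRange M wh fixH 1136800 5800 = true := by decide +kernel

theorem fixH_19_7 : chkFixRange M wh fixH 1142600 5800 = true := by decide +kernel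

theorem fixH_19_8 : chkFixRange M wh fixH 1148400 5800 = true := by decide +kernel

theorem fixH_19_9 : chkFixRange M wh fixH 1154200 5800 = true := by decide +kernel

/-- the ranges of the scan, part 19 -/
def rsH_19 : List (ℕ × ℕ) := [(1102000, 5800), (1107800, 5800), (1113600, 5800), (1119400, 5800), (1125200, 5800), (1131000, 5800), (1136800, 5800), (1142600, 5800), (1148400, 5800), (1154200, 5800)]

theorem fixH_file_19 : ∀ r ∈ rsH_19, chkFixRange M wh fixH r.1 r.2 = true := by
  intro r hr
  simp only [rsH_19, List.mem_cons, List.not_mem_nil, or_false] at hr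
  rcases hr with rfl | rfl | rfl | rfl | rfl | rfl | rfl | rfl | rfl | rfl
  · exact fixH_19_0
  · exact fixH_19_1
  · exact fixH_19_2
  · exact fixH_19_3
  · exact fixH_19_4
  · exact fixH_19_5
  · exact fixH_19_6
  · exact fixH_19_7
  · exact fixH_19_8
  · exact fixH_19_9

end Cfsg.Agent.Lib.Helper2.HNOut
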