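import Cfsg.Agent.Lib.Helper2.HNOut.Out2

set_option autoImplicit false
set_option maxRecDepth 100000

/-! # The presented Harada–Norton group: the fixed points of the element of order 10, part 2 -/

namespace Cfsg.Agent.Lib.Helper2.HNOut

open Cfsg.Agent.Lib.Helper6 Cfsg.Agent.Lib.Helper6.TC Cfsg.Agent.Lib.Helper6.TCP
open Cfsg.Agent.Lib.Helper6.PM Cfsg.Agent.Lib.Helper2.PMS Cfsg.Agent.Lib.Helper2.PMC
open Cfsg.Agent.Lib.Helper2.HNOutD Cfsg.Agent.Lib.Helper2.RigidOut

set_option Elab.async false

theorem fixH_2_0 : chkFixRange M wh fixH 116000 5800 = true := by decide +kernel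

theorem fixH_2_1 : chkFixRange M wh fixH 121800 5800 = true := by decide +kernel

theorem fixH_2_2 : chkFixRange M wh fixH 127600 5800 = true := by decide +kernel

theorem fixH_2_3 : chkFixRange M wh fixH 133400 5800 = true := by decide +kernel

theorem fixH_2_4 : chkFixRange M wh fixH 139200 5800 = true := by decide +kernel

theorem fixH_2_5 : chkFixRange M wh fixH 145000 5800 = true := by decide +kernel

theorem fixH_2_6 : chkFixRange M wh fixH 150800 5800 = true := by decide +kernel

theorem fixH_2_7 : chkFixRange M wh fixH 156600 5800 = true := by decide +kernel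

theorem fixH_2_8 : chkFixRange M wh fixH 162400 5800 = true := by decide +kernel

theorem fixH_2_9 : chkFixRange M wh fixH 168200 5800 = true := by decide +kernel

/-- the ranges of the scan, part 2 -/
def rsH_2 : List (ℕ × ℕ) := [(116000, 5800), (121800, 5800), (127600, 5800), (133400, 5800), (139200, 5800), (145000, 5800), (150800, 5800), (156600, 5800), (162400, 5800), (168200, 5800)]

theorem fixH_file_2 : ∀ r ∈ rsH_2, chkFixRange M wh fixH r.1 r.2 = true := by
  intro r hr
  simp only [rsH_2, List.mem_cons, List.not_mem_nil, or_false] at hr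
  rcases hr with rfl | rfl | rfl | rfl | rfl | rfl | rfl | rfl | rfl | rfl
  · exact fixH_2_0
  · exact fixH_2_1
  · exact fixH_2_2
  · exact fixH_2_3
  · exact fixH_2_4
  · exact fixH_2_5
  · exact fixH_2_6
  · exact fixH_2_7
  · exact fixH_2_8
  · exact fixH_2_9

end Cfsg.Agent.Lib.Helper2.HNOut
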