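import Cfsg.Agent.Lib.Helper2.HNOut.Out2

set_option autoImplicit false
set_option maxRecDepth 100000

/-! # The presented Harada–Norton group: the fixed points of the element of order 10, part 20 -/

namespace Cfsg.Agent.Lib.Helper2.HNOut

open Cfsg.Agent.Lib.Helper6 Cfsg.Agent.Lib.Helper6.TC Cfsg.Agent.Lib.Helper6.TCP
open Cfsg.Agent.Lib.Helper6.PM Cfsg.Agent.Lib.Helper2.PMS Cfsg.Agent.Lib.Helper2.PMC
open Cfsg.Agent.Lib.Helper2.HNOutD Cfsg.Agent.Lib.Helper2.RigidOut

set_option Elab.async false

theorem fixH_20_0 : chkFixRange M wh fixH 1160000 5800 = true := by decide +kernel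

theorem fixH_20_1 : chkFixRange M wh fixH 1165800 5800 = true := by decide +kernel

theorem fixH_20_2 : chkFixRange M wh fixH 1171600 5800 = true := by decide +kernel

theorem fixH_20_3 : chkFixRange M wh fixH 1177400 5800 = true := by decide +kernel

theorem fixH_20_4 : chkFixRange M wh fixH 1183200 5800 = true := by decide +kernel

theorem fixH_20_5 : chkFixRange M wh fixH 1189000 5800 = true := by decide +kernel

theorem fixH_20_6 : chkFixRange M wh fixH 1194800 5800 = true := by decide +kernel

theorem fixH_20_7 : chkFixRange M wh fixH 1200600 5800 = true := by decide +kernel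

theorem fixH_20_8 : chkFixRange M wh fixH 1206400 5800 = true := by decide +kernel

theorem fixH_20_9 : chkFixRange M wh fixH 1212200 5800 = true := by decide +kernel

/-- the ranges of the scan, part 20 -/
def rsH_20 : List (ℕ × ℕ) := [(1160000, 5800), (1165800, 5800), (1171600, 5800), (1177400, 5800), (1183200, 5800), (1189000, 5800), (1194800, 5800), (1200600, 5800), (1206400, 5800), (1212200, 5800)]

theorem fixH_file_20 : ∀ r ∈ rsH_20, chkFixRange M wh fixH r.1 r.2 = true := by
  intro r hr
  simp only [rsH_20, List.mem_cons, List.not_mem_nil, or_false] at hr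
  rcases hr with rfl | rfl | rfl | rfl | rfl | rfl | rfl | rfl | rfl | rfl
  · exact fixH_20_0
  · exact fixH_20_1
  · exact fixH_20_2
  · exact fixH_20_3
  · exact fixH_20_4
  · exact fixH_20_5
  · exact fixH_20_6
  · exact fixH_20_7
  · exact fixH_20_8
  · exact fixH_20_9

end Cfsg.Agent.Lib.Helper2.HNOut
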