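import Cfsg.Agent.Lib.Helper2.HNOut.Out2

set_option autoImplicit false
set_option maxRecDepth 100000

/-! # The presented Harada–Norton group: the fixed points of the element of order 10, part 22 -/

namespace Cfsg.Agent.Lib.Helper2.HNOut

open Cfsg.Agent.Lib.Helper6 Cfsg.Agent.Lib.Helper6.TC Cfsg.Agent.Lib.Helper6.TCP
open Cfsg.Agent.Lib.Helper6.PM Cfsg.Agent.Lib.Helper2.PMS Cfsg.Agent.Lib.Helper2.PMC
open Cfsg.Agent.Lib.Helper2.HNOutD Cfsg.Agent.Lib.Helper2.RigidOut

set_option Elab.async false

theorem fixH_22_0 : chkFixRange M wh fixH 1276000 5800 = true := by decide +kernel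

theorem fixH_22_1 : chkFixRange M wh fixH 1281800 5800 = true := by decide +kernel

theorem fixH_22_2 : chkFixRange M wh fixH 1287600 5800 = true := by decide +kernel

theorem fixH_22_3 : chkFixRange M wh fixH 1293400 5800 = true := by decide +kernel

theorem fixH_22_4 : chkFixRange M wh fixH 1299200 5800 = true := by decide +kernel

theorem fixH_22_5 : chkFixRange M wh fixH 1305000 5800 = true := by decide +kernel

theorem fixH_22_6 : chkFixRange M wh fixH 1310800 5800 = true := by decide +kernel

theorem fixH_22_7 : chkFixRange M wh fixH 1316600 5800 = true := by decide +kernel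

theorem fixH_22_8 : chkFixRange M wh fixH 1322400 5800 = true := by decide +kernel

theorem fixH_22_9 : chkFixRange M wh fixH 1328200 5800 = true := by decide +kernel

/-- the ranges of the scan, part 22 -/
def rsH_22 : List (ℕ × ℕ) := [(1276000, 5800), (1281800, 5800), (1287600, 5800), (1293400, 5800), (1299200, 5800), (1305000, 5800), (1310800, 5800), (1316600, 5800), (1322400, 5800), (1328200, 5800)]

theorem fixH_file_22 : ∀ r ∈ rsH_22, chkFixRange M wh fixH r.1 r.2 = true := by
  intro r hr
  simp only [rsH_22, List.mem_cons, List.not_mem_nil, or_false] at hr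
  rcases hr with rfl | rfl | rfl | rfl | rfl | rfl | rfl | rfl | rfl | rfl
  · exact fixH_22_0
  · exact fixH_22_1
  · exact fixH_22_2
  · exact fixH_22_3
  · exact fixH_22_4
  · exact fixH_22_5
  · exact fixH_22_6
  · exact fixH_22_7
  · exact fixH_22_8
  · exact fixH_22_9

end Cfsg.Agent.Lib.Helper2.HNOut
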