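import Cfsg.Agent.Lib.Helper2.HNOut.Out2

set_option autoImplicit false
set_option maxRecDepth 100000

/-! # The presented Harada–Norton group: the fixed points of the element of order 10, part 23 -/

namespace Cfsg.Agent.Lib.Helper2.HNOut

open Cfsg.Agent.Lib.Helper6 Cfsg.Agent.Lib.Helper6.TC Cfsg.Agent.Lib.Helper6.TCP
open Cfsg.Agent.Lib.Helper6.PM Cfsg.Agent.Lib.Helper2.PMS Cfsg.Agent.Lib.Helper2.PMC
open Cfsg.Agent.Lib.Helper2.HNOutD Cfsg.Agent.Lib.Helper2.RigidOut

set_option Elab.async false

theorem fixH_23_0 : chkFixRange M wh fixH 1334000 5800 = true := by decide +kernel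

theorem fixH_23_1 : chkFixRange M wh fixH 1339800 5800 = true := by decide +kernel

theorem fixH_23_2 : chkFixRange M wh fixH 1345600 5800 = true := by decide +kernel

theorem fixH_23_3 : chkFixRange M wh fixH 1351400 5800 = true := by decide +kernel

theorem fixH_23_4 : chkFixRange M wh fixH 1357200 5800 = true := by decide +kernel

theorem fixH_23_5 : chkFixRange M wh fixH 1363000 5800 = true := by decide +kernel

theorem fixH_23_6 : chkFixRange M wh fixH 1368800 5800 = true := by decide +kernel

theorem fixH_23_7 : chkFixRange M wh fixH 1374600 5800 = true := by decide +kernel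

theorem fixH_23_8 : chkFixRange M wh fixH 1380400 5800 = true := by decide +kernel

theorem fixH_23_9 : chkFixRange M wh fixH 1386200 5800 = true := by decide +kernel

/-- the ranges of the scan, part 23 -/
def rsH_23 : List (ℕ × ℕ) := [(1334000, 5800), (1339800, 5800), (1345600, 5800), (1351400, 5800), (1357200, 5800), (1363000, 5800), (1368800, 5800), (1374600, 5800), (1380400, 5800), (1386200, 5800)]

theorem fixH_file_23 : ∀ r ∈ rsH_23, chkFixRange M wh fixH r.1 r.2 = true := by
  intro r hr
  simp only [rsH_23, List.mem_cons, List.not_mem_nil, or_false] at hr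
  rcases hr with rfl | rfl | rfl | rfl | rfl | rfl | rfl | rfl | rfl | rfl
  · exact fixH_23_0
  · exact fixH_23_1
  · exact fixH_23_2
  · exact fixH_23_3
  · exact fixH_23_4
  · exact fixH_23_5
  · exact fixH_23_6
  · exact fixH_23_7
  · exact fixH_23_8
  · exact fixH_23_9

end Cfsg.Agent.Lib.Helper2.HNOut
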