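import Cfsg.Agent.Lib.Helper2.HNOut.Out2

set_option autoImplicit false
set_option maxRecDepth 100000

/-! # The presented Harada–Norton group: the fixed points of the element of order 10, part 24 -/

namespace Cfsg.Agent.Lib.Helper2.HNOut

open Cfsg.Agent.Lib.Helper6 Cfsg.Agent.Lib.Helper6.TC Cfsg.Agent.Lib.Helper6.TCP
open Cfsg.Agent.Lib.Helper6.PM Cfsg.Agent.Lib.Helper2.PMS Cfsg.Agent.Lib.Helper2.PMC
open Cfsg.Agent.Lib.Helper2.HNOutD Cfsg.Agent.Lib.Helper2.RigidOut

set_option Elab.async false

theorem fixH_24_0 : chkFixRange M wh fixH 1392000 5800 = true := by decide +kernel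

theorem fixH_24_1 : chkFixRange M wh fixH 1397800 5800 = true := by decide +kernel

theorem fixH_24_2 : chkFixRange M wh fixH 1403600 5800 = true := by decide +kernel

theorem fixH_24_3 : chkFixRange M wh fixH 1409400 5800 = true := by decide +kernel

theorem fixH_24_4 : chkFixRange M wh fixH 1415200 5800 = true := by decide +kernel

theorem fixH_24_5 : chkFixRange M wh fixH 1421000 5800 = true := by decide +kernel

theorem fixH_24_6 : chkFixRange M wh fixH 1426800 5800 = true := by decide +kernel

theorem fixH_24_7 : chkFixRange M wh fixH 1432600 5800 = true := by decide +kernel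

theorem fixH_24_8 : chkFixRange M wh fixH 1438400 5800 = true := by decide +kernel

theorem fixH_24_9 : chkFixRange M wh fixH 1444200 5800 = true := by decide +kernel

/-- the ranges of the scan, part 24 -/
def rsH_24 : List (ℕ × ℕ) := [(1392000, 5800), (1397800, 5800), (1403600, 5800), (1409400, 5800), (1415200, 5800), (1421000, 5800), (1426800, 5800), (1432600, 5800), (1438400, 5800), (1444200, 5800)]

theorem fixH_file_24 : ∀ r ∈ rsH_24, chkFixRange M wh fixH r.1 r.2 = true := by
  intro r hr
  simp only [rsH_24, List.mem_cons, List.not_mem_nil, or_false] at hr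
  rcases hr with rfl | rfl | rfl | rfl | rfl | rfl | rfl | rfl | rfl | rfl
  · exact fixH_24_0
  · exact fixH_24_1
  · exact fixH_24_2
  · exact fixH_24_3
  · exact fixH_24_4
  · exact fixH_24_5
  · exact fixH_24_6
  · exact fixH_24_7
  · exact fixH_24_8
  · exact fixH_24_9

end Cfsg.Agent.Lib.Helper2.HNOut
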