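import Cfsg.Agent.Lib.Helper2.HNOut.Out2

set_option autoImplicit false
set_option maxRecDepth 100000

/-! # The presented Harada–Norton group: the fixed points of the element of order 10, part 25 -/

namespace Cfsg.Agent.Lib.Helper2.HNOut

open Cfsg.Agent.Lib.Helper6 Cfsg.Agent.Lib.Helper6.TC Cfsg.Agent.Lib.Helper6.TCP
open Cfsg.Agent.Lib.Helper6.PM Cfsg.Agent.Lib.Helper2.PMS Cfsg.Agent.Lib.Helper2.PMC
open Cfsg.Agent.Lib.Helper2.HNOutD Cfsg.Agent.Lib.Helper2.RigidOut

set_option Elab.async false

theorem fixH_25_0 : chkFixRange M wh fixH 1450000 5800 = true := by decide +kernel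

theorem fixH_25_1 : chkFixRange M wh fixH 1455800 5800 = true := by decide +kernel

theorem fixH_25_2 : chkFixRange M wh fixH 1461600 5800 = true := by decide +kernel

theorem fixH_25_3 : chkFixRange M wh fixH 1467400 5800 = true := by decide +kernel

theorem fixH_25_4 : chkFixRange M wh fixH 1473200 5800 = true := by decide +kernel

theorem fixH_25_5 : chkFixRange M wh fixH 1479000 5800 = true := by decide +kernel

theorem fixH_25_6 : chkFixRange M wh fixH 1484800 5800 = true := by decide +kernel

theorem fixH_25_7 : chkFixRange M wh fixH 1490600 5800 = true := by decide +kernel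

theorem fixH_25_8 : chkFixRange M wh fixH 1496400 5800 = true := by decide +kernel

theorem fixH_25_9 : chkFixRange M wh fixH 1502200 5800 = true := by decide +kernel

/-- the ranges of the scan, part 25 -/
def rsH_25 : List (ℕ × ℕ) := [(1450000, 5800), (1455800, 5800), (1461600, 5800), (1467400, 5800), (1473200, 5800), (1479000, 5800), (1484800, 5800), (1490600, 5800), (1496400, 5800), (1502200, 5800)]

theorem fixH_file_25 : ∀ r ∈ rsH_25, chkFixRange M wh fixH r.1 r.2 = true := by
  intro r hr
  simp only [rsH_25, List.mem_cons, List.not_mem_nil, or_false] at hr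
  rcases hr with rfl | rfl | rfl | rfl | rfl | rfl | rfl | rfl | rfl | rfl
  · exact fixH_25_0
  · exact fixH_25_1
  · exact fixH_25_2
  · exact fixH_25_3
  · exact fixH_25_4
  · exact fixH_25_5
  · exact fixH_25_6
  · exact fixH_25_7
  · exact fixH_25_8
  · exact fixH_25_9

end Cfsg.Agent.Lib.Helper2.HNOut
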