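import Cfsg.Agent.Lib.Helper2.HNOut.Out2

set_option autoImplicit false
set_option maxRecDepth 100000

/-! # The presented Harada–Norton group: the fixed points of the element of order 10, part 26 -/

namespace Cfsg.Agent.Lib.Helper2.HNOut

open Cfsg.Agent.Lib.Helper6 Cfsg.Agent.Lib.Helper6.TC Cfsg.Agent.Lib.Helper6.TCP
open Cfsg.Agent.Lib.Helper6.PM Cfsg.Agent.Lib.Helper2.PMS Cfsg.Agent.Lib.Helper2.PMC
open Cfsg.Agent.Lib.Helper2.HNOutD Cfsg.Agent.Lib.Helper2.RigidOut

set_option Elab.async false

theorem fixH_26_0 : chkFixRange M wh fixH 1508000 5800 = true := by decide +kernel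

theorem fixH_26_1 : chkFixRange M wh fixH 1513800 5800 = true := by decide +kernel

theorem fixH_26_2 : chkFixRange M wh fixH 1519600 5800 = true := by decide +kernel

theorem fixH_26_3 : chkFixRange M wh fixH 1525400 5800 = true := by decide +kernel

theorem fixH_26_4 : chkFixRange M wh fixH 1531200 5800 = true := by decide +kernel

theorem fixH_26_5 : chkFixRange M wh fixH 1537000 2000 = true := by decide +kernel

/-- the ranges of the scan, part 26 -/
def rsH_26 : List (ℕ × ℕ) := [(1508000, 5800), (1513800, 5800), (1519600, 5800), (1525400, 5800), (1531200, 5800), (1537000, 2000)]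

theorem fixH_file_26 : ∀ r ∈ rsH_26, chkFixRange M wh fixH r.1 r.2 = true := by
  intro r hr
  simp only [rsH_26, List.mem_cons, List.not_mem_nil, or_false] at hr
  rcases hr with rfl | rfl | rfl | rfl | rfl | rfl
  · exact fixH_26_0
  · exact fixH_26_1
  · exact fixH_26_2
  · exact fixH_26_3
  · exact fixH_26_4
  · exact fixH_26_5

end Cfsg.Agent.Lib.Helper2.HNOut
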