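import Cfsg.Agent.Lib.Helper2.HNOut.Out2

set_option autoImplicit false
set_option maxRecDepth 100000

/-! # The presented Harada–Norton group: the fixed points of the element of order 10, part 3 -/

namespace Cfsg.Agent.Lib.Helper2.HNOut

open Cfsg.Agent.Lib.Helper6 Cfsg.Agent.Lib.Helper6.TC Cfsg.Agent.Lib.Helper6.TCP
open Cfsg.Agent.Lib.Helper6.PM Cfsg.Agent.Lib.Helper2.PMS Cfsg.Agent.Lib.Helper2.PMC
open Cfsg.Agent.Lib.Helper2.HNOutD Cfsg.Agent.Lib.Helper2.RigidOut

set_option Elab.async false

theorem fixH_3_0 : chkFixRange M wh fixH 174000 5800 = true := by decide +kernel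

theorem fixH_3_1 : chkFixRange M wh fixH 179800 5800 = true := by decide +kernel

theorem fixH_3_2 : chkFixRange M wh fixH 185600 5800 = true := by decide +kernel

theorem fixH_3_3 : chkFixRange M wh fixH 191400 5800 = true := by decide +kernel

theorem fixH_3_4 : chkFixRange M wh fixH 197200 5800 = true := by decide +kernel

theorem fixH_3_5 : chkFixRange M wh fixH 203000 5800 = true := by decide +kernel

theorem fixH_3_6 : chkFixRange M wh fixH 208800 5800 = true := by decide +kernel

theorem fixH_3_7 : chkFixRange M wh fixH 214600 5800 = true := by decide +kernel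

theorem fixH_3_8 : chkFixRange M wh fixH 220400 5800 = true := by decide +kernel

theorem fixH_3_9 : chkFixRange M wh fixH 226200 5800 = true := by decide +kernel

/-- the ranges of the scan, part 3 -/
def rsH_3 : List (ℕ × ℕ) := [(174000, 5800), (179800, 5800), (185600, 5800), (191400, 5800), (197200, 5800), (203000, 5800), (208800, 5800), (214600, 5800), (220400, 5800), (226200, 5800)]

theorem fixH_file_3 : ∀ r ∈ rsH_3, chkFixRange M wh fixH r.1 r.2 = true := by
  intro r hr
  simp only [rsH_3, List.mem_cons, List.not_mem_nil, or_false] at hr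
  rcases hr with rfl | rfl | rfl | rfl | rfl | rfl | rfl | rfl | rfl | rfl
  · exact fixH_3_0
  · exact fixH_3_1
  · exact fixH_3_2
  · exact fixH_3_3
  · exact fixH_3_4
  · exact fixH_3_5
  · exact fixH_3_6
  · exact fixH_3_7
  · exact fixH_3_8
  · exact fixH_3_9

end Cfsg.Agent.Lib.Helper2.HNOut
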