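import Cfsg.Agent.Lib.Helper2.HNOut.Out2

set_option autoImplicit false
set_option maxRecDepth 100000

/-! # The presented Harada–Norton group: the fixed points of the element of order 10, part 4 -/

namespace Cfsg.Agent.Lib.Helper2.HNOut

open Cfsg.Agent.Lib.Helper6 Cfsg.Agent.Lib.Helper6.TC Cfsg.Agent.Lib.Helper6.TCP
open Cfsg.Agent.Lib.Helper6.PM Cfsg.Agent.Lib.Helper2.PMS Cfsg.Agent.Lib.Helper2.PMC
open Cfsg.Agent.Lib.Helper2.HNOutD Cfsg.Agent.Lib.Helper2.RigidOut

set_option Elab.async false

theorem fixH_4_0 : chkFixRange M wh fixH 232000 5800 = true := by decide +kernel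

theorem fixH_4_1 : chkFixRange M wh fixH 237800 5800 = true := by decide +kernel

theorem fixH_4_2 : chkFixRange M wh fixH 243600 5800 = true := by decide +kernel

theorem fixH_4_3 : chkFixRange M wh fixH 249400 5800 = true := by decide +kernel

theorem fixH_4_4 : chkFixRange M wh fixH 255200 5800 = true := by decide +kernel

theorem fixH_4_5 : chkFixRange M wh fixH 261000 5800 = true := by decide +kernel

theorem fixH_4_6 : chkFixRange M wh fixH 266800 5800 = true := by decide +kernel

theorem fixH_4_7 : chkFixRange M wh fixH 272600 5800 = true := by decide +kernel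

theorem fixH_4_8 : chkFixRange M wh fixH 278400 5800 = true := by decide +kernel

theorem fixH_4_9 : chkFixRange M wh fixH 284200 5800 = true := by decide +kernel

/-- the ranges of the scan, part 4 -/
def rsH_4 : List (ℕ × ℕ) := [(232000, 5800), (237800, 5800), (243600, 5800), (249400, 5800), (255200, 5800), (261000, 5800), (266800, 5800), (272600, 5800), (278400, 5800), (284200, 5800)]

theorem fixH_file_4 : ∀ r ∈ rsH_4, chkFixRange M wh fixH r.1 r.2 = true := by
  intro r hr
  simp only [rsH_4, List.mem_cons, List.not_mem_nil, or_false] at hr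
  rcases hr with rfl | rfl | rfl | rfl | rfl | rfl | rfl | rfl | rfl | rfl
  · exact fixH_4_0
  · exact fixH_4_1
  · exact fixH_4_2
  · exact fixH_4_3
  · exact fixH_4_4
  · exact fixH_4_5
  · exact fixH_4_6
  · exact fixH_4_7
  · exact fixH_4_8
  · exact fixH_4_9

end Cfsg.Agent.Lib.Helper2.HNOut
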