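import Cfsg.Agent.Lib.Helper2.HNOut.Out2

set_option autoImplicit false
set_option maxRecDepth 100000

/-! # The presented Harada–Norton group: the fixed points of the element of order 10, part 5 -/

namespace Cfsg.Agent.Lib.Helper2.HNOut

open Cfsg.Agent.Lib.Helper6 Cfsg.Agent.Lib.Helper6.TC Cfsg.Agent.Lib.Helper6.TCP
open Cfsg.Agent.Lib.Helper6.PM Cfsg.Agent.Lib.Helper2.PMS Cfsg.Agent.Lib.Helper2.PMC
open Cfsg.Agent.Lib.Helper2.HNOutD Cfsg.Agent.Lib.Helper2.RigidOut

set_option Elab.async false

theorem fixH_5_0 : chkFixRange M wh fixH 290000 5800 = true := by decide +kernel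

theorem fixH_5_1 : chkFixRange M wh fixH 295800 5800 = true := by decide +kernel

theorem fixH_5_2 : chkFixRange M wh fixH 301600 5800 = true := by decide +kernel

theorem fixH_5_3 : chkFixRange M wh fixH 307400 5800 = true := by decide +kernel

theorem fixH_5_4 : chkFixRange M wh fixH 313200 5800 = true := by decide +kernel

theorem fixH_5_5 : chkFixRange M wh fixH 319000 5800 = true := by decide +kernel

theorem fixH_5_6 : chkFixRange M wh fixH 324800 5800 = true := by decide +kernel

theorem fixH_5_7 : chkFixRange M wh fixH 330600 5800 = true := by decide +kernel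

theorem fixH_5_8 : chkFixRange M wh fixH 336400 5800 = true := by decide +kernel

theorem fixH_5_9 : chkFixRange M wh fixH 342200 5800 = true := by decide +kernel

/-- the ranges of the scan, part 5 -/
def rsH_5 : List (ℕ × ℕ) := [(290000, 5800), (295800, 5800), (301600, 5800), (307400, 5800), (313200, 5800), (319000, 5800), (324800, 5800), (330600, 5800), (336400, 5800), (342200, 5800)]

theorem fixH_file_5 : ∀ r ∈ rsH_5, chkFixRange M wh fixH r.1 r.2 = true := by
  intro r hr
  simp only [rsH_5, List.mem_cons, List.not_mem_nil, or_false] at hr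
  rcases hr with rfl | rfl | rfl | rfl | rfl | rfl | rfl | rfl | rfl | rfl
  · exact fixH_5_0
  · exact fixH_5_1
  · exact fixH_5_2
  · exact fixH_5_3
  · exact fixH_5_4
  · exact fixH_5_5
  · exact fixH_5_6
  · exact fixH_5_7
  · exact fixH_5_8
  · exact fixH_5_9

end Cfsg.Agent.Lib.Helper2.HNOut
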