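import Cfsg.Agent.Lib.Helper2.HNOut.Out2

set_option autoImplicit false
set_option maxRecDepth 100000

/-! # The presented Harada–Norton group: the fixed points of the element of order 10, part 6 -/

namespace Cfsg.Agent.Lib.Helper2.HNOut

open Cfsg.Agent.Lib.Helper6 Cfsg.Agent.Lib.Helper6.TC Cfsg.Agent.Lib.Helper6.TCP
open Cfsg.Agent.Lib.Helper6.PM Cfsg.Agent.Lib.Helper2.PMS Cfsg.Agent.Lib.Helper2.PMC
open Cfsg.Agent.Lib.Helper2.HNOutD Cfsg.Agent.Lib.Helper2.RigidOut

set_option Elab.async false

theorem fixH_6_0 : chkFixRange M wh fixH 348000 5800 = true := by decide +kernel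

theorem fixH_6_1 : chkFixRange M wh fixH 353800 5800 = true := by decide +kernel

theorem fixH_6_2 : chkFixRange M wh fixH 359600 5800 = true := by decide +kernel

theorem fixH_6_3 : chkFixRange M wh fixH 365400 5800 = true := by decide +kernel

theorem fixH_6_4 : chkFixRange M wh fixH 371200 5800 = true := by decide +kernel

theorem fixH_6_5 : chkFixRange M wh fixH 377000 5800 = true := by decide +kernel

theorem fixH_6_6 : chkFixRange M wh fixH 382800 5800 = true := by decide +kernel

theorem fixH_6_7 : chkFixRange M wh fixH 388600 5800 = true := by decide +kernel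

theorem fixH_6_8 : chkFixRange M wh fixH 394400 5800 = true := by decide +kernel

theorem fixH_6_9 : chkFixRange M wh fixH 400200 5800 = true := by decide +kernel

/-- the ranges of the scan, part 6 -/
def rsH_6 : List (ℕ × ℕ) := [(348000, 5800), (353800, 5800), (359600, 5800), (365400, 5800), (371200, 5800), (377000, 5800), (382800, 5800), (388600, 5800), (394400, 5800), (400200, 5800)]

theorem fixH_file_6 : ∀ r ∈ rsH_6, chkFixRange M wh fixH r.1 r.2 = true := by
  intro r hr
  simp only [rsH_6, List.mem_cons, List.not_mem_nil, or_false] at hr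
  rcases hr with rfl | rfl | rfl | rfl | rfl | rfl | rfl | rfl | rfl | rfl
  · exact fixH_6_0
  · exact fixH_6_1
  · exact fixH_6_2
  · exact fixH_6_3
  · exact fixH_6_4
  · exact fixH_6_5
  · exact fixH_6_6
  · exact fixH_6_7
  · exact fixH_6_8
  · exact fixH_6_9

end Cfsg.Agent.Lib.Helper2.HNOut
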