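import Cfsg.Agent.Lib.Helper2.HNOut.Out2

set_option autoImplicit false
set_option maxRecDepth 100000

/-! # The presented Harada–Norton group: the fixed points of the element of order 10, part 7 -/

namespace Cfsg.Agent.Lib.Helper2.HNOut

open Cfsg.Agent.Lib.Helper6 Cfsg.Agent.Lib.Helper6.TC Cfsg.Agent.Lib.Helper6.TCP
open Cfsg.Agent.Lib.Helper6.PM Cfsg.Agent.Lib.Helper2.PMS Cfsg.Agent.Lib.Helper2.PMC
open Cfsg.Agent.Lib.Helper2.HNOutD Cfsg.Agent.Lib.Helper2.RigidOut

set_option Elab.async false

theorem fixH_7_0 : chkFixRange M wh fixH 406000 5800 = true := by decide +kernel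

theorem fixH_7_1 : chkFixRange M wh fixH 411800 5800 = true := by decide +kernel

theorem fixH_7_2 : chkFixRange M wh fixH 417600 5800 = true := by decide +kernel

theorem fixH_7_3 : chkFixRange M wh fixH 423400 5800 = true := by decide +kernel

theorem fixH_7_4 : chkFixRange M wh fixH 429200 5800 = true := by decide +kernel

theorem fixH_7_5 : chkFixRange M wh fixH 435000 5800 = true := by decide +kernel

theorem fixH_7_6 : chkFixRange M wh fixH 440800 5800 = true := by decide +kernel

theorem fixH_7_7 : chkFixRange M wh fixH 446600 5800 = true := by decide +kernel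

theorem fixH_7_8 : chkFixRange M wh fixH 452400 5800 = true := by decide +kernel

theorem fixH_7_9 : chkFixRange M wh fixH 458200 5800 = true := by decide +kernel

/-- the ranges of the scan, part 7 -/
def rsH_7 : List (ℕ × ℕ) := [(406000, 5800), (411800, 5800), (417600, 5800), (423400, 5800), (429200, 5800), (435000, 5800), (440800, 5800), (446600, 5800), (452400, 5800), (458200, 5800)]

theorem fixH_file_7 : ∀ r ∈ rsH_7, chkFixRange M wh fixH r.1 r.2 = true := by
  intro r hr
  simp only [rsH_7, List.mem_cons, List.not_mem_nil, or_false] at hr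
  rcases hr with rfl | rfl | rfl | rfl | rfl | rfl | rfl | rfl | rfl | rfl
  · exact fixH_7_0
  · exact fixH_7_1
  · exact fixH_7_2
  · exact fixH_7_3
  · exact fixH_7_4
  · exact fixH_7_5
  · exact fixH_7_6
  · exact fixH_7_7
  · exact fixH_7_8
  · exact fixH_7_9

end Cfsg.Agent.Lib.Helper2.HNOut
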