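import Cfsg.Agent.Lib.Helper2.HNOut.Out2

set_option autoImplicit false
set_option maxRecDepth 100000

/-! # The presented Harada–Norton group: the fixed points of the element of order 10, part 8 -/

namespace Cfsg.Agent.Lib.Helper2.HNOut

open Cfsg.Agent.Lib.Helper6 Cfsg.Agent.Lib.Helper6.TC Cfsg.Agent.Lib.Helper6.TCP
open Cfsg.Agent.Lib.Helper6.PM Cfsg.Agent.Lib.Helper2.PMS Cfsg.Agent.Lib.Helper2.PMC
open Cfsg.Agent.Lib.Helper2.HNOutD Cfsg.Agent.Lib.Helper2.RigidOut

set_option Elab.async false

theorem fixH_8_0 : chkFixRange M wh fixH 464000 5800 = true := by decide +kernel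

theorem fixH_8_1 : chkFixRange M wh fixH 469800 5800 = true := by decide +kernel

theorem fixH_8_2 : chkFixRange M wh fixH 475600 5800 = true := by decide +kernel

theorem fixH_8_3 : chkFixRange M wh fixH 481400 5800 = true := by decide +kernel

theorem fixH_8_4 : chkFixRange M wh fixH 487200 5800 = true := by decide +kernel

theorem fixH_8_5 : chkFixRange M wh fixH 493000 5800 = true := by decide +kernel

theorem fixH_8_6 : chkFixRange M wh fixH 498800 5800 = true := by decide +kernel

theorem fixH_8_7 : chkFixRange M wh fixH 504600 5800 = true := by decide +kernel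

theorem fixH_8_8 : chkFixRange M wh fixH 510400 5800 = true := by decide +kernel

theorem fixH_8_9 : chkFixRange M wh fixH 516200 5800 = true := by decide +kernel

/-- the ranges of the scan, part 8 -/
def rsH_8 : List (ℕ × ℕ) := [(464000, 5800), (469800, 5800), (475600, 5800), (481400, 5800), (487200, 5800), (493000, 5800), (498800, 5800), (504600, 5800), (510400, 5800), (516200, 5800)]

theorem fixH_file_8 : ∀ r ∈ rsH_8, chkFixRange M wh fixH r.1 r.2 = true := by
  intro r hr
  simp only [rsH_8, List.mem_cons, List.not_mem_nil, or_false] at hr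
  rcases hr with rfl | rfl | rfl | rfl | rfl | rfl | rfl | rfl | rfl | rfl
  · exact fixH_8_0
  · exact fixH_8_1
  · exact fixH_8_2
  · exact fixH_8_3
  · exact fixH_8_4
  · exact fixH_8_5
  · exact fixH_8_6
  · exact fixH_8_7
  · exact fixH_8_8
  · exact fixH_8_9

end Cfsg.Agent.Lib.Helper2.HNOut
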