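import Cfsg.Agent.Lib.Helper2.HNOut.Out2

set_option autoImplicit false
set_option maxRecDepth 100000

/-! # The presented Harada–Norton group: the fixed points of the element of order 10, part 9 -/

namespace Cfsg.Agent.Lib.Helper2.HNOut

open Cfsg.Agent.Lib.Helper6 Cfsg.Agent.Lib.Helper6.TC Cfsg.Agent.Lib.Helper6.TCP
open Cfsg.Agent.Lib.Helper6.PM Cfsg.Agent.Lib.Helper2.PMS Cfsg.Agent.Lib.Helper2.PMC
open Cfsg.Agent.Lib.Helper2.HNOutD Cfsg.Agent.Lib.Helper2.RigidOut

set_option Elab.async false

theorem fixH_9_0 : chkFixRange M wh fixH 522000 5800 = true := by decide +kernel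

theorem fixH_9_1 : chkFixRange M wh fixH 527800 5800 = true := by decide +kernel

theorem fixH_9_2 : chkFixRange M wh fixH 533600 5800 = true := by decide +kernel

theorem fixH_9_3 : chkFixRange M wh fixH 539400 5800 = true := by decide +kernel

theorem fixH_9_4 : chkFixRange M wh fixH 545200 5800 = true := by decide +kernel

theorem fixH_9_5 : chkFixRange M wh fixH 551000 5800 = true := by decide +kernel

theorem fixH_9_6 : chkFixRange M wh fixH 556800 5800 = true := by decide +kernel

theorem fixH_9_7 : chkFixRange M wh fixH 562600 5800 = true := by decide +kernel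

theorem fixH_9_8 : chkFixRange M wh fixH 568400 5800 = true := by decide +kernel

theorem fixH_9_9 : chkFixRange M wh fixH 574200 5800 = true := by decide +kernel

/-- the ranges of the scan, part 9 -/
def rsH_9 : List (ℕ × ℕ) := [(522000, 5800), (527800, 5800), (533600, 5800), (539400, 5800), (545200, 5800), (551000, 5800), (556800, 5800), (562600, 5800), (568400, 5800), (574200, 5800)]

theorem fixH_file_9 : ∀ r ∈ rsH_9, chkFixRange M wh fixH r.1 r.2 = true := by
  intro r hr
  simp only [rsH_9, List.mem_cons, List.not_mem_nil, or_false] at hr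
  rcases hr with rfl | rfl | rfl | rfl | rfl | rfl | rfl | rfl | rfl | rfl
  · exact fixH_9_0
  · exact fixH_9_1
  · exact fixH_9_2
  · exact fixH_9_3
  · exact fixH_9_4
  · exact fixH_9_5
  · exact fixH_9_6
  · exact fixH_9_7
  · exact fixH_9_8
  · exact fixH_9_9

end Cfsg.Agent.Lib.Helper2.HNOut
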