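import Cfsg.Agent.Lib.Helper2.HNOut.Out3F0
import Cfsg.Agent.Lib.Helper2.HNOut.Out3F1
import Cfsg.Agent.Lib.Helper2.HNOut.Out3F2
import Cfsg.Agent.Lib.Helper2.HNOut.Out3F3
import Cfsg.Agent.Lib.Helper2.HNOut.Out3F4
import Cfsg.Agent.Lib.Helper2.HNOut.Out3F5
import Cfsg.Agent.Lib.Helper2.HNOut.Out3F6
import Cfsg.Agent.Lib.Helper2.HNOut.Out3F7
import Cfsg.Agent.Lib.Helper2.HNOut.Out3F8
import Cfsg.Agent.Lib.Helper2.HNOut.Out3F9
import Cfsg.Agent.Lib.Helper2.HNOut.Out3F10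
import Cfsg.Agent.Lib.Helper2.HNOut.Out3F11
import Cfsg.Agent.Lib.Helper2.HNOut.Out3F12
import Cfsg.Agent.Lib.Helper2.HNOut.Out3F13
import Cfsg.Agent.Lib.Helper2.HNOut.Out3F14
import Cfsg.Agent.Lib.Helper2.HNOut.Out3F15
import Cfsg.Agent.Lib.Helper2.HNOut.Out3F16
import Cfsg.Agent.Lib.Helper2.HNOut.Out3F17
import Cfsg.Agent.Lib.Helper2.HNOut.Out3F18
import Cfsg.Agent.Lib.Helper2.HNOut.Out3F19
import Cfsg.Agent.Lib.Helper2.HNOut.Out3F20
import Cfsg.Agent.Lib.Helper2.HNOut.Out3F21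
import Cfsg.Agent.Lib.Helper2.HNOut.Out3F22
import Cfsg.Agent.Lib.Helper2.HNOut.Out3F23
import Cfsg.Agent.Lib.Helper2.HNOut.Out3F24
import Cfsg.Agent.Lib.Helper2.HNOut.Out3F25
import Cfsg.Agent.Lib.Helper2.HNOut.Out3F26
import Cfsg.Agent.Lib.Helper2.PMChain10

set_option autoImplicit false
set_option maxRecDepth 100000

/-! # The presented Harada–Norton group: the fixed points of the element of order 10 -/

namespace Cfsg.Agent.Lib.Helper2.HNOut

open Cfsg.Agent.Lib.Helper6 Cfsg.Agent.Lib.Helper6.TC Cfsg.Agent.Lib.Helper6.TCP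
open Cfsg.Agent.Lib.Helper6.PM Cfsg.Agent.Lib.Helper2.PMS Cfsg.Agent.Lib.Helper2.PMC
open Cfsg.Agent.Lib.Helper2.HNOutD Cfsg.Agent.Lib.Helper2.RigidOut

set_option Elab.async false

/-- the ranges of the scan -/
def rsH : List (ℕ × ℕ) := rsH_0 ++ (rsH_1 ++ (rsH_2 ++ (rsH_3 ++ (rsH_4 ++ (rsH_5 ++ (rsH_6 ++ (rsH_7 ++ (rsH_8 ++ (rsH_9 ++ (rsH_10 ++ (rsH_11 ++ (rsH_12 ++ (rsH_13 ++ (rsH_14 ++ (rsH_15 ++ (rsH_16 ++ (rsH_17 ++ (rsH_18 ++ (rsH_19 ++ (rsH_20 ++ (rsH_21 ++ (rsH_22 ++ (rsH_23 ++ (rsH_24 ++ (rsH_25 ++ (rsH_26))))))))))))))))))))))))))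

theorem fixH_append {a b : List (ℕ × ℕ)} (ha : ∀ r ∈ a, chkFixRange M wh fixH r.1 r.2 = true)
    (hb : ∀ r ∈ b, chkFixRange M wh fixH r.1 r.2 = true) :
    ∀ r ∈ a ++ b, chkFixRange M wh fixH r.1 r.2 = true := by
  intro r hr
  rcases List.mem_append.mp hr with h | h
  · exact ha r h
  · exact hb r h

theorem fixH_all : ∀ r ∈ rsH, chkFixRange M wh fixH r.1 r.2 = true :=
  fixH_append fixH_file_0 (fixH_append fixH_file_1 (fixH_append fixH_file_2 (fixH_append fixH_file_3 (fixH_append fixH_file_4 (fixH_append fixH_file_5 (fixH_append fixH_file_6 (fixH_append fixH_file_7 (fixH_append fixH_file_8 (fixH_append fixH_file_9 (fixH_append fixH_file_10 (fixH_append fixH_file_11 (fixH_append fixH_file_12 (fixH_append fixH_file_13 (fixH_append fixH_file_14 (fixH_append fixH_file_15 (fixH_append fixH_file_16 (fixH_append fixH_file_17 (fixH_append fixH_file_18 (fixH_append fixH_file_19 (fixH_append fixH_file_20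 (fixH_append fixH_file_21 (fixH_append fixH_file_22 (fixH_append fixH_file_23 (fixH_append fixH_file_24 (fixH_append fixH_file_25 fixH_file_26)))))))))))))))))))))))))

theorem fixH_cover : chkCoverR M.n 0 rsH = true := by decide

theorem fixH_spec : ∀ y < M.n, wapp M.px wh y = y → y ∈ fixH :=
  forall_of_ranges (fun y => wapp M.px wh y = y → y ∈ fixH) M.n rsH
    (fun r hr => fixPts_of_range wh fixH r.1 r.2 (fixH_all r hr)) fixH_cover

end Cfsg.Agent.Lib.Helper2.HNOut
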