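import Cfsg.Agent.Lib.Helper2.HNOut.Out2

set_option autoImplicit false
set_option maxRecDepth 100000

/-! # The presented Harada–Norton group: the fixed points of the element of order 10, part 0 -/

namespace Cfsg.Agent.Lib.Helper2.HNOut

open Cfsg.Agent.Lib.Helper6 Cfsg.Agent.Lib.Helper6.TC Cfsg.Agent.Lib.Helper6.TCP
open Cfsg.Agent.Lib.Helper6.PM Cfsg.Agent.Lib.Helper2.PMS Cfsg.Agent.Lib.Helper2.PMC
open Cfsg.Agent.Lib.Helper2.HNOutD Cfsg.Agent.Lib.Helper2.RigidOut

set_option Elab.async false

theorem fixH_0_0 : chkFixRange M wh fixH 0 5800 = true := by decide +kernel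

theorem fixH_0_1 : chkFixRange M wh fixH 5800 5800 = true := by decide +kernel

theorem fixH_0_2 : chkFixRange M wh fixH 11600 5800 = true := by decide +kernel

theorem fixH_0_3 : chkFixRange M wh fixH 17400 5800 = true := by decide +kernel

theorem fixH_0_4 : chkFixRange M wh fixH 23200 5800 = true := by decide +kernel

theorem fixH_0_5 : chkFixRange M wh fixH 29000 5800 = true := by decide +kernel

theorem fixH_0_6 : chkFixRange M wh fixH 34800 5800 = true := by decide +kernel

theorem fixH_0_7 : chkFixRange M wh fixH 40600 5800 = true := by decide +kernel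

theorem fixH_0_8 : chkFixRange M wh fixH 46400 5800 = true := by decide +kernel

theorem fixH_0_9 : chkFixRange M wh fixH 52200 5800 = true := by decide +kernel

/-- the ranges of the scan, part 0 -/
def rsH_0 : List (ℕ × ℕ) := [(0, 5800), (5800, 5800), (11600, 5800), (17400, 5800), (23200, 5800), (29000, 5800), (34800, 5800), (40600, 5800), (46400, 5800), (52200, 5800)]

theorem fixH_file_0 : ∀ r ∈ rsH_0, chkFixRange M wh fixH r.1 r.2 = true := by
  intro r hr
  simp only [rsH_0, List.mem_cons, List.not_mem_nil, or_false] at hr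
  rcases hr with rfl | rfl | rfl | rfl | rfl | rfl | rfl | rfl | rfl | rfl
  · exact fixH_0_0
  · exact fixH_0_1
  · exact fixH_0_2
  · exact fixH_0_3
  · exact fixH_0_4
  · exact fixH_0_5
  · exact fixH_0_6
  · exact fixH_0_7
  · exact fixH_0_8
  · exact fixH_0_9

end Cfsg.Agent.Lib.Helper2.HNOut
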