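import Cfsg.Agent.Lib.Helper2.HNOut.Out2

set_option autoImplicit false
set_option maxRecDepth 100000

/-! # The presented Harada–Norton group: the fixed points of the element of order 10, part 10 -/

namespace Cfsg.Agent.Lib.Helper2.HNOut

open Cfsg.Agent.Lib.Helper6 Cfsg.Agent.Lib.Helper6.TC Cfsg.Agent.Lib.Helper6.TCP
open Cfsg.Agent.Lib.Helper6.PM Cfsg.Agent.Lib.Helper2.PMS Cfsg.Agent.Lib.Helper2.PMC
open Cfsg.Agent.Lib.Helper2.HNOutD Cfsg.Agent.Lib.Helper2.RigidOut

set_option Elab.async false

theorem fixH_10_0 : chkFixRange M wh fixH 580000 5800 = true := by decide +kernel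

theorem fixH_10_1 : chkFixRange M wh fixH 585800 5800 = true := by decide +kernel

theorem fixH_10_2 : chkFixRange M wh fixH 591600 5800 = true := by decide +kernel

theorem fixH_10_3 : chkFixRange M wh fixH 597400 5800 = true := by decide +kernel

theorem fixH_10_4 : chkFixRange M wh fixH 603200 5800 = true := by decide +kernel

theorem fixH_10_5 : chkFixRange M wh fixH 609000 5800 = true := by decide +kernel

theorem fixH_10_6 : chkFixRange M wh fixH 614800 5800 = true := by decide +kernel

theorem fixH_10_7 : chkFixRange M wh fixH 620600 5800 = true := by decide +kernel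

theorem fixH_10_8 : chkFixRange M wh fixH 626400 5800 = true := by decide +kernel

theorem fixH_10_9 : chkFixRange M wh fixH 632200 5800 = true := by decide +kernel

/-- the ranges of the scan, part 10 -/
def rsH_10 : List (ℕ × ℕ) := [(580000, 5800), (585800, 5800), (591600, 5800), (597400, 5800), (603200, 5800), (609000, 5800), (614800, 5800), (620600, 5800), (626400, 5800), (632200, 5800)]

theorem fixH_file_10 : ∀ r ∈ rsH_10, chkFixRange M wh fixH r.1 r.2 = true := by
  intro r hr
  simp only [rsH_10, List.mem_cons, List.not_mem_nil, or_false] at hr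
  rcases hr with rfl | rfl | rfl | rfl | rfl | rfl | rfl | rfl | rfl | rfl
  · exact fixH_10_0
  · exact fixH_10_1
  · exact fixH_10_2
  · exact fixH_10_3
  · exact fixH_10_4
  · exact fixH_10_5
  · exact fixH_10_6
  · exact fixH_10_7
  · exact fixH_10_8
  · exact fixH_10_9

end Cfsg.Agent.Lib.Helper2.HNOut
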