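import Cfsg.Agent.Lib.Helper2.HNOut.Out2

set_option autoImplicit false
set_option maxRecDepth 100000

/-! # The presented Harada–Norton group: the fixed points of the element of order 10, part 21 -/

namespace Cfsg.Agent.Lib.Helper2.HNOut

open Cfsg.Agent.Lib.Helper6 Cfsg.Agent.Lib.Helper6.TC Cfsg.Agent.Lib.Helper6.TCP
open Cfsg.Agent.Lib.Helper6.PM Cfsg.Agent.Lib.Helper2.PMS Cfsg.Agent.Lib.Helper2.PMC
open Cfsg.Agent.Lib.Helper2.HNOutD Cfsg.Agent.Lib.Helper2.RigidOut

set_option Elab.async false

theorem fixH_21_0 : chkFixRange M wh fixH 1218000 5800 = true := by decide +kernel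

theorem fixH_21_1 : chkFixRange M wh fixH 1223800 5800 = true := by decide +kernel

theorem fixH_21_2 : chkFixRange M wh fixH 1229600 5800 = true := by decide +kernel

theorem fixH_21_3 : chkFixRange M wh fixH 1235400 5800 = true := by decide +kernel

theorem fixH_21_4 : chkFixRange M wh fixH 1241200 5800 = true := by decide +kernel

theorem fixH_21_5 : chkFixRange M wh fixH 1247000 5800 = true := by decide +kernel

theorem fixH_21_6 : chkFixRange M wh fixH 1252800 5800 = true := by decide +kernel

theorem fixH_21_7 : chkFixRange M wh fixH 1258600 5800 = true := by decide +kernel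

theorem fixH_21_8 : chkFixRange M wh fixH 1264400 5800 = true := by decide +kernel

theorem fixH_21_9 : chkFixRange M wh fixH 1270200 5800 = true := by decide +kernel

/-- the ranges of the scan, part 21 -/
def rsH_21 : List (ℕ × ℕ) := [(1218000, 5800), (1223800, 5800), (1229600, 5800), (1235400, 5800), (1241200, 5800), (1247000, 5800), (1252800, 5800), (1258600, 5800), (1264400, 5800), (1270200, 5800)]

theorem fixH_file_21 : ∀ r ∈ rsH_21, chkFixRange M wh fixH r.1 r.2 = true := by
  intro r hr
  simp only [rsH_21, List.mem_cons, List.not_mem_nil, or_false] at hr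
  rcases hr with rfl | rfl | rfl | rfl | rfl | rfl | rfl | rfl | rfl | rfl
  · exact fixH_21_0
  · exact fixH_21_1
  · exact fixH_21_2
  · exact fixH_21_3
  · exact fixH_21_4
  · exact fixH_21_5
  · exact fixH_21_6
  · exact fixH_21_7
  · exact fixH_21_8
  · exact fixH_21_9

end Cfsg.Agent.Lib.Helper2.HNOut
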