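import Cfsg.Agent.Lib.Helper2.HNTcp

set_option autoImplicit false
set_option maxRecDepth 100000

/-! # Homomorphisms from the free group killing the base words of the Harada–Norton group kill its
relators -/

namespace Cfsg.Agent.Lib.Helper2.HNRel

open Cfsg.Spor Cfsg.Agent.Lib.Helper6.TC Cfsg.Agent.Lib.Helper6.TCP

/-- a homomorphism killing the base words, the image of `z` being an involution, kills the
relators -/
theorem rels_killed {Γ : Type*} [Group Γ] (ψ : FreeGroup HN.Gen →* Γ)
    (hz : (ψ HN.z)⁻¹ = ψ HN.z)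
    (hb : ∀ b ∈ HN.base, ψ (wordElt HN.gc b) = 1) : ∀ r ∈ HN.Rels, ψ r = 1 := by
  intro r hr
  rcases hr with hr | hr
  · obtain ⟨g, hg, _⟩ := hr
    simp [coxNodes, HN.edges] at hg
  · have hr' : r ∈ HN.extra := hr
    obtain ⟨k, hk, rfl⟩ := List.mem_iff_getElem.mp hr'
    have hk' : k < 14 := hk
    interval_cases k
    · rw [← HN.hb0]; exact hb _ (by decide)
    · rw [← HN.hb1]; exact hb _ (by decide)
    · rw [← HN.hb2]; exact hb _ (by decide)
    · rw [← HN.hb3]; exact hb _ (by decide)
    · rw [← HN.hb4]; exact hb _ (by decide)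
    · rw [← HN.hb5]; exact hb _ (by decide)
    · rw [← HN.hb6]; exact hb _ (by decide)
    · rw [← HN.hb7]; exact hb _ (by decide)
    · have h8 := hb [4, 2, 1, 3, 3, 1, 3, 1, 3, 4, 2, 0, 2, 0, 2, 2, 0, 3, 1, 1] (by decide)
      rw [wordElt_cons HN.gc 4, HN.ce4, map_mul] at h8
      rw [HN.hb8, map_mul, map_inv, hz]
      exact h8
    · rw [← HN.hb9]; exact hb _ (by decide)
    · rw [← HN.hb10]; exact hb _ (by decide)
    · rw [← HN.hb11]; exact hb _ (by decide)
    · rw [← HN.hb12]; exact hb _ (by decide)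
    · rw [← HN.hb13]; exact hb _ (by decide)

end Cfsg.Agent.Lib.Helper2.HNRel
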