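import Cfsg.Agent.Lib.Helper2.HNOut.Out4G
import Cfsg.Agent.Lib.Helper2.HNOut.Rel

set_option autoImplicit false
set_option maxRecDepth 100000

/-! # The presented Harada–Norton group: the outer automorphism -/

namespace Cfsg.Agent.Lib.Helper2.HNOut

open Cfsg.Spor
open Cfsg.Agent.Lib.Helper6 Cfsg.Agent.Lib.Helper6.TC Cfsg.Agent.Lib.Helper6.TCP
open Cfsg.Agent.Lib.Helper6.PM Cfsg.Agent.Lib.Helper2.PMS Cfsg.Agent.Lib.Helper2.PMC
open Cfsg.Agent.Lib.Helper2.HNOutD Cfsg.Agent.Lib.Helper2.RigidOut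

set_option Elab.async false

/-- the images of the letters: `x ↦ x`, `y ↦ y`, `z ↦ z x²`, `t ↦ t²` -/
def Bw : List (List ℕ) := [[0], [1], [2], [3], [4, 0, 0], [5, 5], [6, 6]]

/-- the images of the generators -/
noncomputable def bimg (g : HN.Gen) : M.G := M.elt (Bw.getD (Cfsg.Agent.Lib.Helper2.HNTcp.col g) [])

theorem chk_B01 : chkBaseR M [0] lvA (Bw.getD 0 [] ++ Bw.getD 1 []) [] = true := by decide +kernel
theorem chk_B23 : chkBaseR M [0] lvA (Bw.getD 2 [] ++ Bw.getD 3 []) [] = true := by decide +kernel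
theorem chk_B56 : chkBaseR M [0] lvA (Bw.getD 5 [] ++ Bw.getD 6 []) [] = true := by decide +kernel
theorem chk_B44 : chkBaseR M [0] lvA (Bw.getD 4 [] ++ Bw.getD 4 []) [] = true := by decide +kernel

theorem lift_col1 : (M.elt (Bw.getD 0 []))⁻¹ = M.elt (Bw.getD 1 []) := by
  have h := factsA.elt_eq_of_chk _ _ chk_B01
  rw [M.elt_append, M.elt_nil] at h
  exact inv_eq_of_mul_eq_one_right h

theorem lift_col3 : (M.elt (Bw.getD 2 []))⁻¹ = M.elt (Bw.getD 3 []) := by
  have h := factsA.elt_eq_of_chk _ _ chk_B23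
  rw [M.elt_append, M.elt_nil] at h
  exact inv_eq_of_mul_eq_one_right h

theorem lift_col6 : (M.elt (Bw.getD 5 []))⁻¹ = M.elt (Bw.getD 6 []) := by
  have h := factsA.elt_eq_of_chk _ _ chk_B56
  rw [M.elt_append, M.elt_nil] at h
  exact inv_eq_of_mul_eq_one_right h

theorem lift_col4 : (M.elt (Bw.getD 4 []))⁻¹ = M.elt (Bw.getD 4 []) := by
  have h := factsA.elt_eq_of_chk _ _ chk_B44
  rw [M.elt_append, M.elt_nil] at h
  exact inv_eq_of_mul_eq_one_right h

theorem lift_wordElt (b : List ℕ) (hb : ∀ c ∈ b, c < 7) :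
    FreeGroup.lift bimg (wordElt HN.gc b) = M.elt (expand Bw b) := by
  induction b with
  | nil =>
    rw [wordElt_nil, map_one, expand_nil, M.elt_nil]
  | cons c b ih =>
    have hc : c < 7 := hb c List.mem_cons_self
    rw [wordElt_cons, map_mul, ih (fun c' hc' => hb c' (List.mem_cons_of_mem _ hc')), expand_cons,
      M.elt_append]
    congr 1
    interval_cases c
    · rw [HN.ce0, FreeGroup.lift_apply_of]; rfl
    · rw [HN.ce1, map_inv, FreeGroup.lift_apply_of]; exact lift_col1
    · rw [HN.ce2, FreeGroup.lift_apply_of]; rfl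
    · rw [HN.ce3, map_inv, FreeGroup.lift_apply_of]; exact lift_col3
    · rw [HN.ce4, FreeGroup.lift_apply_of]; rfl
    · rw [HN.ce5, FreeGroup.lift_apply_of]; rfl
    · rw [HN.ce6, map_inv, FreeGroup.lift_apply_of]; exact lift_col6

theorem chk_rels : HN.base.all (fun b => chkBaseR M [0] lvA (expand Bw b) []) = true := by
  decide +kernel

theorem lift_rels : ∀ r ∈ HN.Rels, FreeGroup.lift bimg r = (1 : M.G) := by
  apply Cfsg.Agent.Lib.Helper2.HNRel.rels_killed
  · rw [FreeGroup.lift_apply_of]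
    exact lift_col4
  · intro b hb
    rw [lift_wordElt b (HN.hbl b hb)]
    have h1 := chk_rels
    rw [List.all_eq_true] at h1
    rw [factsA.elt_eq_of_chk _ _ (h1 b hb), M.elt_nil]

/-- the endomorphism -/
noncomputable def beta0 : M.G →* M.G := PresentedGroup.toGroup (G := M.G) lift_rels

theorem beta0_elt (w : List ℕ) (hw : ∀ c ∈ w, c < 7) : beta0 (M.elt w) = M.elt (expand Bw w) := by
  rw [← lift_wordElt w hw]
  rfl

theorem chk_bp : chkBaseR M [0] lvA (expand Bw wp) wp = true := by decide +kernel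
theorem chk_bh : chkBaseR M [0] lvA (expand Bw wh) (wh ++ [0, 0]) = true := by decide +kernel
theorem chk_bz : chkBaseR M [0] lvA (expand Bw [0, 0]) [0, 0] = true := by decide +kernel

theorem beta0_gp : beta0 gp = gp := by
  unfold gp
  rw [beta0_elt wp lt_wp]
  exact factsA.elt_eq_of_chk _ _ chk_bp

theorem beta0_gh : beta0 gh = gh * gz := by
  unfold gh gz
  rw [beta0_elt wh lt_wh, ← M.elt_append]
  exact factsA.elt_eq_of_chk _ _ chk_bh

theorem beta0_gz : beta0 gz = gz := by
  unfold gz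
  rw [beta0_elt [0, 0] lt_wz]
  exact factsA.elt_eq_of_chk _ _ chk_bz

/-- the square of the endomorphism is the conjugation by the central involution, on the letters -/
theorem chk_sq : (List.range 7).all (fun c =>
    chkBaseR M [0] lvA (expand Bw (expand Bw [c])) ([0, 0] ++ [c] ++ [0, 0])) = true := by
  decide +kernel

theorem beta0_sq_letter (c : ℕ) (hc : c < 7) :
    beta0 (beta0 (M.elt [c])) = gz * M.elt [c] * gz⁻¹ := by
  have hc1 : ∀ c' ∈ [c], c' < 7 := by
    intro c' hc'
    rw [List.mem_singleton] at hc'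
    rw [hc']
    exact hc
  have hc2 : ∀ c' ∈ expand Bw [c], c' < 7 := by
    interval_cases c <;> decide
  rw [beta0_elt [c] hc1, beta0_elt _ hc2, gz_inv]
  unfold gz
  rw [← M.elt_append, ← M.elt_append]
  have h1 := chk_sq
  rw [List.all_eq_true] at h1
  exact factsA.elt_eq_of_chk _ _ (h1 c (List.mem_range.mpr hc))

theorem beta0_sq (x : M.G) : beta0 (beta0 x) = gz * x * gz⁻¹ := by
  have h : beta0.comp beta0 = (MulAut.conj gz).toMonoidHom := by
    apply MonoidHom.eq_of_eqOn_dense M.closure_letters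
    rintro g ⟨c, hc, rfl⟩
    show beta0 (beta0 (M.elt [c])) = gz * M.elt [c] * gz⁻¹
    exact beta0_sq_letter c hc
  exact DFunLike.congr_fun h x

theorem beta0_bijective : Function.Bijective beta0 := by
  constructor
  · rw [injective_iff_map_eq_one]
    intro x hx
    have h := beta0_sq x
    rw [hx, map_one] at h
    have : x = gz⁻¹ * (gz * x * gz⁻¹) * gz := by group
    rw [this, ← h]
    group
  · intro y
    refine ⟨beta0 (gz⁻¹ * y * gz), ?_⟩
    rw [beta0_sq]
    group

/-- the outer automorphism -/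
noncomputable def beta : MulAut M.G := MulEquiv.ofBijective beta0 beta0_bijective

theorem beta_gp : beta gp = gp := beta0_gp
theorem beta_gh : beta gh = gh * gz := beta0_gh

end Cfsg.Agent.Lib.Helper2.HNOut
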