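import Cfsg.Agent.Lib.Helper2.HNOut.Out2

set_option autoImplicit false
set_option maxRecDepth 100000

/-! # The presented Harada–Norton group is generated by three elements -/

namespace Cfsg.Agent.Lib.Helper2.HNOut

open Cfsg.Agent.Lib.Helper6 Cfsg.Agent.Lib.Helper6.TC Cfsg.Agent.Lib.Helper6.TCP
open Cfsg.Agent.Lib.Helper6.PM Cfsg.Agent.Lib.Helper2.PMS Cfsg.Agent.Lib.Helper2.PMC
open Cfsg.Agent.Lib.Helper2.HNOutD Cfsg.Agent.Lib.Helper2.RigidOut

set_option Elab.async false

/-- the three generators and their inverses -/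
noncomputable def ws6 : List (List ℕ) := [wp, wh, wv, invw iv wp, invw iv wh, invw iv wv]

theorem chk_gen : chkGenR M [0] lvA ws6 Wl = true := by decide +kernel

theorem subH6_le : Cfsg.Agent.Lib.Helper6.PM.subH M ws6 ≤ Subgroup.closure ({gp, gh, gv} : Set M.G) := by
  unfold Cfsg.Agent.Lib.Helper6.PM.subH
  rw [Subgroup.closure_le]
  rintro g ⟨i, hi, rfl⟩
  have hi' : i < 6 := hi
  have hp : gp ∈ Subgroup.closure ({gp, gh, gv} : Set M.G) := Subgroup.subset_closure (by simp)
  have hh : gh ∈ Subgroup.closure ({gp, gh, gv} : Set M.G) := Subgroup.subset_closure (by simp)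
  have hv : gv ∈ Subgroup.closure ({gp, gh, gv} : Set M.G) := Subgroup.subset_closure (by simp)
  interval_cases i
  · exact hp
  · exact hh
  · exact hv
  · show M.elt (invw iv wp) ∈ _
    rw [← gp_inv]
    exact Subgroup.inv_mem _ hp
  · show M.elt (invw iv wh) ∈ _
    rw [← gh_inv]
    exact Subgroup.inv_mem _ hh
  · show M.elt (invw iv wv) ∈ _
    rw [← gv_inv]
    exact Subgroup.inv_mem _ hv

theorem closure_gens : Subgroup.closure ({gp, gh, gv} : Set M.G) = ⊤ := by
  have h3 := factsA.subH_eq_top ws6 Wl chk_gen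
  rw [eq_top_iff, ← h3]
  exact subH6_le

theorem hom_det (γ δ : M.G →* M.G) (h1 : γ gp = δ gp) (h2 : γ gh = δ gh) (h3 : γ gv = δ gv) :
    γ = δ := by
  apply MonoidHom.eq_of_eqOn_dense closure_gens
  intro x hx
  rcases hx with rfl | rfl | rfl
  · exact h1
  · exact h2
  · exact h3

theorem det (γ δ : MulAut M.G) (h1 : γ gp = δ gp) (h2 : γ gh = δ gh) (h3 : γ gv = δ gv) : γ = δ := by
  have : γ.toMonoidHom = δ.toMonoidHom := hom_det _ _ h1 h2 h3
  ext x
  exact DFunLike.congr_fun this x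

end Cfsg.Agent.Lib.Helper2.HNOut
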