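import Cfsg.Agent.Lib.Helper2.HNOut.Out2C
import Cfsg.Agent.Lib.Helper2.HNOut.Out3
import Cfsg.Agent.Lib.Helper2.HNOut.Out4

set_option autoImplicit false
set_option maxRecDepth 100000

/-! # The outer automorphism group of the presented Harada–Norton group has order two -/

namespace Cfsg.Agent.Lib.Helper2.HNOut

open Cfsg.Agent.Lib.Helper6 Cfsg.Agent.Lib.Helper6.TC Cfsg.Agent.Lib.Helper6.TCP
open Cfsg.Agent.Lib.Helper6.PM Cfsg.Agent.Lib.Helper2.PMS Cfsg.Agent.Lib.Helper2.PMC
open Cfsg.Agent.Lib.Helper2.HNOutD Cfsg.Agent.Lib.Helper2.RigidOut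

set_option Elab.async false

/-! ## The elimination of the other candidates -/

/-- the three generators -/
def ws3 : List (List ℕ) := [wp, wh, wv]

/-- the images of the three generators under a hypothetical automorphism -/
def ws3' (z : List ℕ) : List (List ℕ) := [wp, wh, z]

theorem chk_Rs : chkRelsR M [0] lvA ws3 Rs = true := by decide +kernel

theorem chk_tab1a : chkElimTab M ws3' Rs wv tab1a = true := by decide +kernel
theorem chk_tab1b : chkElimTab M ws3' Rs wc tab1b = true := by decide +kernel

theorem hf_of (α : MulAut M.G) (z : List ℕ) (hp : α gp = gp) (hh : α gh = gh)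
    (hv : α gv = M.elt z) :
    ∀ k < ws3.length, α.toMonoidHom (M.elt (ws3.getD k [])) = M.elt ((ws3' z).getD k []) := by
  intro k hk
  have hk' : k < 3 := hk
  interval_cases k
  · exact hp
  · exact hh
  · exact hv

theorem chk_wc : chkBaseR M [0] lvA wc ([0, 0] ++ wv ++ [0, 0]) = true := by decide +kernel

theorem elt_wc : M.elt wc = gz * gv * gz⁻¹ := by
  rw [gz_inv]
  unfold gz gv
  rw [← M.elt_append, ← M.elt_append]
  exact factsA.elt_eq_of_chk _ _ chk_wc

/-! ## The classification of the normalized automorphisms -/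

theorem hclass (α : MulAut M.G) (hp : α gp = gp) (hh : α gh = gh) :
    α ∈ (MulAut.conj : M.G →* MulAut M.G).range := by
  have hc : (α gv)⁻¹ * gh * α gv = gh := by
    have := congrArg α rel_vh
    rw [map_mul, map_mul, map_inv, hh] at this
    exact this
  obtain ⟨z, hz, hv⟩ := centralizer_gh (α gv) hc
  unfold candsL at hz
  rw [List.mem_append] at hz
  rcases hz with hz | hz
  · have := factsA.good_of_elimTab α.toMonoidHom ws3 ws3' Rs chk_Rs wv tab1a chk_tab1a z hz
      (hf_of α z hp hh hv)
    rw [this] at hv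
    refine ⟨1, ?_⟩
    rw [map_one]
    exact (det α 1 hp hh hv).symm
  · have := factsA.good_of_elimTab α.toMonoidHom ws3 ws3' Rs chk_Rs wc tab1b chk_tab1b z hz
      (hf_of α z hp hh hv)
    rw [this, elt_wc] at hv
    refine ⟨gz, ?_⟩
    symm
    apply det α (MulAut.conj gz)
    · rw [hp, MulAut.conj_apply, gz_gp, mul_assoc, mul_inv_cancel, mul_one]
    · rw [hh, MulAut.conj_apply, gz_gh, mul_assoc, mul_inv_cancel, mul_one]
    · rw [hv, MulAut.conj_apply]

theorem card_out_G : Nat.card (Cfsg.Out M.G) = 2 := by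
  have : Fact (Nat.Prime 11) := ⟨by norm_num⟩
  have hN := normalizer_gp
  have hβ : beta ∉ (MulAut.conj : M.G →* MulAut M.G).range :=
    not_inner_of_z 11 2 gp gh gz (by decide) orderOf_gp rel_ph gz_sq gz_ne gz_gh centralizer_gp
      beta beta_gp beta_gh
  have hnorm := rigid_normalize_z (G := M.G) 11 2 10 24820992000000 9 gp gh gz
    (by rw [card_G]) (by norm_num) orderOf_gp orderOf_gh
    (by norm_num) rel_ph (by norm_num) (by decide) hE (by norm_num) gz_gp hN
  exact card_out_two_of_normalized_z (G := M.G) gp gh gz beta hβ gz_sq beta_gp beta_gh hnorm hclass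

end Cfsg.Agent.Lib.Helper2.HNOut
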